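import Cfsg.Agent.Lib.CohExt.Frob
import Cfsg.Agent.S1516

/-!
# Coherence of the induced characters nontrivial on a central normal subgroup
-/

set_option autoImplicit false
set_option linter.all false

namespace Cfsg.Agent.CohExt

open scoped commutatorElement

universe u v

variable {L : Type u} [Group L] [Fintype L] {G : Type v} [Group G] [Fintype G]
  {τ : (L → ℂ) → (G → ℂ)} {R : (L → ℂ) → Finset (G → ℂ)} (K : Subgroup L)

theorem cs_subset {S S' : Set (L → ℂ)} (hS : IsCoherenceSystem S τ R) (hsub : S' ⊆ S) (hne : S'.Nonempty)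
    (hc : ∀ χ ∈ S', Cfsg.conjFun χ ∈ S') : IsCoherenceSystem S' τ R :=
  ⟨hne, fun χ h => hS.isCharacter χ (hsub h), hc,
    fun χ h => hS.conj_ne χ (hsub h),
    ⟨fun α h β h' => hS.isometry.1 α (OddChar.zspanOn_mono hsub h) β (OddChar.zspanOn_mono hsub h'),
      fun α h => hS.isometry.2.1 α (OddChar.zspanOn_mono hsub h),
      fun α h β h' => hS.isometry.2.2.1 α (OddChar.zspanOn_mono hsub h) β (OddChar.zspanOn_mono hsub h'),
      fun α h => hS.isometry.2.2.2 α (OddChar.zspanOn_mono hsub h)⟩,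
    fun α h => hS.map_one α (OddChar.zspanOn_mono hsub h),
    fun χ h φ h' => hS.orthogonal χ (hsub h) φ (hsub h'), fun χ h => hS.orthonormal χ (hsub h),
    fun χ h => hS.virtual χ (hsub h), fun χ h => hS.sum_eq χ (hsub h),
    fun χ h φ h' => hS.disjoint χ (hsub h) φ (hsub h')⟩

theorem deg_dvd_card {H : Type u} [Group H] [Finite H] {θ : H → ℂ} (hθ : IsIrrCharacter H θ) :
    CT.deg θ ∣ Nat.card H := by
  haveI := Fintype.ofFinite H
  obtain ⟨n, ρ, hρ, rfl⟩ := hθ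
  rw [CT.deg_eq_finrank ρ]
  exact CT.finrank_dvd_card ρ

theorem ind_not_mem [K.Normal] [Fintype K] (Z : Subgroup L) [hZ : Z.Normal] {θ : K → ℂ} (hθ : IsIrrCharacter K θ)
    (hnt : ∃ a : K, (a : L) ∈ Z ∧ θ a ≠ θ 1) : indFun K θ ∉ inducedIrrAbove K Z := by
  rintro ⟨φ, hφ, -, hker, he⟩
  obtain ⟨g, hg⟩ := (CT.mem_conjOrbit K).mp ((indFun_eq_iff K hφ hθ).mp he)
  obtain ⟨a, ha, hne⟩ := hnt
  apply hne
  rw [← hg]
  show φ ⟨g * a * g⁻¹, _⟩ = φ ⟨g * (1 : K) * g⁻¹, _⟩
  rw [hker ⟨g * a * g⁻¹, _⟩ (hZ.conj_mem _ ha g)]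
  congr 1
  exact Subtype.ext (by simp)

theorem coherent_nontrivial_central [hK : K.Normal] (hsolv : Group.IsSolvable K)
    (hS : IsCoherenceSystem (inducedIrrAbove K ⊥) τ R) (hodd : Odd (Nat.card L)) (hnil : Group.IsNilpotent K)
    (hH₁K : ⁅K, K⁆ < K) (hKL : K < ⊤)
    (hfrob : ∀ k ∈ K, k ∉ ⁅K, K⁆ → ∀ x : L, x * k * x⁻¹ * k⁻¹ ∈ ⁅K, K⁆ → x ∈ K) (Z : Subgroup L) [Z.Normal]
    (hZ1 : Z ≠ ⊥) (hZK : Z ≤ K) (hZc : ∀ z ∈ Z, ∀ k ∈ K, z * k = k * z)
    (hirr : ∀ χ ∈ inducedIrrAbove K ⊥ \ inducedIrrAbove K Z, IsIrrCharacter L χ) :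
    inducedIrrAbove K ⊥ \ inducedIrrAbove K Z = {χ | IsIrrCharacter L χ ∧ ∃ z ∈ Z, χ z ≠ χ 1} ∧
      IsCoherent (inducedIrrAbove K ⊥ \ inducedIrrAbove K Z) {1}ᶜ τ := by
  classical
  haveI := Fintype.ofFinite K
  haveI := Fintype.ofFinite Z
  set T := inducedIrrAbove K ⊥ \ inducedIrrAbove K Z with hT
  have hbot : ∀ θ : K → ℂ, ∀ a : K, (a : L) ∈ (⊥ : Subgroup L) → θ a = θ 1 := fun θ a ha => by
    rw [show a = 1 from Subtype.ext (Subgroup.mem_bot.mp ha)]
  have hmem : ∀ θ : K → ℂ, IsIrrCharacter K θ → (∃ a : K, (a : L) ∈ Z ∧ θ a ≠ θ 1) → indFun K θ ∈ T := by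
    intro θ hθ hnt
    refine ⟨⟨θ, hθ, fun e => ?_, hbot θ, rfl⟩, ind_not_mem K Z hθ hnt⟩
    obtain ⟨a, -, ha⟩ := hnt
    exact ha (by rw [e])
  have hrep : ∀ φ ∈ T, ∃ θ : K → ℂ, IsIrrCharacter K θ ∧ φ = indFun K θ ∧
      ∃ a : K, (a : L) ∈ Z ∧ θ a ≠ θ 1 := by
    rintro φ ⟨⟨θ, hθ, hne, -, rfl⟩, hno⟩
    refine ⟨θ, hθ, rfl, ?_⟩
    by_contra hall
    push Not at hall
    exact hno ⟨θ, hθ, hne, hall, rfl⟩
  have hnorm : ∀ φ ∈ T, classInner φ φ = 1 := fun φ h => CT.irr_inner_self (hirr φ h)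
  constructor
  · ext χ
    constructor
    · intro hχ
      refine ⟨hirr χ hχ, ?_⟩
      by_contra hall
      push Not at hall
      obtain ⟨θ, hθ, rfl, a, ha, hne⟩ := hrep χ hχ
      -- averaging over Z annihilates θ and all its conjugates
      set Z' := Z.subgroupOf K with hZ'
      haveI := Fintype.ofFinite Z'
      have hθ0 : ∑ z : Z', θ z = 0 := by
        by_contra h0
        have h' : classInner (fun z : Z' => θ z) (fun _ : Z' => (1 : ℂ)) ≠ 0 := by
          simp only [classInner, map_one, mul_one]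
          exact mul_ne_zero (inv_ne_zero (Nat.cast_ne_zero.mpr Nat.card_pos.ne')) h0
        have h := CT.restrict_eq_smul_of_invariant Z' hθ CT.isIrrCharacter_one h' (fun g => rfl)
        have h1 := congrFun h ⟨a, ha⟩
        have h2 := congrFun h 1
        simp only [Pi.smul_apply, smul_eq_mul, mul_one] at h1 h2
        exact hne (by rw [h1, show θ 1 = θ ((1 : Z') : K) from rfl, h2])
      have hsum : ∑ z : Z', indFun K θ (((z : K)) : L) = 0 := by
        simp only [CT.indFun_apply_normal K θ]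
        rw [← Finset.mul_sum, Finset.sum_comm, Finset.sum_eq_zero fun g _ => ?_, mul_zero]
        rw [← hθ0]
        refine Fintype.sum_equiv (Equiv.ofBijective (fun z : Z' => (⟨⟨g * ((z : K) : L) * g⁻¹,
          hK.conj_mem _ (z : K).2 g⟩, ‹Z.Normal›.conj_mem _ z.2 g⟩ : Z'))
          (Finite.injective_iff_bijective.mp fun x y e => by
            have := congrArg (fun w : Z' => ((w : K) : L)) e
            simpa [mul_left_inj, mul_right_inj] using this)) _ _ fun z => rfl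
      have hall' : ∀ z : Z', indFun K θ (((z : K)) : L) = indFun K θ 1 := fun z => hall _ z.2
      rw [Finset.sum_congr rfl fun z _ => hall' z, Finset.sum_const, nsmul_eq_mul, CT.indFun_one_eval] at hsum
      simp [Fintype.card_ne_zero, K.index_ne_zero_of_finite, CT.irr_one_ne_zero hθ] at hsum
    · rintro ⟨hχ, z, hz, hne⟩
      obtain ⟨θ, hθ⟩ := CT.exists_constituent_restrict K hχ
      have hnt : ∃ a : K, (a : L) ∈ Z ∧ (θ : K → ℂ) a ≠ (θ : K → ℂ) 1 := by
        by_contra hall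
        push Not at hall
        apply hne
        have hcl := CT.clifford K hχ θ.2 hθ
        have h1 := congrFun hcl ⟨z, hZK hz⟩
        have h2 := congrFun hcl 1
        simp only [Pi.smul_apply, Finset.sum_apply] at h1 h2
        rw [show χ z = χ (((⟨z, hZK hz⟩ : K)) : L) from rfl, h1, show χ 1 = χ (((1 : K)) : L) from rfl, h2]
        congr 1
        refine Finset.sum_congr rfl fun ψ hψ => ?_
        obtain ⟨g, rfl⟩ := (CT.mem_conjOrbit K).mp hψ
        show (θ : K → ℂ) ⟨g * z * g⁻¹, _⟩ = (θ : K → ℂ) ⟨g * (1 : K) * g⁻¹, _⟩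
        rw [hall ⟨g * z * g⁻¹, _⟩ (‹Z.Normal›.conj_mem _ hz g)]
        exact congrArg _ (Subtype.ext (by simp))
      have hiT := hmem θ θ.2 hnt
      have hind := hirr _ hiT
      have h3 : classInner (indFun K (θ : K → ℂ)) χ ≠ 0 := by
        rw [CT.frobenius_reciprocity K _ (CT.isClassFunction_of_isIrr hχ), CT.classInner_comm_of_char
          (CT.isCharacter_of_isIrr θ.2) (CT.isCharacter_restrict K (CT.isCharacter_of_isIrr hχ))]
        exact hθ
      have h4 : indFun K (θ : K → ℂ) = χ := by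
        by_contra hne
        exact h3 (CT.irr_inner_of_ne hind hχ hne)
      exact h4 ▸ hiT
  have hsub : T ⊆ inducedIrrAbove K ⊥ := Set.diff_subset
  have hTfin : T.Finite := (above_finite K hS ⊥).subset hsub
  have hTc : ∀ φ ∈ T, Cfsg.conjFun φ ∈ T := fun φ h =>
    ⟨above_conj K h.1, fun h' => h.2 (by simpa [OddChar.conjFun_conjFun] using above_conj K h')⟩
  set TF := hTfin.toFinset with hTF
  have hTFc : (↑TF : Set (L → ℂ)) = T := Set.Finite.coe_toFinset _
  have hd : ∀ φ ∈ inducedIrrAbove K ⊥, φ 1 = (CT.deg φ : ℂ) := fun φ h => CT.deg_eq (hS.isCharacter φ h)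
  -- the weighted sum over T
  have htotal : ∑ φ ∈ TF, CT.deg φ ^ 2 + K.index * Z.relIndex K = K.index * Nat.card K := by
    set A0 := (above_finite K hS ⊥).toFinset with hA0
    set AZ := (above_finite K hS Z).toFinset with hAZ
    have h0 := sum_above K ⊥ A0 (Set.Finite.coe_toFinset _)
    have hZ := sum_above K Z AZ (Set.Finite.coe_toFinset _)
    have hZ0 : AZ ⊆ A0 := Set.Finite.toFinset_subset_toFinset.mpr (above_mono K bot_le)
    have hdiff : A0 \ AZ = TF := by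
      ext φ; simp [hA0, hAZ, hTF, hT]
    rw [← Finset.sum_sdiff hZ0, hdiff, hZ, Subgroup.relIndex_bot_left,
      Finset.sum_congr rfl (g := fun φ => ((CT.deg φ ^ 2 : ℕ) : ℂ)) fun φ hφ => by
        have hφT : φ ∈ T := by rw [← hTFc]; exact hφ
        rw [hd φ (hsub hφT), hnorm φ hφT, div_one, Nat.cast_pow]] at h0
    have : ((∑ φ ∈ TF, CT.deg φ ^ 2 + K.index * Z.relIndex K : ℕ) : ℂ) = ((K.index * Nat.card K : ℕ) : ℂ) := by
      push_cast at h0 ⊢
      linear_combination h0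
    exact_mod_cast this
  have hTne : T.Nonempty := by
    by_contra hne
    rw [Set.not_nonempty_iff_eq_empty] at hne
    have he : TF = ∅ := by rw [← Finset.coe_eq_empty, hTFc, hne]
    rw [he, Finset.sum_empty, zero_add] at htotal
    have h1 := Nat.eq_of_mul_eq_mul_left (Nat.pos_of_ne_zero K.index_ne_zero_of_finite) htotal
    apply hZ1
    rw [← Subgroup.relIndex_bot_left K] at h1
    have h2 := Subgroup.relIndex_mul_relIndex ⊥ Z K bot_le hZK
    rw [← h1, Subgroup.relIndex_bot_left] at h2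
    exact Subgroup.card_eq_one.mp (Nat.eq_of_mul_eq_mul_right (Nat.pos_of_ne_zero Subgroup.index_ne_zero_of_finite)
      (h2.trans (one_mul _).symm))
  by_cases hp : ∃ p m : ℕ, p.Prime ∧ Nat.card K = p ^ m
  swap
  · haveI : ((⊥ : Subgroup L).subgroupOf K).Normal := inferInstance
    haveI := hnil
    have hcoh := frob_nilpotent K hsolv hS hodd ⊥ bot_le
      (Group.nilpotent_of_surjective (QuotientGroup.mk' _) (QuotientGroup.mk'_surjective _)) ⁅K, K⁆
      (sup_bot_eq _).symm hH₁K hKL hfrob (Or.inr (Or.inr (Or.inl (by rwa [Subgroup.relIndex_bot_left]))))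
    obtain ⟨φ, hφ⟩ := hTne
    exact restrict_coherent hS hsub subset_rfl hφ (hTc φ hφ) hcoh
  obtain ⟨p, m, hp, hpm⟩ := hp
  haveI : Fact p.Prime := ⟨hp⟩
  have hp3 : 3 ≤ p := by
    have hm : m ≠ 0 := fun h => by
      rw [h, pow_zero] at hpm
      exact hH₁K.not_ge ((Subgroup.card_eq_one.mp hpm).le.trans bot_le)
    have hop : Odd p := hodd.of_dvd_nat ((dvd_pow_self p hm).trans (hpm ▸ Subgroup.card_subgroup_dvd_card K))
    have := hp.two_le
    rcases hop with ⟨k, hk⟩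
    omega
  have hcop : Nat.Coprime K.index p := by
    obtain ⟨t, ht⟩ := frob_relIndex K ⁅K, K⁆ K le_rfl hH₁K.le le_rfl hfrob
    have h1 : ⁅K, K⁆.relIndex K ∣ p ^ m := hpm ▸ Subgroup.relIndex_dvd_card _ _
    obtain ⟨j, -, hj⟩ := (Nat.dvd_prime_pow hp).mp h1
    rcases j with _ | j
    · exact absurd (Subgroup.relIndex_eq_one.mp (by simpa using hj)) hH₁K.not_ge
    refine (hp.coprime_iff_not_dvd.mpr fun hd => hp.not_dvd_one ?_).symm
    have h2 : p ∣ K.index * t + 1 := by rw [← ht, hj, pow_succ]; exact dvd_mul_left _ _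
    exact (Nat.dvd_add_right (hd.mul_right t)).mp h2
  -- degrees of members
  have hdeg : ∀ φ ∈ T, ∃ c : ℕ, CT.deg φ = K.index * p ^ c ∧ p ^ (2 * c) ∣ Z.relIndex K := by
    intro φ hφ
    obtain ⟨θ, hθ, rfl, -⟩ := hrep φ hφ
    obtain ⟨c, -, hc⟩ := (Nat.dvd_prime_pow hp).mp (hpm ▸ deg_dvd_card hθ)
    refine ⟨c, by rw [deg_indFun K (CT.isCharacter_of_isIrr hθ), hc], ?_⟩
    obtain ⟨j, -, hj⟩ := (Nat.dvd_prime_pow hp).mp (hpm ▸ Subgroup.relIndex_dvd_card Z K)
    have hle := deg_sq_le_index hθ (Z.subgroupOf K) fun z hz =>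
      Subgroup.mem_center_iff.mpr fun y => Subtype.ext (hZc z hz y y.2).symm
    change CT.deg θ ^ 2 ≤ Z.relIndex K at hle
    rw [hj, hc, ← pow_mul] at hle
    rw [hj]
    exact Nat.pow_dvd_pow p (by
      have := (Nat.pow_le_pow_iff_right hp.one_lt).mp hle
      omega)
  obtain ⟨φ₀, hφ₀, hmin⟩ := Finset.exists_min_image TF CT.deg
    (by rwa [← Finset.coe_nonempty, hTFc])
  have hφ₀T : φ₀ ∈ T := by rw [← hTFc]; exact hφ₀
  have hdc : ∀ φ ∈ T, CT.deg (Cfsg.conjFun φ) = CT.deg φ := fun φ h => by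
    have h1 := hd φ (hsub h)
    have h2 := hd _ (hsub (hTc φ h))
    rw [OddChar.conjFun_one_of_char (hS.isCharacter φ (hsub h)), h1] at h2
    exact_mod_cast h2.symm
  let good : Finset (L → ℂ) → Prop := fun U =>
    φ₀ ∈ U ∧ (∀ φ ∈ U, Cfsg.conjFun φ ∈ U) ∧ IsCoherent (↑U : Set (L → ℂ)) {1}ᶜ τ ∧
      ∀ φ ∈ U, ∀ ψ ∈ TF, CT.deg ψ < CT.deg φ → ψ ∈ U
  set U0 := TF.filter (fun φ => CT.deg φ = CT.deg φ₀) with hU0
  have hU0sub : (↑U0 : Set (L → ℂ)) ⊆ T := fun φ h => by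
    rw [← hTFc]; exact Finset.mem_of_mem_filter φ h
  have hU0c : ∀ φ ∈ U0, Cfsg.conjFun φ ∈ U0 := fun φ h => by
    have hφT := hU0sub h
    refine Finset.mem_filter.mpr ⟨?_, (hdc φ hφT).trans (Finset.mem_filter.mp h).2⟩
    rw [← Finset.mem_coe, hTFc]; exact hTc φ hφT
  have hbase : U0 ∈ TF.powerset.filter good := by
    refine Finset.mem_filter.mpr ⟨Finset.mem_powerset.mpr (Finset.filter_subset _ _),
      Finset.mem_filter.mpr ⟨hφ₀, rfl⟩, hU0c, ?_, fun φ hφ ψ hψ hlt => ?_⟩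
    · refine Cfsg.Agent.S1517.result _ τ R (cs_subset hS (hU0sub.trans hsub)
        ⟨φ₀, Finset.mem_filter.mpr ⟨hφ₀, rfl⟩⟩ hU0c) fun φ hφ ψ hψ => ?_
      rw [hd φ (hsub (hU0sub hφ)), hd ψ (hsub (hU0sub hψ)), (Finset.mem_filter.mp hφ).2,
        (Finset.mem_filter.mp hψ).2]
    · have := hmin ψ hψ
      rw [(Finset.mem_filter.mp hφ).2] at hlt
      omega
  obtain ⟨U, hUmem, hmax⟩ := Finset.exists_max_image (TF.powerset.filter good) Finset.card ⟨U0, hbase⟩
  obtain ⟨hUsub', hU0', hUc, hUcoh, hUdown⟩ := Finset.mem_filter.mp hUmem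
  have hUsub : U ⊆ TF := Finset.mem_powerset.mp hUsub'
  have hUT : (↑U : Set (L → ℂ)) ⊆ T := fun φ h => by rw [← hTFc]; exact hUsub h
  have hall : TF ⊆ U := by
    by_contra hne
    obtain ⟨ψ₀, hψ₀, hψ₀U⟩ := Finset.not_subset.mp hne
    obtain ⟨χ, hχmem, hχmin⟩ := Finset.exists_min_image (TF \ U) CT.deg ⟨ψ₀, Finset.mem_sdiff.mpr ⟨hψ₀, hψ₀U⟩⟩
    obtain ⟨hχTF, hχU⟩ := Finset.mem_sdiff.mp hχmem
    have hχT : χ ∈ T := by rw [← hTFc]; exact hχTF
    have hlow : ∀ φ ∈ TF, CT.deg φ < CT.deg χ → φ ∈ U := fun φ hφ hlt => by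
      by_contra hno
      have := hχmin φ (Finset.mem_sdiff.mpr ⟨hφ, hno⟩)
      omega
    have hU0U : U0 ⊆ U := by
      intro φ hφ
      obtain ⟨hφT, hφd⟩ := Finset.mem_filter.mp hφ
      by_cases hall : ∀ ψ ∈ U, CT.deg ψ = CT.deg φ₀
      · have hUU : U ⊆ U0 := fun ψ h => Finset.mem_filter.mpr ⟨hUsub h, hall ψ h⟩
        have := Finset.eq_of_subset_of_card_le hUU (hmax U0 hbase)
        rw [this]; exact hφ
      · push Not at hall
        obtain ⟨ψ, hψ, hψd⟩ := hall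
        refine hUdown ψ hψ φ hφT ?_
        have := hmin ψ (hUsub hψ)
        omega
    obtain ⟨a, ha, hadvd⟩ := hdeg χ hχT
    obtain ⟨b, hb, -⟩ := hdeg φ₀ hφ₀T
    have he0 : 0 < K.index := Nat.pos_of_ne_zero K.index_ne_zero_of_finite
    have hba : b < a := by
      by_contra hno
      apply hχU
      apply hU0U
      refine Finset.mem_filter.mpr ⟨hχTF, le_antisymm ?_ (hmin χ hχTF)⟩
      rw [ha, hb]
      exact Nat.mul_le_mul_left _ (Nat.pow_le_pow_right hp.pos (by omega))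
    set low := TF.filter fun φ => CT.deg φ < CT.deg χ with hlowdef
    have hhigh : p ^ (2 * a) ∣ ∑ φ ∈ TF.filter (fun φ => ¬ CT.deg φ < CT.deg χ), CT.deg φ ^ 2 := by
      refine Finset.dvd_sum fun φ hφ => ?_
      obtain ⟨hφTF, hφge⟩ := Finset.mem_filter.mp hφ
      obtain ⟨c, hc, -⟩ := hdeg φ (by rw [← hTFc]; exact hφTF)
      rw [hc, ha, not_lt] at hφge
      have hac : a ≤ c := (Nat.pow_le_pow_iff_right hp.one_lt).mp (Nat.le_of_mul_le_mul_left hφge he0)
      rw [hc, mul_pow, ← pow_mul]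
      exact dvd_mul_of_dvd_right (Nat.pow_dvd_pow p (by omega)) _
    have hdvdlow : p ^ (2 * a) ∣ ∑ φ ∈ low, CT.deg φ ^ 2 := by
      have h1 : p ^ (2 * a) ∣ ∑ φ ∈ TF, CT.deg φ ^ 2 := by
        have h2 : p ^ (2 * a) ∣ K.index * Nat.card K :=
          dvd_mul_of_dvd_right (hadvd.trans (Subgroup.relIndex_dvd_card Z K)) _
        rw [← htotal] at h2
        exact (Nat.dvd_add_left (dvd_mul_of_dvd_right hadvd _)).mp h2
      rw [← Finset.sum_filter_add_sum_filter_not TF (fun φ => CT.deg φ < CT.deg χ)] at h1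
      exact (Nat.dvd_add_left hhigh).mp h1
    have hlowbig : K.index ^ 2 * p ^ (2 * a) ≤ ∑ φ ∈ low, CT.deg φ ^ 2 := by
      have hpos : 0 < ∑ φ ∈ low, CT.deg φ ^ 2 := by
        have h0mem : φ₀ ∈ low := Finset.mem_filter.mpr ⟨hφ₀, by
          rw [ha, hb]; exact Nat.mul_lt_mul_of_pos_left (Nat.pow_lt_pow_right hp.one_lt hba) he0⟩
        refine lt_of_lt_of_le ?_ (Finset.single_le_sum (fun φ _ => Nat.zero_le _) h0mem)
        rw [hb]; exact pow_pos (Nat.mul_pos he0 (pow_pos hp.pos b)) 2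
      refine Nat.le_of_dvd hpos (Nat.Coprime.mul_dvd_of_dvd_of_dvd (Nat.Coprime.pow _ _ hcop) ?_ hdvdlow)
      refine Finset.dvd_sum fun φ hφ => ?_
      obtain ⟨c, hc, -⟩ := hdeg φ (by rw [← hTFc]; exact Finset.mem_of_mem_filter φ hφ)
      rw [hc, mul_pow]
      exact dvd_mul_right _ _
    have hbound : 2 * CT.deg χ * CT.deg φ₀ < ∑ φ ∈ U, CT.deg φ ^ 2 := by
      refine lt_of_lt_of_le ?_ (hlowbig.trans (Finset.sum_le_sum_of_subset fun φ hφ => hlow φ
        (Finset.mem_of_mem_filter φ hφ) (Finset.mem_filter.mp hφ).2))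
      rw [ha, hb, show 2 * (K.index * p ^ a) * (K.index * p ^ b) = K.index ^ 2 * (2 * (p ^ a * p ^ b)) by ring]
      refine Nat.mul_lt_mul_of_pos_left ?_ (pow_pos he0 2)
      calc 2 * (p ^ a * p ^ b) < p * (p ^ a * p ^ b) := Nat.mul_lt_mul_of_pos_right (by omega)
            (Nat.mul_pos (pow_pos hp.pos a) (pow_pos hp.pos b))
        _ = p ^ (a + (b + 1)) := by ring
        _ ≤ _ := Nat.pow_le_pow_right hp.pos (by omega)
    obtain ⟨n, hn⟩ := norm_exists K hS
    have hn1 : ∀ φ ∈ T, n φ = 1 := fun φ h => by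
      have := hn φ (hsub h)
      rw [hnorm φ h] at this
      exact_mod_cast this.symm
    have hnew := Cfsg.Agent.S1516.result (inducedIrrAbove K ⊥) τ R hS CT.deg n hd hn U (hUT.trans hsub) hUc hUcoh
      χ (hsub hχT) hχU (fun h => hχU (by simpa [OddChar.conjFun_conjFun] using hUc _ h)) φ₀ hU0'
      (by rw [ha, hb]; exact mul_dvd_mul_left _ (Nat.pow_dvd_pow p hba.le))
      (by
        rw [Finset.sum_congr rfl (g := fun φ => ((CT.deg φ ^ 2 : ℕ) : ℝ)) fun φ hφ => by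
          rw [hn1 φ (hUT hφ), Nat.cast_one, div_one, Nat.cast_pow], ← Nat.cast_sum]
        exact_mod_cast hbound)
    set U' := U ∪ {χ, Cfsg.conjFun χ} with hU'
    have hU'mem : U' ∈ TF.powerset.filter good := by
      refine Finset.mem_filter.mpr ⟨Finset.mem_powerset.mpr ?_, Finset.mem_union_left _ hU0', fun φ hφ => ?_, ?_,
        fun φ hφ ψ hψ hlt => ?_⟩
      · refine Finset.union_subset hUsub (Finset.insert_subset hχTF (Finset.singleton_subset_iff.mpr ?_))
        rw [← Finset.mem_coe, hTFc]; exact hTc χ hχT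
      · simp only [hU', Finset.mem_union, Finset.mem_insert, Finset.mem_singleton] at hφ ⊢
        rcases hφ with h | rfl | rfl
        · exact Or.inl (hUc φ h)
        · exact Or.inr (Or.inr rfl)
        · exact Or.inr (Or.inl (OddChar.conjFun_conjFun _))
      · have e : (↑U' : Set (L → ℂ)) = ↑U ∪ {χ, Cfsg.conjFun χ} := by simp [hU']
        rw [e]; exact hnew
      · rw [hU', Finset.mem_union]
        left
        rcases Finset.mem_union.mp hφ with h | h
        · exact hUdown φ h ψ hψ hlt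
        · refine hlow ψ hψ ?_
          rcases Finset.mem_insert.mp h with rfl | h'
          · exact hlt
          · rwa [Finset.mem_singleton.mp h', hdc χ hχT] at hlt
    have := hmax U' hU'mem
    have h2 : U.card < U'.card := Finset.card_lt_card ⟨Finset.subset_union_left, fun h => hχU (h (by simp [hU']))⟩
    omega
  rwa [Finset.Subset.antisymm hUsub hall, hTFc] at hUcoh

end Cfsg.Agent.CohExt
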