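import Cfsg.Agent.Lib.ClassSum.Basic
import Cfsg.Agent.Lib.CT.Kernel
import Cfsg.Agent.Lib.CT.Integral
import Cfsg.Prelude.Def_OddOrderLocal
import Mathlib.GroupTheory.PGroup

/-!
# Values on a central subgroup of a TI Sylow subgroup
-/

set_option autoImplicit false
set_option linter.all false

namespace Cfsg.Agent.CohExt

open scoped ComplexConjugate

universe u

/-- A sum of invariant algebraic integers over a free action is divisible by the order of the group. -/
theorem dvd_sum_free {P : Type u} [Group P] [Finite P] {X : Type u} [DecidableEq X] (act : P →* Equiv.Perm X) (S : Finset X)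
    (hS : ∀ (s : P), ∀ x ∈ S, act s x ∈ S) (hfree : ∀ (s : P), ∀ x ∈ S, act s x = x → s = 1)
    (F : X → ℂ) (hF : ∀ (s : P) (x : X), F (act s x) = F x) (hint : ∀ x, IsIntegral ℤ (F x)) :
    ∃ γ : ℂ, IsIntegral ℤ γ ∧ ∑ x ∈ S, F x = (Nat.card P : ℂ) * γ := by
  classical
  haveI := Fintype.ofFinite P
  let orb : X → Finset X := fun x => Finset.univ.image fun s : P => act s x
  have hmul : ∀ (s t : P) (x : X), act (s * t) x = act s (act t x) := fun s t x => by
    rw [map_mul, Equiv.Perm.mul_apply]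
  have hfib : ∀ x ∈ S, S.filter (fun y => orb y = orb x) = orb x := fun x hx => by
    ext y
    simp only [Finset.mem_filter]
    constructor
    · rintro ⟨-, e⟩
      rw [← e]
      exact Finset.mem_image.mpr ⟨1, Finset.mem_univ _, by simp⟩
    · intro hy
      obtain ⟨s, -, rfl⟩ := Finset.mem_image.mp hy
      refine ⟨hS s x hx, ?_⟩
      ext w
      simp only [orb, Finset.mem_image, Finset.mem_univ, true_and]
      exact ⟨fun ⟨t, e⟩ => ⟨t * s, by rw [hmul, e]⟩, fun ⟨t, e⟩ => ⟨t * s⁻¹, by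
        rw [hmul, ← hmul s⁻¹, inv_mul_cancel, map_one, Equiv.Perm.one_apply, e]⟩⟩
  have hterm : ∀ O ∈ S.image orb, ∃ γ : ℂ, IsIntegral ℤ γ ∧
      ∑ x ∈ S.filter (fun y => orb y = O), F x = (Nat.card P : ℂ) * γ := by
    intro O hO
    obtain ⟨x, hx, rfl⟩ := Finset.mem_image.mp hO
    refine ⟨F x, hint x, ?_⟩
    rw [hfib x hx, Finset.sum_image, Finset.sum_congr rfl fun s _ => hF s x, Finset.sum_const,
      Finset.card_univ, nsmul_eq_mul, Nat.card_eq_fintype_card]
    intro s _ t _ e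
    have h : act (t⁻¹ * s) x = x := by
      rw [hmul, show act s x = act t x from e, ← hmul, inv_mul_cancel, map_one, Equiv.Perm.one_apply]
    exact (inv_mul_eq_one.mp (hfree _ x hx h)).symm
  choose γ hγ hsum using hterm
  refine ⟨∑ O ∈ (S.image orb).attach, γ O.1 O.2, IsIntegral.sum _ fun O _ => hγ _ _, ?_⟩
  rw [← Finset.sum_fiberwise_of_maps_to (t := S.image orb) (g := orb) (fun x hx => Finset.mem_image_of_mem _ hx),
    Finset.mul_sum, ← Finset.sum_attach]
  exact Finset.sum_congr rfl fun O _ => hsum _ _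

theorem int_dvd_of_integral {q : ℕ} (hq : 0 < q) {a : ℤ} {γ : ℂ} (hγ : IsIntegral ℤ γ)
    (h : (a : ℂ) = (q : ℂ) * γ) : (q : ℤ) ∣ a := by
  have hq' : (q : ℂ) ≠ 0 := Nat.cast_ne_zero.mpr hq.ne'
  have h1 : IsIntegral ℤ ((a : ℚ) / (q : ℚ)) := by
    refine (isIntegral_algHom_iff ((algebraMap ℚ ℂ).toIntAlgHom) (algebraMap ℚ ℂ).injective).mp ?_
    have : ((algebraMap ℚ ℂ).toIntAlgHom) ((a : ℚ) / (q : ℚ)) = γ := by
      simp [h, hq']
    rwa [this]
  obtain ⟨z, hz⟩ := IsIntegrallyClosed.isIntegral_iff.mp h1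
  simp only [algebraMap_int_eq, eq_intCast] at hz
  rw [eq_div_iff (Nat.cast_ne_zero.mpr hq.ne')] at hz
  exact ⟨z, by exact_mod_cast (by rw [mul_comm]; exact hz.symm : (a : ℚ) = (q : ℚ) * (z : ℚ))⟩

variable {G : Type u} [Group G] [Fintype G] {p : ℕ} [hp : Fact p.Prime] (P : Sylow p G)

theorem mem_normalizer_of_fix (hTI : IsTISubset ((P : Subgroup G) : Set G)) {g w : G}
    (hw : w ∈ (P : Subgroup G)) (hw1 : w ≠ 1) (h : g * w * g⁻¹ ∈ (P : Subgroup G)) :
    g ∈ Subgroup.normalizer ((P : Subgroup G) : Set G) :=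
  Classical.byContradiction fun hg => hw1 (hTI g hg w hw h)

theorem mem_sylow_of_mem_normalizer {g : G} (hg : g ∈ Subgroup.normalizer ((P : Subgroup G) : Set G))
    (hp' : ∃ k : ℕ, g ^ p ^ k = 1) : g ∈ (P : Subgroup G) := by
  obtain ⟨k, hk⟩ := hp'
  have hz : IsPGroup p (Subgroup.zpowers g) := by
    rintro ⟨x, hx⟩
    obtain ⟨j, rfl⟩ := Subgroup.mem_zpowers_iff.mp hx
    refine ⟨k, Subtype.ext ?_⟩
    rw [SubmonoidClass.coe_pow, OneMemClass.coe_one, ← zpow_natCast, ← zpow_mul, mul_comm, zpow_mul,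
      zpow_natCast, hk, one_zpow]
  have hsup : IsPGroup p ↥((P : Subgroup G) ⊔ Subgroup.zpowers g) :=
    IsPGroup.to_sup_of_normal_left' P.isPGroup' hz (Subgroup.zpowers_le.mpr hg)
  have := P.is_maximal' hsup le_sup_left
  rw [← this]
  exact Subgroup.mem_sup_right (Subgroup.mem_zpowers g)

theorem central_value_congr (hTI : IsTISubset ((P : Subgroup G) : Set G))
    (hodd : Odd (Nat.card (Subgroup.normalizer ((P : Subgroup G) : Set G)))) (Z : Subgroup G) (hZP : Z ≤ P)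
    (hZn : ∀ x ∈ Subgroup.normalizer ((P : Subgroup G) : Set G), ∀ z ∈ Z, x * z * x⁻¹ ∈ Z)
    (hZc : ∀ z ∈ Z, ∀ y ∈ (P : Subgroup G), z * y = y * z) {ψ : G → ℂ} (hψ : IsIrrCharacter G ψ)
    (hconst : ∀ z ∈ Z, ∀ z' ∈ Z, z ≠ 1 → z' ≠ 1 → ψ z = ψ z') {z : G} (hz : z ∈ Z) (hz1 : z ≠ 1) :
    ∃ n d : ℤ, ψ z = n ∧ ψ 1 = d ∧ (Nat.card (P : Subgroup G) : ℤ) ∣ d - n := by
  classical
  haveI := Fintype.ofFinite Z
  have hψc := CT.isCharacter_of_isIrr hψ
  have hcl := CT.isClassFunction_of_isIrr hψ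
  have hval : ∀ g, IsIntegral ℤ (ψ g) := fun g => by
    obtain ⟨m, ρ, hρ, rfl⟩ := hψ
    exact CT.isIntegral_char ρ g
  set D := CT.deg ψ with hD
  have hd : ψ 1 = (D : ℂ) := CT.deg_eq hψc
  -- the common value is rational
  obtain ⟨n, hn⟩ : ∃ n : ℤ, ψ z = n := by
    obtain ⟨a, ha⟩ := CT.classInner_character_nat (CT.isCharacter_restrict Z hψc) (CT.isCharacter_one (G := Z))
    simp only [Cfsg.classInner, map_one, mul_one] at ha
    have hsum : ∑ w : Z, ψ w = (D : ℂ) + ((Fintype.card Z - 1 : ℕ) : ℂ) * ψ z := by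
      rw [← Finset.add_sum_erase _ _ (Finset.mem_univ (1 : Z)), OneMemClass.coe_one, hd,
        Finset.sum_congr rfl fun (w : Z) hw => hconst (w : G) w.2 z hz
          (fun e => (Finset.mem_erase.mp hw).1 (Subtype.ext e)) hz1,
        Finset.sum_const, nsmul_eq_mul, Finset.card_erase_of_mem (Finset.mem_univ _), Finset.card_univ]
    rw [hsum, Nat.card_eq_fintype_card, inv_mul_eq_iff_eq_mul₀ (Nat.cast_ne_zero.mpr Fintype.card_ne_zero)] at ha
    have hcard : 1 < Fintype.card Z := Fintype.one_lt_card_iff.mpr ⟨⟨z, hz⟩, 1, fun e => hz1 (congrArg Subtype.val e)⟩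
    have hne : ((Fintype.card Z - 1 : ℕ) : ℚ) ≠ 0 := Nat.cast_ne_zero.mpr (by omega)
    have hq : ψ z = algebraMap ℚ ℂ ((((Fintype.card Z * a : ℕ) : ℚ) - D) / ((Fintype.card Z - 1 : ℕ) : ℚ)) := by
      have hne' : ((Fintype.card Z - 1 : ℕ) : ℂ) ≠ 0 := Nat.cast_ne_zero.mpr (by omega)
      simp only [map_div₀, map_sub, map_natCast]
      rw [eq_div_iff hne']
      push_cast
      linear_combination ha
    have hi := hval z
    rw [hq] at hi
    obtain ⟨n, hn⟩ := IsIntegrallyClosed.isIntegral_iff.mp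
      ((isIntegral_algHom_iff ((algebraMap ℚ ℂ).toIntAlgHom) (algebraMap ℚ ℂ).injective).mp hi)
    exact ⟨n, by rw [hq, ← hn]; simp⟩
  refine ⟨n, D, hn, by rw [hd]; simp, ?_⟩
  set N := Subgroup.normalizer ((P : Subgroup G) : Set G) with hN
  -- z is not conjugate to its inverse
  have hreal : ¬ IsConj z z⁻¹ := by
    intro h
    obtain ⟨g, hg⟩ := isConj_iff.mp h
    have hgN : g ∈ N := mem_normalizer_of_fix P hTI (hZP hz) hz1 (hg.symm ▸ Subgroup.inv_mem _ (hZP hz))
    obtain ⟨k, hk⟩ : Odd (orderOf (⟨g, hgN⟩ : N)) := hodd.of_dvd_nat (orderOf_dvd_natCard _)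
    have hgk : g ^ (2 * k + 1) = 1 := by
      have := congrArg (fun y : N => (y : G)) (pow_orderOf_eq_one (⟨g, hgN⟩ : N))
      simpa [hk] using this
    have h2 : Commute (g ^ 2) z := by
      show g ^ 2 * z = z * g ^ 2
      have hg' : g * z⁻¹ * g⁻¹ = z := by
        rw [show g * z⁻¹ * g⁻¹ = (g * z * g⁻¹)⁻¹ by group, hg, inv_inv]
      calc g ^ 2 * z = g * (g * z * g⁻¹) * g⁻¹ * g ^ 2 := by rw [sq]; group
        _ = z * g ^ 2 := by rw [hg, hg']
    have h3 : Commute g z := by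
      have : g = (g ^ 2) ^ (k + 1) := by
        rw [← pow_mul, show 2 * (k + 1) = (2 * k + 1) + 1 by ring, pow_succ, hgk, one_mul]
      rw [this]; exact h2.pow_left _
    rw [h3.eq, mul_inv_cancel_right] at hg
    have hz2 : z ^ 2 = 1 := by rw [sq]; nth_rewrite 1 [hg]; rw [inv_mul_cancel]
    have hord : orderOf (⟨z, le_normalizer_self P (hZP hz)⟩ : N) ∣ 2 :=
      orderOf_dvd_of_pow_eq_one (Subtype.ext hz2)
    rcases (Nat.dvd_prime Nat.prime_two).mp hord with h1 | h1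
    · exact hz1 (congrArg Subtype.val (orderOf_eq_one_iff.mp h1))
    · have := hodd.of_dvd_nat (h1 ▸ orderOf_dvd_natCard (⟨z, le_normalizer_self P (hZP hz)⟩ : N))
      exact absurd this (by decide)
  -- the class in Z
  let CZ : Finset G := Finset.univ.filter fun g => IsConj z g ∧ g ∈ Z
  have hcop : Nat.Coprime CZ.card p := by
    letI : MulAction N G := MulAction.compHom G ((MulAut.conj).comp N.subtype)
    have horb : (↑CZ : Set G) = MulAction.orbit N z := by
      ext g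
      simp only [CZ, Finset.coe_filter, Finset.mem_univ, true_and, Set.mem_setOf_eq, MulAction.mem_orbit_iff]
      constructor
      · rintro ⟨hg, hgZ⟩
        obtain ⟨c, rfl⟩ := isConj_iff.mp hg
        exact ⟨⟨c, mem_normalizer_of_fix P hTI (hZP hz) hz1 (hZP hgZ)⟩, rfl⟩
      · rintro ⟨⟨c, hc⟩, rfl⟩
        exact ⟨isConj_iff.mpr ⟨c, rfl⟩, hZn c hc z hz⟩
    rw [← Set.ncard_coe_finset, horb, ← MulAction.index_stabilizer]
    refine (hp.out.coprime_iff_not_dvd.mpr fun hd' => ?_).symm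
    have hle : (P : Subgroup G).subgroupOf N ≤ MulAction.stabilizer N z := by
      intro s hs
      rw [MulAction.mem_stabilizer_iff]
      show (s : G) * z * (s : G)⁻¹ = z
      rw [← hZc z hz s hs, mul_inv_cancel_right]
    exact P.not_dvd_index ((hd'.trans (Subgroup.index_dvd_of_le hle)).trans
      (Dvd.intro _ (Subgroup.relIndex_mul_index (le_normalizer_self P))))
  -- the pair congruence
  let act : (P : Subgroup G) →* Equiv.Perm (G × G) :=
    { toFun := fun s => ((MulAut.conj (s : G)).toEquiv).prodCongr (MulAut.conj (s : G)).toEquiv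
      map_one' := by ext q <;> simp
      map_mul' := fun s t => by ext q <;> simp [mul_assoc] }
  have hpair : ∀ w : G, IsConj z w ∨ IsConj z⁻¹ w → w ∈ Z →
      ∃ γ : ℂ, IsIntegral ℤ γ ∧ ClassSum.omega ψ (ClassSum.classInd z) * ∑ b : G, (ClassSum.classInd w b : ℂ) * ψ b
        = ∑ a ∈ CZ, ∑ b ∈ Finset.univ.filter (fun g => IsConj w g ∧ g ∈ Z), ψ (b * a) + (Nat.card (P : Subgroup G) : ℂ) * γ := by
    intro w hw hwZ
    set T := (Finset.univ : Finset (G × G)).filter fun q => IsConj z q.1 ∧ IsConj w q.2 with hT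
    have htot : ClassSum.omega ψ (ClassSum.classInd z) * ∑ b : G, (ClassSum.classInd w b : ℂ) * ψ b =
        ∑ q ∈ T, ψ (q.2 * q.1) := by
      rw [Finset.mul_sum, hT, Finset.sum_filter, Fintype.sum_prod_type_right]
      refine Finset.sum_congr rfl fun b _ => ?_
      rw [mul_left_comm, mul_comm (ClassSum.omega _ _) (ψ b),
        ClassSum.char_mul_omega hψ (ClassSum.classInd_isClassWeight z), Finset.mul_sum]
      refine Finset.sum_congr rfl fun a _ => ?_
      by_cases h1 : IsConj z a <;> by_cases h2 : IsConj w b <;>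
        simp [h1, h2, ClassSum.classInd, -isConj_iff]
    set Z2 := T.filter fun q => q.1 ∈ Z ∧ q.2 ∈ Z with hZ2
    have hZ2sum : ∑ q ∈ Z2, ψ (q.2 * q.1) =
        ∑ a ∈ CZ, ∑ b ∈ Finset.univ.filter (fun g => IsConj w g ∧ g ∈ Z), ψ (b * a) := by
      rw [← Finset.sum_product']
      refine Finset.sum_congr ?_ fun q _ => rfl
      ext q
      simp only [hZ2, hT, CZ, Finset.mem_filter, Finset.mem_univ, true_and, Finset.mem_product]
      tauto
    have hact : ∀ (s : (P : Subgroup G)) (q : G × G),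
        act s q = ((s : G) * q.1 * (s : G)⁻¹, (s : G) * q.2 * (s : G)⁻¹) := fun s q => rfl
    have hsmem : ∀ (s : (P : Subgroup G)) (v : G), v ∈ Z → (s : G) * v * (s : G)⁻¹ = v := fun s v hv => by
      rw [← hZc v hv s s.2, mul_inv_cancel_right]
    obtain ⟨γ, hγ, hsum⟩ := dvd_sum_free (P := (P : Subgroup G)) act (T.filter fun q => ¬ (q.1 ∈ Z ∧ q.2 ∈ Z))
      (fun s q hq => by
        simp only [hT, Finset.mem_filter, Finset.mem_univ, true_and, hact] at hq ⊢
        refine ⟨⟨hq.1.1.trans (isConj_iff.mpr ⟨_, rfl⟩), hq.1.2.trans (isConj_iff.mpr ⟨_, rfl⟩)⟩,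
          fun h => hq.2 ⟨?_, ?_⟩⟩
        · have e := hsmem s⁻¹ _ h.1
          simp [mul_assoc] at e
          simpa [mul_assoc, ← e] using h.1
        · have e := hsmem s⁻¹ _ h.2
          simp [mul_assoc] at e
          simpa [mul_assoc, ← e] using h.2)
      (fun s q hq hfix => by
        simp only [hT, Finset.mem_filter, Finset.mem_univ, true_and, hact] at hq hfix
        by_contra hs1
        have hs1' : (s : G) ≠ 1 := fun e => hs1 (Subtype.ext e)
        have key : ∀ v v₀ : G, v₀ ∈ Z → v₀ ≠ 1 → IsConj v₀ v → (s : G) * v * (s : G)⁻¹ = v → v ∈ Z := by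
          intro v v₀ hv₀ hv₁ hconj hv
          have hcomm : v * (s : G) * v⁻¹ = s := by
            have hc : (s : G) * v = v * s := mul_inv_eq_iff_eq_mul.mp hv
            rw [← hc, mul_inv_cancel_right]
          have hvN : v ∈ N := mem_normalizer_of_fix P hTI s.2 hs1' (hcomm.symm ▸ s.2)
          obtain ⟨c, rfl⟩ := isConj_iff.mp hconj
          obtain ⟨k, hk⟩ := P.isPGroup' ⟨v₀, hZP hv₀⟩
          have hk' : v₀ ^ p ^ k = 1 := congrArg Subtype.val hk
          have hvP := mem_sylow_of_mem_normalizer P hvN ⟨k, by rw [conj_pow, hk', mul_one, mul_inv_cancel]⟩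
          exact hZn c (mem_normalizer_of_fix P hTI (hZP hv₀) hv₁ hvP) v₀ hv₀
        have hw1 : w ≠ 1 := by
          rintro rfl
          rcases hw with h | h
          · exact hz1 (isConj_one_left.mp h)
          · exact hz1 (inv_eq_one.mp (isConj_one_left.mp h))
        exact hq.2 ⟨key q.1 z hz hz1 hq.1.1 (Prod.ext_iff.mp hfix).1,
          key q.2 w hwZ hw1 hq.1.2 (Prod.ext_iff.mp hfix).2⟩)
      (fun q => ψ (q.2 * q.1)) (fun s q => by
        rw [hact]
        simp only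
        rw [show (s : G) * q.2 * (s : G)⁻¹ * ((s : G) * q.1 * (s : G)⁻¹) = (s : G) * (q.2 * q.1) * (s : G)⁻¹ by group]
        exact hcl _ _)
      (fun q => hval _)
    refine ⟨γ, hγ, ?_⟩
    rw [htot, ← hZ2sum, ← hsum, hZ2, Finset.sum_filter_add_sum_filter_not]
  obtain ⟨γ₁, hγ₁, e₁⟩ := hpair z (Or.inl (IsConj.refl z)) hz
  obtain ⟨γ₂, hγ₂, e₂⟩ := hpair z⁻¹ (Or.inr (IsConj.refl z⁻¹)) (Z.inv_mem hz)
  have hψinv : ψ z⁻¹ = ψ z := hconst _ (Z.inv_mem hz) _ hz (inv_ne_one.mpr hz1) hz1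
  have hcard : (Nat.card {g : G // IsConj z⁻¹ g}) = Nat.card {g : G // IsConj z g} := by
    refine Nat.card_congr ((Equiv.inv G).subtypeEquiv fun g => ?_)
    constructor
    · intro h
      obtain ⟨c, hc⟩ := isConj_iff.mp h
      exact isConj_iff.mpr ⟨c, by rw [show (Equiv.inv G) g = g⁻¹ from rfl, ← hc]; group⟩
    · intro h
      obtain ⟨c, hc⟩ := isConj_iff.mp h
      exact isConj_iff.mpr ⟨c, inv_injective ((show (Equiv.inv G) g = g⁻¹ from rfl) ▸ (by rw [← hc]; group))⟩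
  have hlhs : ∀ w : G, ∑ b : G, (ClassSum.classInd w b : ℂ) * ψ b = (Nat.card {g : G // IsConj w g} : ℂ) * ψ w := by
    intro w
    have h := ClassSum.omega_classInd ψ hcl w
    unfold ClassSum.omega at h
    have h1 : ψ 1 ≠ 0 := CT.irr_one_ne_zero hψ
    field_simp at h
    exact h
  rw [hlhs] at e₁ e₂
  rw [hcard, hψinv] at e₂
  have hCinv : ∀ a ∈ CZ, ∀ b ∈ CZ, b * a ≠ 1 := by
    intro a ha b hb h
    refine hreal ?_
    simp only [CZ, Finset.mem_filter, Finset.mem_univ, true_and] at ha hb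
    rw [mul_eq_one_iff_eq_inv.mp h] at hb
    obtain ⟨c, hc⟩ := isConj_iff.mp hb.1
    obtain ⟨c', hc'⟩ := isConj_iff.mp ha.1
    refine isConj_iff.mpr ⟨c'⁻¹ * c, ?_⟩
    rw [show c'⁻¹ * c * z * (c'⁻¹ * c)⁻¹ = c'⁻¹ * (c * z * c⁻¹) * c' by group, hc, ← hc']
    group
  have hS1 : ∑ a ∈ CZ, ∑ b ∈ Finset.univ.filter (fun g => IsConj z g ∧ g ∈ Z), ψ (b * a) =
      (CZ.card : ℂ) * (CZ.card : ℂ) * (n : ℂ) := by
    rw [Finset.sum_congr rfl (g := fun _ => (CZ.card : ℂ) * (n : ℂ)) fun a ha => ?_]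
    · rw [Finset.sum_const, nsmul_eq_mul, ← mul_assoc]
    · rw [Finset.sum_congr rfl (g := fun _ => (n : ℂ)) fun b hb => ?_]
      · rw [Finset.sum_const, nsmul_eq_mul]
      · rw [← hn]
        exact hconst _ (Z.mul_mem (Finset.mem_filter.mp hb).2.2 (Finset.mem_filter.mp ha).2.2) _ hz (hCinv a ha b hb) hz1
  have hS2 : ∑ a ∈ CZ, ∑ b ∈ Finset.univ.filter (fun g => IsConj z⁻¹ g ∧ g ∈ Z), ψ (b * a) =
      (CZ.card : ℂ) * ((D : ℂ) + ((CZ.card : ℂ) - 1) * (n : ℂ)) := by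
    have himg : Finset.univ.filter (fun g => IsConj z⁻¹ g ∧ g ∈ Z) = CZ.image (·⁻¹) := by
      ext g
      simp only [CZ, Finset.mem_image, Finset.mem_filter, Finset.mem_univ, true_and]
      constructor
      · rintro ⟨hg, hgZ⟩
        obtain ⟨c, hc⟩ := isConj_iff.mp hg
        exact ⟨g⁻¹, ⟨isConj_iff.mpr ⟨c, by rw [← hc]; group⟩, Z.inv_mem hgZ⟩, inv_inv g⟩
      · rintro ⟨a, ⟨ha, haZ⟩, rfl⟩
        obtain ⟨c, hc⟩ := isConj_iff.mp ha
        exact ⟨isConj_iff.mpr ⟨c, by rw [← hc]; group⟩, Z.inv_mem haZ⟩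
    rw [himg, Finset.sum_congr rfl (g := fun _ => (D : ℂ) + ((CZ.card : ℂ) - 1) * (n : ℂ)) fun a ha => ?_]
    · rw [Finset.sum_const, nsmul_eq_mul]
    · rw [Finset.sum_image (fun x _ y _ e => inv_injective e), ← Finset.add_sum_erase _ _ ha,
        inv_mul_cancel, hd]
      congr 1
      rw [Finset.sum_congr rfl (g := fun _ => (n : ℂ)) fun b hb => ?_, Finset.sum_const, nsmul_eq_mul, Finset.card_erase_of_mem ha,
        Nat.cast_sub (Finset.card_pos.mpr ⟨a, ha⟩), Nat.cast_one]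
      rw [← hn]
      refine hconst _ (Z.mul_mem (Z.inv_mem (Finset.mem_filter.mp (Finset.mem_of_mem_erase hb)).2.2)
        (Finset.mem_filter.mp ha).2.2) _ hz (fun e => Finset.ne_of_mem_erase hb (inv_mul_eq_one.mp e)) hz1
  rw [hS1] at e₁
  rw [hS2] at e₂
  have hfin : (((CZ.card : ℤ) * ((D : ℤ) - n) : ℤ) : ℂ) = (Nat.card (P : Subgroup G) : ℂ) * (γ₁ - γ₂) := by
    push_cast
    linear_combination e₁ - e₂
  have hdvd := int_dvd_of_integral Nat.card_pos (hγ₁.sub hγ₂) hfin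
  obtain ⟨k, hk⟩ := P.isPGroup'.exists_card_eq
  refine Int.dvd_of_dvd_mul_right_of_gcd_one hdvd ?_
  rw [Int.gcd_natCast_natCast, hk]
  exact Nat.Coprime.pow_left k hcop.symm
where
  le_normalizer_self {H : Type u} [Group H] {p : ℕ} (Q : Sylow p H) :
      (Q : Subgroup H) ≤ Subgroup.normalizer ((Q : Subgroup H) : Set H) := Subgroup.le_normalizer

end Cfsg.Agent.CohExt
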