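import Cfsg.Agent.Lib.OddChar.FrobFamily
import Cfsg.Agent.Lib.CT.Clifford
import Cfsg.Agent.Lib.CT.Kernel
import Cfsg.Agent.Lib.CT.Integral
import Mathlib.GroupTheory.Index

/-!
# Degree bounds and sums of squared degrees
-/

set_option autoImplicit false
set_option linter.all false

namespace Cfsg.Agent.CohExt

open scoped ComplexConjugate

universe u

/-- The square of the degree is at most the index of a central subgroup. -/
theorem deg_sq_le_index {G : Type u} [Group G] [Fintype G] {χ : G → ℂ} (hχ : IsIrrCharacter G χ)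
    (Z : Subgroup G) (hZ : Z ≤ Subgroup.center G) : CT.deg χ ^ 2 ≤ Z.index := by
  classical
  obtain ⟨n, ρ, hρ, rfl⟩ := hχ
  have hdeg : CT.deg ρ.character = Module.finrank ℂ (Fin n → ℂ) := CT.deg_eq_finrank ρ
  set d := Module.finrank ℂ (Fin n → ℂ) with hd
  have hnorm : ∀ g : G, conj (ρ.character g) * ρ.character g = ((‖ρ.character g‖ ^ 2 : ℝ) : ℂ) := fun g => by
    rw [Complex.conj_mul']; push_cast; ring
  have hsum : ∑ g : G, ‖ρ.character g‖ ^ 2 = (Nat.card G : ℝ) := by
    have h := CT.sum_conj_char_mul ρ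
    simp only [hnorm, ← Complex.ofReal_sum, ← Complex.ofReal_natCast] at h
    exact_mod_cast h
  have hle : (Nat.card Z : ℝ) * (d : ℝ) ^ 2 ≤ Nat.card G := by
    rw [← hsum]
    refine le_trans (le_of_eq ?_) (Finset.sum_le_sum_of_subset_of_nonneg
      (s := Finset.univ.filter (· ∈ Z)) (Finset.subset_univ _) fun g _ _ => sq_nonneg _)
    rw [Finset.sum_congr rfl (g := fun _ => (d : ℝ) ^ 2) fun z hz => ?_, Finset.sum_const, nsmul_eq_mul]
    · rw [← Fintype.card_subtype, Nat.card_eq_fintype_card]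
    · obtain ⟨ω, hω, -⟩ := CT.central_scalar ρ (hZ (Finset.mem_filter.mp hz).2)
      rw [(CT.norm_eq_iff_scalar ρ z).mpr ⟨ω, hω⟩]
  have h1 : Nat.card Z * d ^ 2 ≤ Nat.card Z * Z.index := by
    rw [Z.card_mul_index]; exact_mod_cast hle
  rw [hdeg]
  exact Nat.le_of_mul_le_mul_left h1 Nat.card_pos

theorem deg_sq_le_aux {K : Type u} [Group K] [Fintype K] (C D : Subgroup K) (hDC : D ≤ C)
    (hc : ∀ x ∈ D, ∀ y ∈ C, x * y = y * x) {θ : K → ℂ} (hθ : IsIrrCharacter K θ) :
    CT.deg θ ^ 2 ≤ C.index ^ 2 * D.relIndex C := by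
  classical
  haveI := Fintype.ofFinite C
  obtain ⟨φ, hφ⟩ := CT.exists_constituent_restrict C hθ
  have hind := CT.isCharacter_indFun C (CT.isCharacter_of_isIrr φ.2)
  have h1 : Cfsg.classInner (indFun C (φ : C → ℂ)) θ ≠ 0 := by
    rw [CT.frobenius_reciprocity C _ (CT.isClassFunction_of_isIrr hθ), CT.classInner_comm_of_char
      (CT.isCharacter_of_isIrr φ.2) (CT.isCharacter_restrict C (CT.isCharacter_of_isIrr hθ))]
    exact hφ
  have h2 : 1 ≤ CT.mult (indFun C (φ : C → ℂ)) θ := by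
    rw [Nat.one_le_iff_ne_zero]
    intro h
    apply h1
    rw [CT.mult_spec hind (CT.isCharacter_of_isIrr hθ), h, Nat.cast_zero]
  have h3 : CT.deg θ ≤ C.index * CT.deg (φ : C → ℂ) := by
    have h := CT.constituent_deg_le hind ⟨θ, hθ⟩
    have h4 : CT.deg (indFun C (φ : C → ℂ)) = C.index * CT.deg (φ : C → ℂ) := by
      have e := CT.deg_eq hind
      rw [CT.indFun_one_eval, CT.deg_eq (CT.isCharacter_of_isIrr φ.2)] at e
      exact_mod_cast e.symm
    rw [h4] at h
    exact le_trans (Nat.le_mul_of_pos_left _ h2) h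
  have h5 := deg_sq_le_index φ.2 (D.subgroupOf C) fun x hx =>
    Subgroup.mem_center_iff.mpr fun y => Subtype.ext (hc x hx y y.2).symm
  calc CT.deg θ ^ 2 ≤ (C.index * CT.deg (φ : C → ℂ)) ^ 2 := Nat.pow_le_pow_left h3 2
    _ = C.index ^ 2 * CT.deg (φ : C → ℂ) ^ 2 := mul_pow _ _ _
    _ ≤ _ := Nat.mul_le_mul_left _ h5

/-- The degree bound through a central factor. -/
theorem deg_sq_le_of_central {K : Type u} [Group K] [Fintype K] (B C D : Subgroup K) [B.Normal] (hBD : B ≤ D)
    (hDC : D ≤ C) (hc : ∀ x ∈ D, ∀ y ∈ C, x * y * x⁻¹ * y⁻¹ ∈ B) {θ : K → ℂ} (hθ : IsIrrCharacter K θ)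
    (hB : ∀ b ∈ B, θ b = θ 1) : CT.deg θ ^ 2 ≤ C.index ^ 2 * D.relIndex C := by
  classical
  obtain ⟨ψ, hψ, hψθ⟩ := CT.exists_quotient_irr hθ B hB
  haveI := Fintype.ofFinite (K ⧸ B)
  set f := QuotientGroup.mk' B with hf
  have hfs : Function.Surjective f := QuotientGroup.mk'_surjective B
  have hker : f.ker = B := QuotientGroup.ker_mk' B
  have hdeg : CT.deg ψ = CT.deg θ := by
    unfold CT.deg
    rw [← hψθ 1, QuotientGroup.mk_one]
  have h := deg_sq_le_aux (C.map f) (D.map f) (Subgroup.map_mono hDC) (by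
    rintro _ ⟨x, hx, rfl⟩ _ ⟨y, hy, rfl⟩
    have h1 : f (x * y * x⁻¹ * y⁻¹) = 1 := (QuotientGroup.eq_one_iff _).mpr (hc x hx y hy)
    rw [map_mul, map_mul, map_mul, map_inv, map_inv, mul_inv_eq_one, mul_inv_eq_iff_eq_mul] at h1
    exact h1) hψ
  rw [hdeg, Subgroup.index_map_eq C hfs (hker.le.trans (hBD.trans hDC)), Subgroup.relIndex_map_map, hker,
    sup_eq_left.mpr hBD, sup_eq_left.mpr (hBD.trans hDC)] at h
  exact h

open Classical in
/-- The squared degrees of the irreducible characters trivial on a normal subgroup add up to its index. -/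
theorem sum_sq_trivial {K : Type u} [Group K] [Fintype K] (A : Subgroup K) [A.Normal] :
    (∑ χ ∈ Finset.univ.filter (fun χ : IrrCharacter K => ∀ a : K, a ∈ A → (χ : K → ℂ) a = (χ : K → ℂ) 1),
      (χ : K → ℂ) 1 ^ 2) = (A.index : ℂ) := by
  haveI := Fintype.ofFinite A
  rw [← OddChar.norm_indFun_one A, CT.classInner_eq_sum (CT.isClassFunction_indFun A _), Finset.sum_filter]
  refine Finset.sum_congr rfl fun χ _ => ?_
  set c := Cfsg.classInner (indFun A fun _ => (1 : ℂ)) (χ : K → ℂ) with hc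
  have hval : c = if (∀ a : K, a ∈ A → (χ : K → ℂ) a = (χ : K → ℂ) 1) then (χ : K → ℂ) 1 else 0 := by
    rw [hc, CT.frobenius_reciprocity A _ (CT.isClassFunction_of_isIrr χ.2)]
    split_ifs with ht
    · rw [show (fun a : A => (χ : K → ℂ) a) = ((χ : K → ℂ) 1) • fun _ : A => (1 : ℂ) from
        funext fun a => by simp [ht a a.2],
        CT.classInner_smul_right, CT.irr_inner_self CT.isIrrCharacter_one, mul_one,
        CT.deg_eq (CT.isCharacter_of_isIrr χ.2), map_natCast]
    · by_contra hne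
      refine ht fun a ha => ?_
      have h' : Cfsg.classInner (fun a : A => (χ : K → ℂ) a) (fun _ : A => (1 : ℂ)) ≠ 0 := by
        rwa [CT.classInner_comm_of_char (CT.isCharacter_restrict A (CT.isCharacter_of_isIrr χ.2)) CT.isCharacter_one]
      have h := CT.restrict_eq_smul_of_invariant A χ.2 CT.isIrrCharacter_one h' (fun g => rfl)
      have h1 := congrFun h ⟨a, ha⟩
      have h2 := congrFun h 1
      simp only [Pi.smul_apply, OneMemClass.coe_one] at h1 h2
      rw [h1, h2]
  have hconj : conj c = c := by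
    rw [hval]
    split_ifs <;> simp [CT.deg_eq (CT.isCharacter_of_isIrr χ.2)]
  rw [hconj, hval]
  split_ifs <;> simp [pow_two]

end Cfsg.Agent.CohExt
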