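import Cfsg.Agent.Lib.CohExt.Degrees
import Cfsg.Agent.Lib.OddChar.Coherence
import Cfsg.Agent.Lib.CT.FrobeniusGroup
import Cfsg.Agent.S1516
import Cfsg.Agent.S1517

/-!
# Extending coherent sets of induced characters
-/

set_option autoImplicit false
set_option linter.all false

namespace Cfsg.Agent.CohExt

open scoped ComplexConjugate

universe u v

variable {L : Type u} [Group L] [Fintype L] {G : Type v} [Group G] [Fintype G]
  {τ : (L → ℂ) → (G → ℂ)} {R : (L → ℂ) → Finset (G → ℂ)} (K : Subgroup L)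

theorem above_mono {A A' : Subgroup L} (h : A ≤ A') : inducedIrrAbove K A' ⊆ inducedIrrAbove K A := by
  rintro _ ⟨θ, hθ, hne, hA, rfl⟩
  exact ⟨θ, hθ, hne, fun a ha => hA a (h ha), rfl⟩

theorem conjFun_indFun (θ : K → ℂ) : Cfsg.conjFun (indFun K θ) = indFun K (Cfsg.conjFun θ) := by
  funext g
  show conj (indFun K θ g) = _
  simp only [Cfsg.indFun, map_mul, map_inv₀, map_natCast, map_sum]
  congr 1
  refine Finset.sum_congr rfl fun x _ => ?_
  by_cases hx : x⁻¹ * g * x ∈ K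
  · rw [CT.extendByZero_mem K _ hx, CT.extendByZero_mem K _ hx]; rfl
  · rw [CT.extendByZero_not_mem K _ hx, CT.extendByZero_not_mem K _ hx, map_zero]

theorem isIrr_conjFun {H : Type u} [Group H] [Finite H] {θ : H → ℂ} (hθ : IsIrrCharacter H θ) :
    IsIrrCharacter H (Cfsg.conjFun θ) := by
  haveI := Fintype.ofFinite H
  refine CT.isIrr_of_inner_self (CT.isCharacter_conj (CT.isCharacter_of_isIrr hθ)) ?_
  have h := OddChar.classInner_conjFun_conjFun θ θ
  rw [CT.irr_inner_self hθ, map_one] at h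
  exact h

theorem above_conj {A : Subgroup L} {φ : L → ℂ} (h : φ ∈ inducedIrrAbove K A) :
    Cfsg.conjFun φ ∈ inducedIrrAbove K A := by
  obtain ⟨θ, hθ, hne, hA, rfl⟩ := h
  refine ⟨Cfsg.conjFun θ, isIrr_conjFun hθ, fun e => hne (funext fun x => ?_), fun a ha => ?_,
    conjFun_indFun K θ⟩
  · have h1 := congrFun e x
    simp only [Cfsg.conjFun] at h1
    rw [← Complex.conj_conj (θ x), h1, map_one]
  · show conj (θ a) = conj (θ 1)
    rw [hA a ha]

theorem above_finite (hS : IsCoherenceSystem (inducedIrrAbove K ⊥) τ R) (A : Subgroup L) :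
    (inducedIrrAbove K A).Finite :=
  (OddChar.cs_finite hS).subset (above_mono K bot_le)

theorem deg_indFun {θ : K → ℂ} (hθ : IsCharacter K θ) :
    CT.deg (indFun K θ) = K.index * CT.deg θ := by
  have e := CT.deg_eq (CT.isCharacter_indFun K hθ)
  rw [CT.indFun_one_eval, CT.deg_eq hθ] at e
  exact_mod_cast e.symm

theorem exists_linear [K.Normal] (hsolv : Group.IsSolvable K) {A : Subgroup L} [A.Normal] (hA : A < K) :
    ∃ θ : K → ℂ, IsIrrCharacter K θ ∧ θ ≠ (fun _ => 1) ∧ (∀ a : K, (a : L) ∈ A → θ a = θ 1) ∧ θ 1 = 1 := by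
  classical
  set A' := A.subgroupOf K with hA'
  haveI : A'.Normal := inferInstance
  haveI := hsolv
  have hntA : A' ≠ ⊤ := fun h => hA.not_ge (Subgroup.subgroupOf_eq_top.mp h)
  haveI : Nontrivial (K ⧸ A') := QuotientGroup.nontrivial_iff.mpr hntA
  haveI : Group.IsSolvable (K ⧸ A') := Group.isSolvable_of_surjective (QuotientGroup.mk'_surjective A')
  have hlt : (commutator (K ⧸ A')).index ≠ 1 := fun h =>
    (Group.IsSolvable.commutator_lt_top_of_nontrivial (G := K ⧸ A')).ne (Subgroup.index_eq_one.mp h)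
  rw [← CT.card_linear_irr] at hlt
  obtain ⟨ψ, hψ⟩ : ∃ ψ : {χ : IrrCharacter (K ⧸ A') // (χ : K ⧸ A' → ℂ) 1 = 1},
      (ψ.1 : K ⧸ A' → ℂ) ≠ fun _ => 1 := by
    by_contra! hall
    refine hlt (Nat.card_eq_one_iff_unique.mpr ⟨⟨fun x y => Subtype.ext (Subtype.ext ?_)⟩, ⟨CT.trivIrr _, rfl⟩⟩)
    rw [hall x, hall y]
  refine ⟨fun x => (ψ.1 : K ⧸ A' → ℂ) (QuotientGroup.mk x),
    CT.isIrr_inflate A' ψ.1.2 (fun g => rfl), fun e => hψ (funext fun q => ?_), fun a ha => ?_, ?_⟩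
  · induction q using QuotientGroup.induction_on with | _ g => exact congrFun e g
  · show (ψ.1 : K ⧸ A' → ℂ) (QuotientGroup.mk a) = (ψ.1 : K ⧸ A' → ℂ) (QuotientGroup.mk 1)
    rw [(QuotientGroup.eq_one_iff a).mpr (Subgroup.mem_subgroupOf.mpr ha), QuotientGroup.mk_one]
  · show (ψ.1 : K ⧸ A' → ℂ) (QuotientGroup.mk 1) = 1
    rw [QuotientGroup.mk_one]
    exact ψ.2

theorem indFun_eq_iff [hK : K.Normal] [Fintype K] {θ φ : K → ℂ} (hθ : IsIrrCharacter K θ)
    (hφ : IsIrrCharacter K φ) : indFun K φ = indFun K θ ↔ φ ∈ CT.conjOrbit K θ := by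
  rw [CT.mem_conjOrbit]
  constructor
  · intro he
    by_contra hno
    push Not at hno
    have horth := OddChar.indFun_orth K hθ hφ hno
    rw [he] at horth
    have h0 := congrFun (CT.classInner_self_eq_zero horth) 1
    rw [CT.indFun_one_eval, Pi.zero_apply] at h0
    exact mul_ne_zero (Nat.cast_ne_zero.mpr K.index_ne_zero_of_finite) (CT.irr_one_ne_zero hθ) h0
  · rintro ⟨g, rfl⟩
    exact OddChar.indFun_conjFun K θ g

open Classical in
/-- The weighted sum of squared degrees over `S(A)`. -/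
theorem sum_above [hK : K.Normal] (A : Subgroup L) [A.Normal] (T : Finset (L → ℂ))
    (hT : (↑T : Set (L → ℂ)) = inducedIrrAbove K A) :
    ∑ φ ∈ T, φ 1 ^ 2 / classInner φ φ = (K.index : ℂ) * ((A.relIndex K : ℂ) - 1) := by
  haveI := Fintype.ofFinite K
  set A' := A.subgroupOf K with hA'
  let W : Finset (IrrCharacter K) := Finset.univ.filter fun θ : IrrCharacter K =>
    (θ : K → ℂ) ≠ (fun _ => 1) ∧ ∀ a : K, a ∈ A' → (θ : K → ℂ) a = (θ : K → ℂ) 1
  have hmemT : ∀ φ, φ ∈ T ↔ φ ∈ inducedIrrAbove K A := fun φ => by rw [← hT, Finset.mem_coe]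
  have hWT : ∀ θ ∈ W, indFun K (θ : K → ℂ) ∈ T := fun θ hθ => by
    obtain ⟨-, h1, h2⟩ := Finset.mem_filter.mp hθ
    exact (hmemT _).mpr ⟨θ, θ.2, h1, fun a ha => h2 a ha, rfl⟩
  have hsum : ∑ θ ∈ W, (θ : K → ℂ) 1 ^ 2 = (A.relIndex K : ℂ) - 1 := by
    have h := sum_sq_trivial A'
    have hsplit : Finset.univ.filter (fun χ : IrrCharacter K => ∀ a : K, a ∈ A' → (χ : K → ℂ) a = (χ : K → ℂ) 1) =
        insert (CT.trivIrr K) W := by
      ext θ
      simp only [Finset.mem_filter, Finset.mem_univ, true_and, Finset.mem_insert, W]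
      constructor
      · intro hθ
        by_cases e : (θ : K → ℂ) = fun _ => 1
        · exact Or.inl (Subtype.ext e)
        · exact Or.inr ⟨e, hθ⟩
      · rintro (rfl | ⟨-, hθ⟩)
        · intro a _; rfl
        · exact hθ
    rw [hsplit, Finset.sum_insert (fun h => (Finset.mem_filter.mp h).2.1 rfl), CT.trivIrr_apply] at h
    rw [show (A.relIndex K : ℂ) = (A'.index : ℂ) from rfl, ← h]
    ring
  rw [← hsum, Finset.mul_sum, ← Finset.sum_fiberwise_of_maps_to (t := T) hWT]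
  refine Finset.sum_congr rfl fun φ hφ => ?_
  obtain ⟨θ, hθ, hne, hA, rfl⟩ := (hmemT φ).mp hφ
  have hinv : ∀ g, CT.conjFun K g (fun _ : K => (1 : ℂ)) = fun _ => 1 := fun g => rfl
  have hfib : (W.filter fun x : IrrCharacter K => indFun K (x : K → ℂ) = indFun K θ) =
      (Finset.univ.filter fun x : IrrCharacter K => (x : K → ℂ) ∈ CT.conjOrbit K θ) := by
    ext x
    simp only [Finset.mem_filter, Finset.mem_univ, true_and, W, indFun_eq_iff K hθ x.2]
    refine ⟨fun h => h.2, fun h => ⟨?_, h⟩⟩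
    obtain ⟨g, hg⟩ := (CT.mem_conjOrbit K).mp h
    refine ⟨fun e => hne ?_, fun a ha => ?_⟩
    · have h1 := congrArg (CT.conjFun K g⁻¹) (hg.trans e)
      rw [← CT.conjFun_mul, mul_inv_cancel, CT.conjFun_one, hinv] at h1
      exact h1
    · rw [← hg]
      show θ ⟨g * a * g⁻¹, _⟩ = θ ⟨g * (1 : K) * g⁻¹, _⟩
      rw [hA ⟨g * a * g⁻¹, hK.conj_mem (a : L) a.2 g⟩ (‹A.Normal›.conj_mem (a : L) ha g)]
      congr 1
      exact Subtype.ext (by simp)
  rw [hfib]
  have hcard : (Finset.univ.filter fun x : IrrCharacter K => (x : K → ℂ) ∈ CT.conjOrbit K θ).card =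
      (CT.inertia K θ).index := by
    rw [← CT.card_conjOrbit]
    refine Finset.card_bij (fun x _ => (x : K → ℂ)) (fun x hx => (Finset.mem_filter.mp hx).2)
      (fun x _ y _ e => Subtype.ext e) (fun y hy => ?_)
    obtain ⟨g, rfl⟩ := (CT.mem_conjOrbit K).mp hy
    exact ⟨⟨_, CT.isIrrCharacter_conjFun K g hθ⟩, Finset.mem_filter.mpr ⟨Finset.mem_univ _, hy⟩, rfl⟩
  rw [Finset.sum_congr rfl (g := fun _ => (K.index : ℂ) * θ 1 ^ 2) fun x hx => ?_, Finset.sum_const, hcard,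
    nsmul_eq_mul, CT.indFun_one_eval]
  · have h1 := CT.card_mul_inner_indFun K hθ
    have hI := (CT.inertia K θ).index_mul_card
    have hKc := K.index_mul_card
    have hK0 : (Nat.card K : ℂ) ≠ 0 := Nat.cast_ne_zero.mpr Nat.card_pos.ne'
    have hI0 : (Nat.card (CT.inertia K θ) : ℂ) ≠ 0 := Nat.cast_ne_zero.mpr Nat.card_pos.ne'
    have e : ((CT.inertia K θ).index : ℂ) * Nat.card (CT.inertia K θ) = (K.index : ℂ) * Nat.card K := by
      exact_mod_cast hI.trans hKc.symm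
    have hn : classInner (indFun K θ) (indFun K θ) = (Nat.card (CT.inertia K θ) : ℂ) / Nat.card K := by
      rw [← h1]; field_simp
    rw [hn]
    field_simp
    linear_combination -(K.index : ℂ) * θ 1 ^ 2 * e
  · obtain ⟨g, hg⟩ := (CT.mem_conjOrbit K).mp (Finset.mem_filter.mp hx).2
    rw [← hg]
    congr 2
    show θ ⟨g * (1 : K) * g⁻¹, _⟩ = θ 1
    congr 1
    exact Subtype.ext (by simp)

open Classical in
theorem norm_exists (hS : IsCoherenceSystem (inducedIrrAbove K ⊥) τ R) :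
    ∃ n : (L → ℂ) → ℕ, (∀ φ ∈ inducedIrrAbove K ⊥, classInner φ φ = (n φ : ℂ)) := by
  have h : ∀ φ : L → ℂ, ∃ n : ℕ, φ ∈ inducedIrrAbove K ⊥ → classInner φ φ = (n : ℂ) := fun φ => by
    by_cases hφ : φ ∈ inducedIrrAbove K ⊥
    · obtain ⟨n, -, hn⟩ := OddChar.cs_norm hS hφ
      exact ⟨n, fun _ => hn⟩
    · exact ⟨0, fun h => absurd h hφ⟩
  choose n hn using h
  exact ⟨n, fun φ hφ => hn φ hφ⟩

theorem restrict_coherent {S : Set (L → ℂ)} (hS : IsCoherenceSystem S τ R) {S' S₁ : Set (L → ℂ)}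
    (hS' : S' ⊆ S₁) (hS₁ : S₁ ⊆ S) {χ : L → ℂ} (hχ : χ ∈ S') (hχc : Cfsg.conjFun χ ∈ S')
    (hcoh : IsCoherent S₁ {1}ᶜ τ) : IsCoherent S' {1}ᶜ τ := by
  obtain ⟨-, τ₁, hτ₁, hag⟩ := hcoh
  refine ⟨⟨χ - Cfsg.conjFun χ, OddChar.zspanOn_iff.mpr ⟨OddChar.zspan_sub (OddChar.zspan_self hχ)
    (OddChar.zspan_self hχc), by simp [OddChar.conjFun_one_of_char (hS.isCharacter χ (hS₁ (hS' hχ)))]⟩,
    sub_ne_zero.mpr (hS.conj_ne χ (hS₁ (hS' hχ))).symm⟩, τ₁, ⟨?_, ?_, ?_, ?_⟩, ?_⟩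
  · exact fun α hα β hβ => hτ₁.1 α (OddChar.zspan_mono hS' hα) β (OddChar.zspan_mono hS' hβ)
  · exact fun α hα => hτ₁.2.1 α (OddChar.zspan_mono hS' hα)
  · exact fun α hα β hβ => hτ₁.2.2.1 α (OddChar.zspan_mono hS' hα) β (OddChar.zspan_mono hS' hβ)
  · exact fun α hα => hτ₁.2.2.2 α (OddChar.zspan_mono hS' hα)
  · exact fun α hα => hag α (OddChar.zspanOn_mono hS' hα)

/-- The extension step. -/
theorem extend [hK : K.Normal] (hsolv : Group.IsSolvable K) (hS : IsCoherenceSystem (inducedIrrAbove K ⊥) τ R)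
    {A B : Subgroup L} [A.Normal] [B.Normal] (hAK : A < K) (hBK : B < K)
    (hA : IsCoherent (inducedIrrAbove K A) {1}ᶜ τ)
    (hsmall : ∀ θ : K → ℂ, IsIrrCharacter K θ → θ ≠ (fun _ => 1) → (∀ a : K, (a : L) ∈ B → θ a = θ 1) →
      2 * K.index * CT.deg θ < A.relIndex K - 1) :
    IsCoherent (inducedIrrAbove K B) {1}ᶜ τ := by
  classical
  haveI := Fintype.ofFinite K
  obtain ⟨n, hn⟩ := norm_exists K hS
  set S := inducedIrrAbove K ⊥ with hSdef
  set TA := (above_finite K hS A).toFinset with hTA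
  set TB := (above_finite K hS B).toFinset with hTB
  have hTAc : (↑TA : Set (L → ℂ)) = inducedIrrAbove K A := Set.Finite.coe_toFinset _
  have hTBc : (↑TB : Set (L → ℂ)) = inducedIrrAbove K B := Set.Finite.coe_toFinset _
  let good : Finset (L → ℂ) → Prop := fun T =>
    TA ⊆ T ∧ (∀ φ ∈ T, Cfsg.conjFun φ ∈ T) ∧ IsCoherent (↑T : Set (L → ℂ)) {1}ᶜ τ
  have hbase : TA ∈ (TA ∪ TB).powerset.filter good := by
    refine Finset.mem_filter.mpr ⟨Finset.mem_powerset.mpr Finset.subset_union_left, subset_rfl, fun φ hφ => ?_, hTAc.symm ▸ hA⟩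
    rw [hTA, Set.Finite.mem_toFinset] at hφ ⊢
    exact above_conj K hφ
  obtain ⟨T, hTmem, hmax⟩ := Finset.exists_max_image ((TA ∪ TB).powerset.filter good) Finset.card ⟨TA, hbase⟩
  obtain ⟨hTsub, hTA', hTconj, hTcoh⟩ := Finset.mem_filter.mp hTmem
  have hTsub' : TA ∪ TB ⊆ (OddChar.cs_finite hS).toFinset := fun φ hφ => by
    rw [Set.Finite.mem_toFinset]
    rcases Finset.mem_union.mp hφ with h | h
    · rw [hTA, Set.Finite.mem_toFinset] at h; exact above_mono K bot_le h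
    · rw [hTB, Set.Finite.mem_toFinset] at h; exact above_mono K bot_le h
  have hTS : (↑T : Set (L → ℂ)) ⊆ S := fun φ hφ => by
    have := hTsub' (Finset.mem_powerset.mp hTsub hφ)
    rwa [Set.Finite.mem_toFinset] at this
  have hall : TB ⊆ T := by
    by_contra hne
    obtain ⟨χ, hχB, hχT⟩ := Finset.not_subset.mp hne
    have hχB' : χ ∈ inducedIrrAbove K B := by rw [← hTBc]; exact hχB
    have hχS : χ ∈ S := above_mono K bot_le hχB'
    obtain ⟨θ₁, hθ₁, hθ₁ne, hθ₁A, hθ₁1⟩ := exists_linear K hsolv hAK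
    set χ₁ := indFun K θ₁ with hχ₁
    have hχ₁A : χ₁ ∈ TA := by
      rw [hTA, Set.Finite.mem_toFinset]
      exact ⟨θ₁, hθ₁, hθ₁ne, hθ₁A, rfl⟩
    obtain ⟨θ, hθ, hθne, hθB, rfl⟩ := hχB'
    have hd : ∀ φ ∈ S, φ 1 = (CT.deg φ : ℂ) := fun φ hφ => CT.deg_eq (hS.isCharacter φ hφ)
    have hd1 : CT.deg χ₁ = K.index := by
      rw [hχ₁, deg_indFun K (CT.isCharacter_of_isIrr hθ₁),
        show CT.deg θ₁ = 1 by simp [CT.deg, hθ₁1], mul_one]
    have hdθ := deg_indFun K (CT.isCharacter_of_isIrr hθ)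
    have hineq : (2 * CT.deg (indFun K θ) * CT.deg χ₁ : ℝ) < ∑ φ ∈ T, ((CT.deg φ : ℝ) ^ 2 / (n φ : ℝ)) := by
      refine lt_of_lt_of_le ?_ (Finset.sum_le_sum_of_subset_of_nonneg hTA' fun φ _ _ => by positivity)
      have hsum : ∑ φ ∈ TA, ((CT.deg φ : ℝ) ^ 2 / (n φ : ℝ)) = (K.index : ℝ) * ((A.relIndex K : ℝ) - 1) := by
        have h := sum_above K A TA hTAc
        rw [Finset.sum_congr rfl (g := fun φ => (((CT.deg φ : ℝ) ^ 2 / (n φ : ℝ) : ℝ) : ℂ)) fun φ hφ => by
          have hφS : φ ∈ S := above_mono K bot_le (show φ ∈ inducedIrrAbove K A by rw [← hTAc]; exact hφ)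
          rw [hd φ hφS, hn φ hφS]; push_cast; rfl,
          ← Complex.ofReal_sum, ← Complex.ofReal_natCast, ← Complex.ofReal_natCast, ← Complex.ofReal_one,
          ← Complex.ofReal_sub, ← Complex.ofReal_mul] at h
        exact Complex.ofReal_inj.mp h
      rw [hsum, hd1, hdθ]
      have h2 := hsmall θ hθ hθne hθB
      have h3 : ((2 * K.index * CT.deg θ : ℕ) : ℝ) + 1 ≤ (A.relIndex K : ℝ) - 1 := by
        have h4 : 2 * K.index * CT.deg θ + 2 ≤ A.relIndex K := by omega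
        have : ((2 * K.index * CT.deg θ + 2 : ℕ) : ℝ) ≤ (A.relIndex K : ℝ) := Nat.cast_le.mpr h4
        push_cast at this ⊢
        linarith
      have hK0 : (0 : ℝ) < K.index := by exact_mod_cast Nat.pos_of_ne_zero K.index_ne_zero_of_finite
      push_cast at h3 ⊢
      nlinarith
    have hnew := S1516.result (inducedIrrAbove K ⊥) τ R hS (fun φ => CT.deg φ) n hd hn T hTS hTconj hTcoh
      (indFun K θ) hχS hχT (fun h => hχT (by simpa [OddChar.conjFun_conjFun] using hTconj _ h)) χ₁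
      (hTA' hχ₁A) (by rw [hd1, hdθ]; exact dvd_mul_right _ _) hineq
    set T' := T ∪ {indFun K θ, Cfsg.conjFun (indFun K θ)} with hT'
    have hT'mem : T' ∈ (TA ∪ TB).powerset.filter good := by
      refine Finset.mem_filter.mpr ⟨Finset.mem_powerset.mpr ?_, hTA'.trans Finset.subset_union_left, fun φ hφ => ?_, ?_⟩
      · refine Finset.union_subset (Finset.mem_powerset.mp hTsub) ?_
        intro φ hφ
        refine Finset.mem_union_right _ ?_
        rw [hTB, Set.Finite.mem_toFinset]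
        rcases Finset.mem_insert.mp hφ with rfl | h
        · exact ⟨θ, hθ, hθne, hθB, rfl⟩
        · rw [Finset.mem_singleton.mp h]; exact above_conj K ⟨θ, hθ, hθne, hθB, rfl⟩
      · simp only [hT', Finset.mem_union, Finset.mem_insert, Finset.mem_singleton] at hφ ⊢
        rcases hφ with h | rfl | rfl
        · exact Or.inl (hTconj φ h)
        · exact Or.inr (Or.inr rfl)
        · exact Or.inr (Or.inl (OddChar.conjFun_conjFun _))
      · have e : (↑T' : Set (L → ℂ)) = ↑T ∪ {indFun K θ, Cfsg.conjFun (indFun K θ)} := by simp [hT']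
        rw [e]; exact hnew
    have := hmax T' hT'mem
    have h2 : T.card < T'.card :=
      Finset.card_lt_card ⟨Finset.subset_union_left, fun h => hχT (h (by simp [hT']))⟩
    omega
  obtain ⟨θ, hθ, hne, hB, -⟩ := exists_linear K hsolv hBK
  exact restrict_coherent hS (by rw [← hTBc]; exact Finset.coe_subset.mpr hall) hTS
    (χ := indFun K θ) ⟨θ, hθ, hne, hB, rfl⟩ (above_conj K ⟨θ, hθ, hne, hB, rfl⟩) hTcoh

theorem rel_normal (K A : Subgroup L) [A.Normal] : (A.subgroupOf K).Normal := inferInstance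

/-- The criterion through a central factor. -/
theorem extend_central [hK : K.Normal] (hsolv : Group.IsSolvable K) (hS : IsCoherenceSystem (inducedIrrAbove K ⊥) τ R)
    (A B C D : Subgroup L) [A.Normal] [B.Normal] (hAK : A < K) (hBK : B < K) (hBD : B ≤ D) (hDC : D ≤ C)
    (hCK : C ≤ K) (hcent : ∀ x ∈ D, ∀ y ∈ C, x * y * x⁻¹ * y⁻¹ ∈ B)
    (hA : IsCoherent (inducedIrrAbove K A) {1}ᶜ τ)
    (hlt : 4 * C.index ^ 2 * D.relIndex C < (A.relIndex K - 1) ^ 2) :
    IsCoherent (inducedIrrAbove K B) {1}ᶜ τ := by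
  haveI := Fintype.ofFinite K
  refine extend K hsolv hS hAK hBK hA fun θ hθ hne hB => ?_
  have h := deg_sq_le_of_central (B.subgroupOf K) (C.subgroupOf K) (D.subgroupOf K)
    (fun x hx => hBD hx) (fun x hx => hDC hx) (fun x hx y hy => hcent (x : L) hx (y : L) hy) hθ
    (fun b hb => hB b hb)
  rw [Subgroup.relIndex_subgroupOf hCK] at h
  have hidx : C.index = (C.subgroupOf K).index * K.index := (Subgroup.relIndex_mul_index hCK).symm
  have h2 : (2 * K.index * CT.deg θ) ^ 2 < (A.relIndex K - 1) ^ 2 := by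
    refine lt_of_le_of_lt ?_ hlt
    rw [hidx]
    calc (2 * K.index * CT.deg θ) ^ 2 = 4 * K.index ^ 2 * CT.deg θ ^ 2 := by ring
      _ ≤ 4 * K.index ^ 2 * ((C.subgroupOf K).index ^ 2 * D.relIndex C) := Nat.mul_le_mul_left _ h
      _ = _ := by ring
  exact lt_of_pow_lt_pow_left₀ 2 (Nat.zero_le _) h2

end Cfsg.Agent.CohExt
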