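import Cfsg.Agent.Lib.CohExt.Degrees
import Cfsg.Agent.Lib.CT.Kernel
import Cfsg.Agent.Lib.CT.Basic
import Mathlib.GroupTheory.Complement

/-!
# Irreducible characters of an internal direct product
-/

set_option autoImplicit false
set_option linter.all false

namespace Cfsg.Agent.CohExt.ProdChar

open scoped ComplexConjugate

universe u

variable {H : Type u} [Group H] [Fintype H] {R C : Subgroup H}

/-- Trivial on a subgroup. -/
def TrivOn (C : Subgroup H) (α : H → ℂ) : Prop := ∀ c ∈ C, α c = α 1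

theorem apply_mul [C.Normal] {α : H → ℂ} (hα : IsIrrCharacter H α) (h : TrivOn C α) (x : H) {c : H}
    (hc : c ∈ C) : α (x * c) = α x := by
  obtain ⟨ψ, -, hψ⟩ := CT.exists_quotient_irr hα C h
  rw [← hψ, ← hψ, QuotientGroup.mk_mul_of_mem x hc]

variable [R.Normal] [C.Normal] (hcompl : Subgroup.IsComplement' R C)
include hcompl

theorem comm_of {r c : H} (hr : r ∈ R) (hc : c ∈ C) : r * c = c * r :=
  Subgroup.commute_of_normal_of_disjoint R C inferInstance inferInstance hcompl.disjoint r c hr hc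

open Classical in
theorem sum_split (F : H → ℂ) :
    letI := Fintype.ofFinite R
    letI := Fintype.ofFinite C
    ∑ x : H, F x = ∑ r : R, ∑ c : C, F ((r : H) * c) := by
  letI := Fintype.ofFinite R
  letI := Fintype.ofFinite C
  rw [← Fintype.sum_equiv (Equiv.ofBijective _ hcompl) (fun q : R × C => F ((q.1 : H) * q.2)) F fun q => rfl,
    Fintype.sum_prod_type]
  rfl

theorem inner_mul {α α' β β' : H → ℂ} (hα : IsIrrCharacter H α) (hα' : IsIrrCharacter H α')
    (hβ : IsIrrCharacter H β) (hβ' : IsIrrCharacter H β') (tα : TrivOn C α) (tα' : TrivOn C α')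
    (tβ : TrivOn R β) (tβ' : TrivOn R β') :
    classInner (α * β) (α' * β') = classInner α α' * classInner β β' := by
  classical
  letI := Fintype.ofFinite R
  letI := Fintype.ofFinite C
  have hb : ∀ (r : R) (c : C) (ξ : H → ℂ), IsIrrCharacter H ξ → TrivOn R ξ → ξ ((r : H) * c) = ξ c := by
    intro r c ξ hξ tξ
    rw [comm_of hcompl r.2 c.2, apply_mul hξ tξ _ r.2]
  have ha : ∀ (r : R) (c : C) (ξ : H → ℂ), IsIrrCharacter H ξ → TrivOn C ξ → ξ ((r : H) * c) = ξ r :=
    fun r c ξ hξ tξ => apply_mul hξ tξ _ c.2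
  have hcard : (Nat.card H : ℂ) = Nat.card R * Nat.card C := by exact_mod_cast hcompl.card_mul.symm
  have e1 : ∑ x : H, (α * β) x * conj ((α' * β') x) =
      (∑ r : R, α r * conj (α' r)) * ∑ c : C, β c * conj (β' c) := by
    rw [sum_split hcompl, Finset.sum_mul_sum]
    refine Finset.sum_congr rfl fun r _ => Finset.sum_congr rfl fun c _ => ?_
    rw [Pi.mul_apply, Pi.mul_apply, ha r c α hα tα, ha r c α' hα' tα', hb r c β hβ tβ, hb r c β' hβ' tβ', map_mul]
    ring
  have e2 : ∑ x : H, α x * conj (α' x) = (Nat.card C : ℂ) * ∑ r : R, α r * conj (α' r) := by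
    rw [sum_split hcompl, Finset.mul_sum]
    refine Finset.sum_congr rfl fun r _ => ?_
    rw [Finset.sum_congr rfl (g := fun _ : C => α r * conj (α' r)) fun c _ => by
      rw [ha r c α hα tα, ha r c α' hα' tα'], Finset.sum_const, Finset.card_univ, nsmul_eq_mul,
      Nat.card_eq_fintype_card]
  have e3 : ∑ x : H, β x * conj (β' x) = (Nat.card R : ℂ) * ∑ c : C, β c * conj (β' c) := by
    rw [sum_split hcompl, Finset.sum_congr rfl (g := fun _ : R => ∑ c : C, β c * conj (β' c)) fun r _ =>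
      Finset.sum_congr rfl fun c _ => by rw [hb r c β hβ tβ, hb r c β' hβ' tβ'],
      Finset.sum_const, Finset.card_univ, nsmul_eq_mul, Nat.card_eq_fintype_card]
  simp only [classInner]
  rw [e1, e2, e3, hcard]
  have h1 : (Nat.card R : ℂ) ≠ 0 := Nat.cast_ne_zero.mpr Nat.card_pos.ne'
  have h2 : (Nat.card C : ℂ) ≠ 0 := Nat.cast_ne_zero.mpr Nat.card_pos.ne'
  field_simp

theorem isIrr_mul {α β : H → ℂ} (hα : IsIrrCharacter H α) (hβ : IsIrrCharacter H β) (tα : TrivOn C α)
    (tβ : TrivOn R β) : IsIrrCharacter H (α * β) := by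
  refine CT.isIrr_of_inner_self (CT.isCharacter_mul (CT.isCharacter_of_isIrr hα) (CT.isCharacter_of_isIrr hβ)) ?_
  rw [inner_mul hcompl hα hα hβ hβ tα tα tβ tβ, CT.irr_inner_self hα, CT.irr_inner_self hβ, one_mul]

theorem mul_inj {α α' β β' : H → ℂ} (hα : IsIrrCharacter H α) (hα' : IsIrrCharacter H α')
    (hβ : IsIrrCharacter H β) (hβ' : IsIrrCharacter H β') (tα : TrivOn C α) (tα' : TrivOn C α')
    (tβ : TrivOn R β) (tβ' : TrivOn R β') (h : α * β = α' * β') : α = α' ∧ β = β' := by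
  have h1 := inner_mul hcompl hα hα' hβ hβ' tα tα' tβ tβ'
  rw [← h, CT.irr_inner_self (isIrr_mul hcompl hα hβ tα tβ)] at h1
  constructor
  · by_contra hne
    rw [CT.irr_inner_of_ne hα hα' hne, zero_mul] at h1
    exact one_ne_zero h1
  · by_contra hne
    rw [CT.irr_inner_of_ne hβ hβ' hne, mul_zero] at h1
    exact one_ne_zero h1

open Classical in
/-- Every irreducible character is a product. -/
theorem exists_eq_mul {θ : H → ℂ} (hθ : IsIrrCharacter H θ) :
    ∃ α β : H → ℂ, IsIrrCharacter H α ∧ IsIrrCharacter H β ∧ TrivOn C α ∧ TrivOn R β ∧ θ = α * β := by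
  let A := Finset.univ.filter fun χ : IrrCharacter H => TrivOn C (χ : H → ℂ)
  let B := Finset.univ.filter fun χ : IrrCharacter H => TrivOn R (χ : H → ℂ)
  by_contra hno
  let f : IrrCharacter H × IrrCharacter H → IrrCharacter H := fun q =>
    if h : TrivOn C (q.1 : H → ℂ) ∧ TrivOn R (q.2 : H → ℂ) then ⟨_, isIrr_mul hcompl q.1.2 q.2.2 h.1 h.2⟩ else q.1
  have hf : ∀ q ∈ A ×ˢ B, (f q : H → ℂ) = (q.1 : H → ℂ) * (q.2 : H → ℂ) := fun q hq => by
    obtain ⟨h1, h2⟩ := Finset.mem_product.mp hq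
    simp only [f, dif_pos (And.intro (Finset.mem_filter.mp h1).2 (Finset.mem_filter.mp h2).2)]
  have hinj : Set.InjOn f (↑(A ×ˢ B) : Set (IrrCharacter H × IrrCharacter H)) := by
    intro x hx y hy e
    have e' := congrArg Subtype.val e
    change (f x : H → ℂ) = (f y : H → ℂ) at e'
    rw [hf x hx, hf y hy] at e'
    obtain ⟨h1, h2⟩ := Finset.mem_product.mp hx
    obtain ⟨h1', h2'⟩ := Finset.mem_product.mp hy
    obtain ⟨g1, g2⟩ := mul_inj hcompl x.1.2 y.1.2 x.2.2 y.2.2 (Finset.mem_filter.mp h1).2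
      (Finset.mem_filter.mp h1').2 (Finset.mem_filter.mp h2).2 (Finset.mem_filter.mp h2').2 e'
    exact Prod.ext (Subtype.ext g1) (Subtype.ext g2)
  have hne : (⟨θ, hθ⟩ : IrrCharacter H) ∉ (A ×ˢ B).image f := by
    intro hmem
    obtain ⟨q, hq, e⟩ := Finset.mem_image.mp hmem
    obtain ⟨h1, h2⟩ := Finset.mem_product.mp hq
    exact hno ⟨_, _, q.1.2, q.2.2, (Finset.mem_filter.mp h1).2, (Finset.mem_filter.mp h2).2,
      (congrArg Subtype.val e).symm.trans (hf q hq)⟩
  have hsum : ∑ χ ∈ (A ×ˢ B).image f, CT.deg (χ : H → ℂ) ^ 2 = Nat.card H := by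
    have hA : ∑ χ ∈ A, (χ : H → ℂ) 1 ^ 2 = (C.index : ℂ) := by
      convert CohExt.sum_sq_trivial C using 2
      ext x; exact Finset.mem_filter.trans (Iff.trans (by simp [TrivOn]) Finset.mem_filter.symm)
    have hB : ∑ χ ∈ B, (χ : H → ℂ) 1 ^ 2 = (R.index : ℂ) := by
      convert CohExt.sum_sq_trivial R using 2
      ext x; exact Finset.mem_filter.trans (Iff.trans (by simp [TrivOn]) Finset.mem_filter.symm)
    have : ((∑ χ ∈ (A ×ˢ B).image f, CT.deg (χ : H → ℂ) ^ 2 : ℕ) : ℂ) = (C.index : ℂ) * (R.index : ℂ) := by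
      rw [← hA, ← hB, Finset.sum_mul_sum, ← Finset.sum_product', Finset.sum_image hinj, Nat.cast_sum]
      refine Finset.sum_congr rfl fun q hq => ?_
      rw [Nat.cast_pow, ← CT.deg_eq (CT.isCharacter_of_isIrr (f q).2), hf q hq, Pi.mul_apply, mul_pow]
    have h2 : C.index * R.index = Nat.card H := by
      rw [hcompl.index_eq_card, hcompl.symm.index_eq_card, hcompl.card_mul]
    rw [← Nat.cast_mul, h2] at this
    exact_mod_cast this
  have htot : ∑ χ : IrrCharacter H, CT.deg (χ : H → ℂ) ^ 2 = Nat.card H := by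
    have h := CT.sum_degree_sq (G := H)
    rw [Finset.sum_congr rfl (g := fun χ : IrrCharacter H => ((CT.deg (χ : H → ℂ) ^ 2 : ℕ) : ℂ)) fun χ _ => by
      rw [Nat.cast_pow, CT.deg_eq (CT.isCharacter_of_isIrr χ.2)], ← Nat.cast_sum] at h
    exact_mod_cast h
  have hlt : ∑ χ ∈ (A ×ˢ B).image f, CT.deg (χ : H → ℂ) ^ 2 < ∑ χ : IrrCharacter H, CT.deg (χ : H → ℂ) ^ 2 :=
    Finset.sum_lt_sum_of_subset (Finset.subset_univ _) (Finset.mem_univ _) hne
      (pow_pos (CT.deg_pos hθ) 2) (fun _ _ _ => Nat.zero_le _)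
  omega

end Cfsg.Agent.CohExt.ProdChar
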