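import Cfsg.Agent.Lib.CohExt.FrobSet
import Cfsg.Agent.Lib.CohExt.ProdChar

/-!
# Feit's coherence theorem for Frobenius groups
-/

set_option autoImplicit false
set_option linter.all false

namespace Cfsg.Agent.CohExt.Feit

open scoped ComplexConjugate commutatorElement
open Cfsg.Agent.CohExt.FrobSet

universe u v

theorem exists_sylow_projection {Q : Type u} [Group Q] [Finite Q] [hQ : Group.IsNilpotent Q] {r : ℕ} [hr : Fact r.Prime]
    (P : Sylow r Q) : ∃ π : Q →* (P : Subgroup Q), Function.Surjective π := by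
  classical
  obtain ⟨e⟩ : Nonempty ((∀ p : (Nat.card Q).primeFactors, ∀ P : Sylow p Q, (↑P : Subgroup Q)) ≃* Q) :=
    (Group.isNilpotent_of_finite_tfae.out 0 4 rfl rfl).mp hQ
  by_cases hd : r ∣ Nat.card Q
  · have hmem : r ∈ (Nat.card Q).primeFactors := Nat.mem_primeFactors.mpr ⟨hr.out, hd, Nat.card_pos.ne'⟩
    refine ⟨((Pi.evalMonoidHom (fun P : Sylow r Q => ↥(P : Subgroup Q)) P).comp
      (Pi.evalMonoidHom (fun p : (Nat.card Q).primeFactors => ∀ P : Sylow p Q, ↥(P : Subgroup Q)) ⟨r, hmem⟩)).comp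
        e.symm.toMonoidHom, fun y => ?_⟩
    obtain ⟨w, hw⟩ := Function.surjective_eval (β := fun P : Sylow r Q => ↥(P : Subgroup Q)) P y
    obtain ⟨z, hz⟩ := Function.surjective_eval (β := fun p : (Nat.card Q).primeFactors => ∀ P : Sylow p Q, ↥(P : Subgroup Q)) ⟨r, hmem⟩ w
    obtain ⟨x, hx⟩ := e.symm.surjective z
    exact ⟨x, by rw [← hw, ← hz, ← hx]; rfl⟩
  · refine ⟨1, fun y => ⟨1, ?_⟩⟩
    have hc : Nat.card (P : Subgroup Q) = 1 := by
      rw [P.card_eq_multiplicity, Nat.factorization_eq_zero_of_not_dvd hd, pow_zero]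
    exact (@Subsingleton.elim _ (Nat.card_eq_one_iff_unique.mp hc).1 _ _)

variable {M : Type u} [Group M] [Fintype M] {G : Type v} [Group G] [Fintype G] (N : Subgroup M) [hN : N.Normal]
  (hC : ∀ n ∈ N, n ≠ 1 → Subgroup.centralizer ({n} : Set M) ≤ N)
  (τ : (M → ℂ) → (G → ℂ))
  (hτ : IsLinearIsometryOn (zspanOn (↑(ntAbove N ⊥) : Set (M → ℂ)) {1}ᶜ) τ)
  (hτ1 : ∀ α ∈ zspanOn (↑(ntAbove N ⊥) : Set (M → ℂ)) {1}ᶜ, τ α 1 = 0)

theorem iso_mono {A B : Set (M → ℂ)} (h : A ⊆ B) (hB : IsLinearIsometryOn (zspanOn B {1}ᶜ) τ) :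
    IsLinearIsometryOn (zspanOn A {1}ᶜ) τ :=
  ⟨fun a ha b hb => hB.1 a (OddChar.zspanOn_mono h ha) b (OddChar.zspanOn_mono h hb),
    fun a ha => hB.2.1 a (OddChar.zspanOn_mono h ha),
    fun a ha b hb => hB.2.2.1 a (OddChar.zspanOn_mono h ha) b (OddChar.zspanOn_mono h hb),
    fun a ha => hB.2.2.2 a (OddChar.zspanOn_mono h ha)⟩

include hC hτ hτ1

theorem base_coherent (A : Subgroup M) [A.Normal] (hA : ⁅N, N⁆ ≤ A) (htwo : 2 ≤ (ntAbove N A).card) :
    IsCoherent (↑(ntAbove N A) : Set (M → ℂ)) {1}ᶜ τ := by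
  have hsub : (↑(ntAbove N A) : Set (M → ℂ)) ⊆ ↑(ntAbove N ⊥) := Finset.coe_subset.mpr (ntAbove_subset N A)
  refine irr_equal_degree _ (fun φ h => irr_of_mem N hC h) htwo (fun φ h ψ h' => ?_) τ (iso_mono τ hsub hτ)
    fun α hα => hτ1 α (OddChar.zspanOn_mono hsub hα)
  rw [CT.deg_eq (CT.isCharacter_of_isIrr (irr_of_mem N hC h)),
    CT.deg_eq (CT.isCharacter_of_isIrr (irr_of_mem N hC h')), deg_of_comm N hC hA h, deg_of_comm N hC hA h']

omit hτ hτ1 in
theorem linear_mem {φ : M → ℂ} (hφ : φ ∈ ntAbove N ⊥) (hdeg : CT.deg φ = N.index) :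
    φ ∈ ntAbove N ⁅N, N⁆ := by
  classical
  haveI := Fintype.ofFinite N
  obtain ⟨θ, hθ, hne, -, rfl, hd⟩ := exists_theta N hC hφ
  refine (mem_ntAbove N).mpr ⟨θ, hθ, hne, fun a ha => ?_, rfl⟩
  have h1 : θ 1 = 1 := by
    rw [CT.deg_eq (CT.isCharacter_of_isIrr hθ)]
    rw [hd] at hdeg
    exact_mod_cast (Nat.mul_eq_left N.index_ne_zero_of_finite).mp hdeg
  have ha' : a ∈ commutator N := by
    have : (a : M) ∈ (commutator N).map N.subtype := by rwa [Subgroup.map_subtype_commutator]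
    obtain ⟨b, hb, e⟩ := this
    rwa [← Subtype.ext e]
  exact CT.linear_trivial_on_commutator (CT.isCharacter_of_isIrr hθ) h1 a ha'

omit hτ hτ1 in
theorem relIndex_commutator : ⁅N, N⁆.relIndex N = (commutator N).index := by
  show (⁅N, N⁆.subgroupOf N).index = _
  congr 1
  apply Subgroup.map_injective N.subtype_injective
  rw [Subgroup.map_subgroupOf_eq_of_le (Subgroup.commutator_le_left N N), Subgroup.map_subtype_commutator]

omit hτ hτ1 in
open Classical in
/-- The induced images of a finite set of irreducible characters. -/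
theorem image_bound [Fintype N] (Q : Finset (IrrCharacter N)) (hQ : ∀ θ ∈ Q, (θ : N → ℂ) ≠ fun _ => 1) :
    N.index * ∑ θ ∈ Q, CT.deg (θ : N → ℂ) ^ 2 ≤
      ∑ φ ∈ Q.image (fun θ : IrrCharacter N => indFun N (θ : N → ℂ)), CT.deg φ ^ 2 := by
  rw [← Finset.sum_fiberwise_of_maps_to (t := Q.image fun θ : IrrCharacter N => indFun N (θ : N → ℂ))
    (g := fun θ : IrrCharacter N => indFun N (θ : N → ℂ)) (fun x hx => Finset.mem_image_of_mem _ hx),
    Finset.mul_sum]
  refine Finset.sum_le_sum fun φ hφ => ?_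
  obtain ⟨θ₀, hθ₀, rfl⟩ := Finset.mem_image.mp hφ
  set F := Q.filter fun θ : IrrCharacter N => indFun N (θ : N → ℂ) = indFun N (θ₀ : N → ℂ)
  have hdeg : ∀ θ ∈ F, CT.deg (θ : N → ℂ) = CT.deg (θ₀ : N → ℂ) := fun θ hθ => by
    have h := congrArg CT.deg (Finset.mem_filter.mp hθ).2
    rw [deg_indFun N (CT.isCharacter_of_isIrr θ.2), deg_indFun N (CT.isCharacter_of_isIrr θ₀.2)] at h
    exact Nat.eq_of_mul_eq_mul_left (Nat.pos_of_ne_zero N.index_ne_zero_of_finite) h
  have hF : F.card ≤ N.index := by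
    have h := CT.card_conjOrbit N (θ₀ : N → ℂ)
    rw [OddChar.frob_inertia N hC θ₀.2 (hQ θ₀ hθ₀)] at h
    rw [← h]
    refine Finset.card_le_card_of_injOn (fun θ : IrrCharacter N => (θ : N → ℂ)) (fun θ hθ => ?_)
      (fun x _ y _ e => Subtype.ext e)
    exact (indFun_eq_iff N θ₀.2 θ.2).mp (Finset.mem_filter.mp hθ).2
  rw [Finset.sum_congr rfl (g := fun _ => CT.deg (θ₀ : N → ℂ) ^ 2) fun θ hθ => by rw [hdeg θ hθ],
    Finset.sum_const, smul_eq_mul, deg_indFun N (CT.isCharacter_of_isIrr θ₀.2), mul_pow, sq N.index, mul_assoc]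
  exact Nat.mul_le_mul_left _ (Nat.mul_le_mul_right _ hF)

theorem coherent_or (hN1 : N ≠ ⊥) (hNt : N ≠ ⊤) (he : Nat.card N ≠ N.index + 1) :
    IsCoherent (↑(ntAbove N ⊥) : Set (M → ℂ)) {1}ᶜ τ ∨
      ∃ p : ℕ, p.Prime ∧ (∃ m : ℕ, Nat.card N = p ^ m) ∧ ¬ IsMulCommutative N ∧
        (⁅N, N⁆.subgroupOf N).index ≤ 4 * N.index ^ 2 + 1 := by
  classical
  haveI := Fintype.ofFinite N
  haveI hnil := OddChar.frob_nilpotent N hC hN1 hNt
  haveI hsolv : Group.IsSolvable N := inferInstance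
  have he0 : 0 < N.index := Nat.pos_of_ne_zero N.index_ne_zero_of_finite
  by_cases hab : IsMulCommutative N
  · left
    have hbot : ⁅N, N⁆ ≤ (⊥ : Subgroup M) := by
      rw [Subgroup.commutator_le]
      intro a ha b hb
      have := congrArg Subtype.val (hab.is_comm.comm (⟨a, ha⟩ : N) ⟨b, hb⟩)
      rw [Subgroup.mem_bot, commutatorElement_eq_one_iff_mul_comm]
      exact this
    refine base_coherent N hC τ hτ hτ1 ⊥ hbot ?_
    have h := card_mul N hC ⊥ hbot
    rw [Subgroup.relIndex_bot_left] at h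
    by_contra hlt
    have hN2 : 1 < Nat.card N := Subgroup.one_lt_card_iff_ne_bot _ |>.mpr hN1
    obtain h0 | h1 : (ntAbove N (⊥ : Subgroup M)).card = 0 ∨ (ntAbove N (⊥ : Subgroup M)).card = 1 := by omega
    · rw [h0] at h; omega
    · rw [h1, one_mul] at h; exact he h.symm
  set H' := ⁅N, N⁆ with hH'
  have hcm := card_mul N hC H' le_rfl
  have hidx : H'.relIndex N = (commutator N).index := relIndex_commutator N hC
  have hlt : H' < N := by
    refine lt_of_le_of_ne (Subgroup.commutator_le_left N N) fun e => ?_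
    haveI : Nontrivial N := (Subgroup.nontrivial_iff_ne_bot _).mpr hN1
    refine (Group.IsSolvable.commutator_lt_top_of_nontrivial (G := N)).ne (Subgroup.index_eq_one.mp ?_)
    rw [← hidx, e, Subgroup.relIndex_self]
  have hnlin : ∀ χ ∈ ntAbove N ⊥, χ ∉ ntAbove N H' →
      ∀ θ : N → ℂ, IsIrrCharacter N θ → CT.deg χ = N.index * CT.deg θ → 1 < CT.deg θ := by
    intro χ hχ hχU θ hθ hd
    refine lt_of_le_of_ne (CT.deg_pos hθ) fun h => hχU (linear_mem N hC hχ ?_)
    rw [hd, ← h, mul_one]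
  by_cases hpg : ∃ p m : ℕ, p.Prime ∧ Nat.card N = p ^ m
  · obtain ⟨p, m, hp, hpm⟩ := hpg
    by_cases hsmall : H'.relIndex N ≤ 4 * N.index ^ 2 + 1
    · exact Or.inr ⟨p, hp, ⟨m, hpm⟩, hab, hsmall⟩
    left
    have htwo : 2 ≤ (ntAbove N H').card := by
      by_contra h
      interval_cases (ntAbove N H').card <;> nlinarith
    obtain ⟨ψ, hψ⟩ : (ntAbove N H').Nonempty := Finset.card_pos.mp (by omega)
    refine irr_grow _ _ (fun φ h => irr_of_mem N hC h) (ntAbove_subset N H') τ hτ hτ1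
      (base_coherent N hC τ hτ hτ1 H' le_rfl htwo) fun χ hχ hχU => ?_
    obtain ⟨a, ha, hadvd⟩ := pgroup_deg N hC hp hpm bot_le (fun a ha k _ => by rw [Subgroup.mem_bot.mp ha]; simp) hχ
    rw [Subgroup.relIndex_bot_left] at hadvd
    refine ⟨ψ, hψ, by rw [deg_of_comm N hC le_rfl hψ, ha]; exact dvd_mul_right _ _, ?_⟩
    rw [deg_of_comm N hC le_rfl hψ, ha]
    set F := (ntAbove N ⊥).filter (fun φ => φ ∈ ntAbove N H' ∨ CT.deg φ < N.index * p ^ a)
    by_cases hbig : 2 * N.index < p ^ a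
    · set low := (ntAbove N ⊥).filter fun φ => CT.deg φ < N.index * p ^ a
      have hdvd : N.index * p ^ (2 * a) ∣ ∑ φ ∈ low, CT.deg φ ^ 2 + N.index := by
        have h := sum_deg N hC (⊥ : Subgroup M)
        rw [Subgroup.relIndex_bot_left,
          ← Finset.sum_filter_add_sum_filter_not _ (fun φ => CT.deg φ < N.index * p ^ a)] at h
        have hhigh : N.index * p ^ (2 * a) ∣
            ∑ φ ∈ (ntAbove N ⊥).filter (fun φ => ¬ CT.deg φ < N.index * p ^ a), CT.deg φ ^ 2 := by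
          refine Finset.dvd_sum fun φ hφ => ?_
          obtain ⟨hφT, hge⟩ := Finset.mem_filter.mp hφ
          obtain ⟨c, hc, -⟩ := pgroup_deg N hC hp hpm bot_le (fun a ha k _ => by rw [Subgroup.mem_bot.mp ha]; simp) hφT
          rw [hc, not_lt] at hge
          have hac := (Nat.pow_le_pow_iff_right hp.one_lt).mp (Nat.le_of_mul_le_mul_left hge he0)
          rw [hc, mul_pow, sq N.index, ← pow_mul]
          exact Nat.mul_dvd_mul (dvd_mul_right _ _) (Nat.pow_dvd_pow p (by omega))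
        have h2 : N.index * p ^ (2 * a) ∣ N.index * Nat.card N := Nat.mul_dvd_mul_left _ hadvd
        rw [← h, add_right_comm] at h2
        exact (Nat.dvd_add_left hhigh).mp h2
      have hle := Nat.le_of_dvd (by omega) hdvd
      refine lt_of_lt_of_le ?_ (Finset.sum_le_sum_of_subset (s := low) fun φ hφ =>
        Finset.mem_filter.mpr ⟨(Finset.mem_filter.mp hφ).1, Or.inr (Finset.mem_filter.mp hφ).2⟩)
      have : N.index * (2 * N.index * p ^ a + 1) < N.index * p ^ (2 * a) := by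
        refine Nat.mul_lt_mul_of_pos_left ?_ he0
        rw [two_mul a, pow_add]
        have := Nat.mul_le_mul_right (p ^ a) (show 2 * N.index + 1 ≤ p ^ a by omega)
        nlinarith [Nat.one_le_pow a p hp.pos, hp.two_le]
      nlinarith
    · refine lt_of_lt_of_le ?_ (Finset.sum_le_sum_of_subset (s := ntAbove N H') fun φ hφ =>
        Finset.mem_filter.mpr ⟨ntAbove_subset N H' hφ, Or.inl hφ⟩)
      have h := sum_deg N hC H'
      nlinarith
  · left
    obtain ⟨r₁, hr₁, hr₁d⟩ := Nat.exists_prime_and_dvd (n := Nat.card N)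
      (fun h => hN1 (Subgroup.card_eq_one.mp h))
    obtain ⟨r₂, hr₂, hr₂d, hr₁₂⟩ : ∃ s : ℕ, s.Prime ∧ s ∣ Nat.card N ∧ s ≠ r₁ := by
      by_contra h
      push Not at h
      exact hpg ⟨r₁, _, hr₁, Nat.eq_prime_pow_of_unique_prime_dvd Nat.card_pos.ne' fun {d} hd hd' => h d hd hd'⟩
    obtain ⟨A, hAn, hA1, hA2⟩ := exists_between N H' hlt.le le_rfl hr₁ hr₂ (Ne.symm hr₁₂)
      (hidx ▸ dvd_card_abelianization hr₁ hr₁d) (hidx ▸ dvd_card_abelianization hr₂ hr₂d)
    haveI := hAn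
    have htwo : 2 ≤ (ntAbove N H').card := by
      have h1 := card_mul N hC A hA1.le
      have h2 := Subgroup.relIndex_mul_relIndex H' A N hA1.le hA2.le
      have h3 : 2 ≤ H'.relIndex A := by
        have h4 : H'.relIndex A ≠ 1 := fun h => hA1.not_ge (Subgroup.relIndex_eq_one.mp h)
        have h5 : H'.relIndex A ≠ 0 := Subgroup.index_ne_zero_of_finite
        omega
      have h6 : A.relIndex N ≠ 1 := fun h => hA2.not_ge (Subgroup.relIndex_eq_one.mp h)
      by_contra hc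
      rcases Nat.eq_zero_or_pos (ntAbove N A).card with h0 | h0
      · rw [h0] at h1; omega
      have := Nat.mul_le_mul h3 (show N.index + 1 ≤ A.relIndex N by nlinarith)
      interval_cases (ntAbove N H').card <;> omega
    obtain ⟨ψ, hψ⟩ : (ntAbove N H').Nonempty := Finset.card_pos.mp (by omega)
    refine irr_grow _ _ (fun φ h => irr_of_mem N hC h) (ntAbove_subset N H') τ hτ hτ1
      (base_coherent N hC τ hτ hτ1 H' le_rfl htwo) fun χ hχ hχU => ?_
    obtain ⟨θ, hθ, -, -, -, hdχ⟩ := exists_theta N hC hχ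
    refine ⟨ψ, hψ, by rw [deg_of_comm N hC le_rfl hψ, hdχ]; exact dvd_mul_right _ _, ?_⟩
    rw [deg_of_comm N hC le_rfl hψ, hdχ]
    have hD := hnlin χ hχ hχU θ hθ hdχ
    obtain ⟨r, hr, hrD⟩ := Nat.exists_prime_and_dvd hD.ne'
    haveI : Fact r.Prime := ⟨hr⟩
    obtain ⟨P⟩ : Nonempty (Sylow r N) := inferInstance
    haveI hPn : (P : Subgroup N).Normal :=
      (Group.isNilpotent_of_finite_tfae.out 0 3 rfl rfl).mp hnil r inferInstance P
    haveI : (P : Subgroup N).Characteristic := P.characteristic_of_normal hPn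
    obtain ⟨C, hCn, hcompl⟩ : ∃ C : Subgroup N, C.Normal ∧ Subgroup.IsComplement' (P : Subgroup N) C := by
      obtain ⟨π, hπ⟩ := exists_sylow_projection P
      refine ⟨π.ker, inferInstance, Subgroup.isComplement'_of_coprime ?_ ?_⟩
      · have h := π.ker.index_mul_card
        rw [Subgroup.index_ker, MonoidHom.range_eq_top.mpr hπ, Subgroup.card_top] at h
        exact h
      · obtain ⟨k, hk⟩ := P.isPGroup'.exists_card_eq
        rw [hk]
        refine Nat.Coprime.pow_left k (hr.coprime_iff_not_dvd.mpr fun h => P.not_dvd_index ?_)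
        have h1 := (P : Subgroup N).card_mul_index
        have h2 := π.ker.index_mul_card
        rw [Subgroup.index_ker, MonoidHom.range_eq_top.mpr hπ, Subgroup.card_top, ← h1] at h2
        rwa [← Nat.eq_of_mul_eq_mul_left Nat.card_pos h2]
    haveI := hCn
    obtain ⟨α, β, hα, hβ, tα, tβ, rfl⟩ := ProdChar.exists_eq_mul hcompl hθ
    have hdmul : ∀ (f g : N → ℂ), IsIrrCharacter N f → IsIrrCharacter N g → IsIrrCharacter N (f * g) →
        CT.deg (f * g) = CT.deg f * CT.deg g := by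
      intro f g hf hg hfg
      have h := CT.deg_eq (CT.isCharacter_of_isIrr hfg)
      rw [Pi.mul_apply, CT.deg_eq (CT.isCharacter_of_isIrr hf), CT.deg_eq (CT.isCharacter_of_isIrr hg)] at h
      exact_mod_cast h.symm
    have hab' := hdmul α β hα hβ hθ
    rw [hab'] at hD hrD ⊢
    set a := CT.deg α
    set b := CT.deg β
    have hbr : ¬ r ∣ b := by
      intro h
      obtain ⟨ψ', hψ', e⟩ := CT.exists_quotient_irr hβ (P : Subgroup N) tβ
      have hd' : CT.deg ψ' = b := by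
        show CT.deg ψ' = CT.deg β
        unfold CT.deg
        rw [← e 1, QuotientGroup.mk_one]
      have := h.trans (hd' ▸ deg_dvd_card hψ')
      rw [← Subgroup.index_eq_card] at this
      exact P.not_dvd_index this
    have hra : r ∣ a := (hr.dvd_mul.mp hrD).resolve_right hbr
    have hapow : ∀ α' : N → ℂ, IsIrrCharacter N α' → ProdChar.TrivOn C α' →
        ∃ i, CT.deg α' = r ^ i := by
      intro α' hα' tα'
      obtain ⟨ψ', hψ', e⟩ := CT.exists_quotient_irr hα' C tα'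
      have hd' : CT.deg ψ' = CT.deg α' := by
        unfold CT.deg
        rw [← e 1, QuotientGroup.mk_one]
      obtain ⟨k, hk⟩ := P.isPGroup'.exists_card_eq
      have hdd := hd' ▸ deg_dvd_card hψ'
      rw [← Subgroup.index_eq_card, hcompl.index_eq_card, hk] at hdd
      obtain ⟨i, -, hi⟩ := (Nat.dvd_prime_pow hr).mp hdd
      exact ⟨i, hi⟩
    obtain ⟨i, hi⟩ := hapow α hα tα
    have hi0 : i ≠ 0 := fun h => by
      rw [h, pow_zero] at hi
      change a = 1 at hi
      rw [hi] at hra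
      exact hr.not_dvd_one hra
    -- the set of characters trivial on C
    let TC := Finset.univ.filter fun χ : IrrCharacter N => ProdChar.TrivOn C (χ : N → ℂ)
    have hTC : ∑ χ ∈ TC, CT.deg (χ : N → ℂ) ^ 2 = C.index := by
      have h := sum_sq_trivial C
      rw [Finset.sum_congr rfl (g := fun χ : IrrCharacter N => ((CT.deg (χ : N → ℂ) ^ 2 : ℕ) : ℂ)) fun χ _ => by
        rw [Nat.cast_pow, CT.deg_eq (CT.isCharacter_of_isIrr χ.2)], ← Nat.cast_sum] at h
      have h' : ∑ χ ∈ TC, CT.deg (χ : N → ℂ) ^ 2 = C.index := by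
        refine Eq.trans ?_ (Nat.cast_injective h)
        exact Finset.sum_congr (by ext x; exact Finset.mem_filter.trans (Iff.trans (by simp [ProdChar.TrivOn]) Finset.mem_filter.symm)) fun _ _ => rfl
      exact h'
    have ha2 : a ^ 2 ∣ C.index := by
      obtain ⟨k, hk⟩ := P.isPGroup'.exists_card_eq
      rw [hcompl.index_eq_card, hk]
      have h1 : a ^ 2 ≤ ∑ χ ∈ TC, CT.deg (χ : N → ℂ) ^ 2 :=
        Finset.single_le_sum (f := fun χ : IrrCharacter N => CT.deg (χ : N → ℂ) ^ 2) (fun _ _ => Nat.zero_le _)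
          (a := ⟨α, hα⟩) (Finset.mem_filter.mpr ⟨Finset.mem_univ _, tα⟩)
      rw [hTC, hcompl.index_eq_card, hk] at h1
      change CT.deg α ^ 2 ∣ r ^ k
      change CT.deg α ^ 2 ≤ r ^ k at h1
      rw [hi, ← pow_mul] at h1 ⊢
      exact Nat.pow_dvd_pow r ((Nat.pow_le_pow_iff_right hr.one_lt).mp h1)
    let As := TC.filter fun χ : IrrCharacter N => CT.deg (χ : N → ℂ) < a
    have hAs : a ^ 2 ≤ ∑ χ ∈ As, CT.deg (χ : N → ℂ) ^ 2 := by
      refine Nat.le_of_dvd ?_ ?_
      · refine lt_of_lt_of_le one_pos (le_trans (le_of_eq ?_) (Finset.single_le_sum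
          (f := fun χ : IrrCharacter N => CT.deg (χ : N → ℂ) ^ 2) (fun _ _ => Nat.zero_le _)
          (a := CT.trivIrr N) (Finset.mem_filter.mpr ⟨Finset.mem_filter.mpr ⟨Finset.mem_univ _, fun c _ => rfl⟩, ?_⟩)))
        · simp [CT.deg, CT.trivIrr_apply]
        · show CT.deg ((CT.trivIrr N : IrrCharacter N) : N → ℂ) < CT.deg α
          rw [show CT.deg ((CT.trivIrr N : IrrCharacter N) : N → ℂ) = 1 from by simp [CT.deg, CT.trivIrr_apply], hi]
          exact Nat.one_lt_pow hi0 hr.one_lt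
      · have hhigh : a ^ 2 ∣ ∑ χ ∈ TC.filter (fun χ : IrrCharacter N => ¬ CT.deg (χ : N → ℂ) < a),
            CT.deg (χ : N → ℂ) ^ 2 := by
          refine Finset.dvd_sum fun χ hχ' => ?_
          obtain ⟨h1, h2⟩ := Finset.mem_filter.mp hχ'
          obtain ⟨j, hj⟩ := hapow χ χ.2 (Finset.mem_filter.mp h1).2
          change ¬ CT.deg (χ : N → ℂ) < CT.deg α at h2
          rw [hj, hi, not_lt, Nat.pow_le_pow_iff_right hr.one_lt] at h2
          show CT.deg α ^ 2 ∣ _
          rw [hj, hi, ← pow_mul, ← pow_mul]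
          exact Nat.pow_dvd_pow r (by omega)
        have h3 := ha2
        rw [← hTC, ← Finset.sum_filter_add_sum_filter_not TC (fun χ : IrrCharacter N => CT.deg (χ : N → ℂ) < a)] at h3
        exact (Nat.dvd_add_left hhigh).mp h3
    -- a nonprincipal character of degree b trivial on P
    obtain ⟨β', hβ', hβ'ne, tβ', hβ'd⟩ : ∃ β' : N → ℂ, IsIrrCharacter N β' ∧ β' ≠ (fun _ => 1) ∧
        ProdChar.TrivOn (P : Subgroup N) β' ∧ CT.deg β' = b := by
      by_cases hb1 : β = fun _ => 1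
      · have hPM : ((P : Subgroup N).map N.subtype) < N := by
          refine lt_of_le_of_ne (Subgroup.map_subtype_le _) fun e => ?_
          obtain ⟨k, hk⟩ := P.isPGroup'.exists_card_eq
          refine hpg ⟨r, k, hr, ?_⟩
          rw [← hk]
          conv_lhs => rw [← e]
          exact Subgroup.card_map_of_injective N.subtype_injective
        obtain ⟨l, hl, hlne, hlk, hl1⟩ := exists_linear N hsolv hPM
        refine ⟨l, hl, hlne, fun c hc => hlk c (Subgroup.mem_map_of_mem _ hc), ?_⟩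
        show CT.deg l = CT.deg β
        rw [hb1]
        simp [CT.deg, hl1]
      · exact ⟨β, hβ, hb1, tβ, rfl⟩
    let Os := (Finset.univ : Finset (IrrCharacter N)).filter fun χ : IrrCharacter N => (χ : N → ℂ) ∈ CT.conjOrbit N β'
    have hOs : ∀ χ ∈ Os, ProdChar.TrivOn (P : Subgroup N) (χ : N → ℂ) ∧ CT.deg (χ : N → ℂ) = b ∧
        (χ : N → ℂ) ≠ (fun _ => 1) := by
      intro χ hχ'
      obtain ⟨g, hg⟩ := (CT.mem_conjOrbit N).mp (Finset.mem_filter.mp hχ').2
      refine ⟨fun c hc => ?_, ?_, fun e => hβ'ne ?_⟩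
      · rw [← hg]
        show β' ⟨g * (c : M) * g⁻¹, _⟩ = β' ⟨g * ((1 : N) : M) * g⁻¹, _⟩
        rw [tβ' ⟨g * (c : M) * g⁻¹, _⟩ ?_]
        · exact congrArg β' (Subtype.ext (by simp))
        · haveI hPMn : ((P : Subgroup N).map N.subtype).Normal := inferInstance
          obtain ⟨d, hd, e⟩ := hPMn.conj_mem _ (Subgroup.mem_map_of_mem N.subtype hc) g
          have key : (⟨g * (c : M) * g⁻¹, hN.conj_mem _ c.2 g⟩ : N) = d := Subtype.ext e.symm
          exact key ▸ hd
      · rw [← hg, ← hβ'd]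
        unfold CT.deg
        rw [show CT.conjFun N g β' 1 = β' 1 from congrArg β' (Subtype.ext (by simp))]
      · have h1 := congrArg (CT.conjFun N g⁻¹) (hg.trans e)
        rw [← CT.conjFun_mul, mul_inv_cancel, CT.conjFun_one] at h1
        exact h1
    have hOcard : Os.card = N.index := by
      have h := CT.card_conjOrbit N β'
      rw [OddChar.frob_inertia N hC hβ' hβ'ne] at h
      rw [← h]
      refine Finset.card_bij (fun x _ => (x : N → ℂ)) (fun x hx => (Finset.mem_filter.mp hx).2)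
        (fun x _ y _ e => Subtype.ext e) (fun y hy => ?_)
      obtain ⟨g, rfl⟩ := (CT.mem_conjOrbit N).mp hy
      exact ⟨⟨_, CT.isIrrCharacter_conjFun N g hβ'⟩, Finset.mem_filter.mpr ⟨Finset.mem_univ _, hy⟩, rfl⟩
    let Bs := insert (CT.trivIrr N) Os
    have hBs : ∑ χ ∈ Bs, CT.deg (χ : N → ℂ) ^ 2 = 1 + N.index * b ^ 2 := by
      rw [Finset.sum_insert fun h => (hOs _ h).2.2 rfl,
        show CT.deg ((CT.trivIrr N : IrrCharacter N) : N → ℂ) = 1 from by simp [CT.deg, CT.trivIrr_apply],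
        Finset.sum_congr rfl (g := fun _ => b ^ 2) fun χ hχ' => by rw [(hOs χ hχ').2.1],
        Finset.sum_const, smul_eq_mul, hOcard]
      ring
    have hbpos : 0 < b := CT.deg_pos hβ
    have hBprop : ∀ χ ∈ Bs, ProdChar.TrivOn (P : Subgroup N) (χ : N → ℂ) ∧ CT.deg (χ : N → ℂ) ≤ b := by
      intro χ hχ'
      rcases Finset.mem_insert.mp hχ' with rfl | h
      · refine ⟨fun c _ => rfl, ?_⟩
        rw [show CT.deg ((CT.trivIrr N : IrrCharacter N) : N → ℂ) = 1 from by simp [CT.deg, CT.trivIrr_apply]]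
        exact hbpos
      · exact ⟨(hOs χ h).1, (hOs χ h).2.1.le⟩
    let f : IrrCharacter N × IrrCharacter N → IrrCharacter N := fun q =>
      if h : ProdChar.TrivOn C (q.1 : N → ℂ) ∧ ProdChar.TrivOn (P : Subgroup N) (q.2 : N → ℂ) then
        ⟨_, ProdChar.isIrr_mul hcompl q.1.2 q.2.2 h.1 h.2⟩ else q.1
    have hmemAB : ∀ q ∈ As ×ˢ Bs, ProdChar.TrivOn C (q.1 : N → ℂ) ∧ ProdChar.TrivOn (P : Subgroup N) (q.2 : N → ℂ) ∧
        CT.deg (q.1 : N → ℂ) < a ∧ CT.deg (q.2 : N → ℂ) ≤ b := fun q hq => by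
      obtain ⟨h1, h2⟩ := Finset.mem_product.mp hq
      obtain ⟨h3, h4⟩ := Finset.mem_filter.mp h1
      exact ⟨(Finset.mem_filter.mp h3).2, (hBprop _ h2).1, h4, (hBprop _ h2).2⟩
    have hfval : ∀ q ∈ As ×ˢ Bs, (f q : N → ℂ) = (q.1 : N → ℂ) * (q.2 : N → ℂ) := fun q hq => by
      simp only [f, dif_pos (And.intro (hmemAB q hq).1 (hmemAB q hq).2.1)]
    have hfdeg : ∀ q ∈ As ×ˢ Bs, CT.deg (f q : N → ℂ) = CT.deg (q.1 : N → ℂ) * CT.deg (q.2 : N → ℂ) := fun q hq => by
      rw [hfval q hq]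
      exact hdmul _ _ q.1.2 q.2.2 (hfval q hq ▸ (f q).2)
    have hinj : Set.InjOn f (↑(As ×ˢ Bs) : Set (IrrCharacter N × IrrCharacter N)) := by
      intro x hx y hy e
      have e' := congrArg Subtype.val e
      change (f x : N → ℂ) = (f y : N → ℂ) at e'
      rw [hfval x hx, hfval y hy] at e'
      obtain ⟨g1, g2⟩ := ProdChar.mul_inj hcompl x.1.2 y.1.2 x.2.2 y.2.2 (hmemAB x hx).1 (hmemAB y hy).1
        (hmemAB x hx).2.1 (hmemAB y hy).2.1 e'
      exact Prod.ext (Subtype.ext g1) (Subtype.ext g2)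
    let Q := (As ×ˢ Bs).image f
    have hQsum : a ^ 2 * (1 + N.index * b ^ 2) ≤ ∑ χ ∈ Q, CT.deg (χ : N → ℂ) ^ 2 := by
      rw [Finset.sum_image hinj, Finset.sum_congr rfl (g := fun q : IrrCharacter N × IrrCharacter N =>
        CT.deg (q.1 : N → ℂ) ^ 2 * CT.deg (q.2 : N → ℂ) ^ 2) fun q hq => by rw [hfdeg q hq, mul_pow],
        Finset.sum_product' _ _ (fun x y : IrrCharacter N => CT.deg (x : N → ℂ) ^ 2 * CT.deg (y : N → ℂ) ^ 2),
        ← Finset.sum_mul_sum, hBs]
      exact Nat.mul_le_mul_right _ hAs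
    let Q' := Q.erase (CT.trivIrr N)
    have hQ' : a ^ 2 * (1 + N.index * b ^ 2) ≤ ∑ χ ∈ Q', CT.deg (χ : N → ℂ) ^ 2 + 1 := by
      refine hQsum.trans ?_
      by_cases h : CT.trivIrr N ∈ Q
      · rw [← Finset.add_sum_erase _ _ h,
          show CT.deg ((CT.trivIrr N : IrrCharacter N) : N → ℂ) = 1 from by simp [CT.deg, CT.trivIrr_apply],
          one_pow, add_comm]
      · rw [show Q' = Q from Finset.erase_eq_of_notMem h]
        exact Nat.le_succ _
    have hne' : ∀ θ' ∈ Q', (θ' : N → ℂ) ≠ fun _ => 1 := fun θ' h e =>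
      (Finset.mem_erase.mp h).1 (Subtype.ext e)
    refine lt_of_lt_of_le ?_ ((image_bound N hC Q' hne').trans (Finset.sum_le_sum_of_subset fun φ hφ => ?_))
    · have h4 : 2 ≤ a * b := hD
      have ha2' : 2 ≤ a := by
        show 2 ≤ CT.deg α
        rw [hi]; exact Nat.one_lt_pow hi0 hr.one_lt
      have h5 : 2 * (a * b) ≤ (a * b) * (a * b) := Nat.mul_le_mul_right _ h4
      have h6 : 2 * N.index * (a * b) + 2 ≤ a ^ 2 * (1 + N.index * b ^ 2) := by
        have := Nat.mul_le_mul_left N.index h5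
        nlinarith
      calc 2 * N.index * (N.index * (a * b)) = N.index * (2 * N.index * (a * b)) := by ring
        _ < _ := Nat.mul_lt_mul_of_pos_left (by omega) he0
    · obtain ⟨θ', hθ', rfl⟩ := Finset.mem_image.mp hφ
      refine Finset.mem_filter.mpr ⟨(mem_ntAbove N).mpr ⟨θ', θ'.2, hne' θ' hθ', trivial_bot N _, rfl⟩, Or.inr ?_⟩
      rw [deg_indFun N (CT.isCharacter_of_isIrr θ'.2)]
      refine Nat.mul_lt_mul_of_pos_left ?_ he0
      obtain ⟨q, hq, rfl⟩ := Finset.mem_image.mp (Finset.mem_of_mem_erase hθ')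
      rw [hfdeg q hq]
      exact Nat.mul_lt_mul_of_lt_of_le (hmemAB q hq).2.2.1 (hmemAB q hq).2.2.2 hbpos

end Cfsg.Agent.CohExt.Feit
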