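import Cfsg.Agent.Lib.CohExt.Nilpotent
import Cfsg.Agent.Lib.OddChar.FrobFamily
import Cfsg.Agent.S1517
import Mathlib.GroupTheory.Sylow
import Mathlib.GroupTheory.Nilpotent
import Mathlib.GroupTheory.GroupAction.ConjAct
import Mathlib.Algebra.Group.Pi.Lemmas

/-!
# Coherence above a nilpotent factor with a Frobenius action on its abelianization
-/

set_option autoImplicit false
set_option linter.all false

namespace Cfsg.Agent.CohExt

open scoped commutatorElement

universe u v

theorem deg_one_of_comm_le {L : Type u} [Group L] [Fintype L] (K A : Subgroup L) [A.Normal]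
    (hA : ⁅K, K⁆ ≤ A) {θ : K → ℂ} (hθ : IsIrrCharacter K θ)
    (hker : ∀ a : K, (a : L) ∈ A → θ a = θ 1) : θ 1 = 1 := by
  classical
  haveI := Fintype.ofFinite K
  obtain ⟨ψ, hψ, hψθ⟩ := CT.exists_quotient_irr hθ (A.subgroupOf K) fun a ha => hker a ha
  haveI := Fintype.ofFinite (K ⧸ A.subgroupOf K)
  rw [← hψθ 1]
  refine CT.irr_degree_one_of_comm (fun a b => ?_) hψ
  induction a using QuotientGroup.induction_on with | _ a => ?_
  induction b using QuotientGroup.induction_on with | _ b => ?_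
  rw [← QuotientGroup.mk_mul, ← QuotientGroup.mk_mul, QuotientGroup.eq, Subgroup.mem_subgroupOf]
  have h := hA (Subgroup.commutator_mem_commutator (K.inv_mem b.2) (K.inv_mem a.2))
  simp only [commutatorElement_def, inv_inv] at h
  simpa [mul_inv_rev, mul_assoc] using h

variable {L : Type u} [Group L] [Fintype L] {G : Type v} [Group G] [Fintype G]
  {τ : (L → ℂ) → (G → ℂ)} {R : (L → ℂ) → Finset (G → ℂ)} (K : Subgroup L)

theorem coherence_system_above [K.Normal] (hsolv : Group.IsSolvable K)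
    (hS : IsCoherenceSystem (inducedIrrAbove K ⊥) τ R) (A : Subgroup L) [A.Normal] (hA : A < K) :
    IsCoherenceSystem (inducedIrrAbove K A) τ R := by
  have hsub := above_mono K (bot_le : ⊥ ≤ A)
  obtain ⟨θ, hθ, hθ1, hker, -⟩ := exists_linear K hsolv hA
  refine ⟨⟨_, θ, hθ, hθ1, hker, rfl⟩, fun χ h => hS.isCharacter χ (hsub h), fun χ h => above_conj K h,
    fun χ h => hS.conj_ne χ (hsub h), ?_, fun α h => hS.map_one α (OddChar.zspanOn_mono hsub h),
    fun χ h φ h' => hS.orthogonal χ (hsub h) φ (hsub h'), fun χ h => hS.orthonormal χ (hsub h),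
    fun χ h => hS.virtual χ (hsub h), fun χ h => hS.sum_eq χ (hsub h),
    fun χ h φ h' => hS.disjoint χ (hsub h) φ (hsub h')⟩
  exact ⟨fun α h β h' => hS.isometry.1 α (OddChar.zspanOn_mono hsub h) β (OddChar.zspanOn_mono hsub h'),
    fun α h => hS.isometry.2.1 α (OddChar.zspanOn_mono hsub h),
    fun α h β h' => hS.isometry.2.2.1 α (OddChar.zspanOn_mono hsub h) β (OddChar.zspanOn_mono hsub h'),
    fun α h => hS.isometry.2.2.2 α (OddChar.zspanOn_mono hsub h)⟩

theorem coherent_abelian_quotient [K.Normal] (hsolv : Group.IsSolvable K)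
    (hS : IsCoherenceSystem (inducedIrrAbove K ⊥) τ R) (A : Subgroup L) [A.Normal] (hA : A < K)
    (hAc : ⁅K, K⁆ ≤ A) : IsCoherent (inducedIrrAbove K A) {1}ᶜ τ := by
  refine Cfsg.Agent.S1517.result _ τ R (coherence_system_above K hsolv hS A hA) ?_
  rintro _ ⟨θ, hθ, -, hk, rfl⟩ _ ⟨φ, hφ, -, hk', rfl⟩
  rw [CT.indFun_one_eval, CT.indFun_one_eval, deg_one_of_comm_le K A hAc hθ hk,
    deg_one_of_comm_le K A hAc hφ hk']

theorem frob_relIndex [K.Normal] (H₁ A : Subgroup L) [H₁.Normal] [A.Normal] (hAK : A ≤ K) (hHA : H₁ ≤ A)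
    (hcomm : ⁅K, K⁆ ≤ H₁) (hfrob : ∀ k ∈ K, k ∉ H₁ → ∀ x : L, x * k * x⁻¹ * k⁻¹ ∈ H₁ → x ∈ K) :
    ∃ t, H₁.relIndex A = K.index * t + 1 := by
  classical
  set f := QuotientGroup.mk' H₁ with hf
  have hfs : Function.Surjective f := QuotientGroup.mk'_surjective H₁
  haveI : (A.map f).Normal := Subgroup.Normal.map inferInstance f hfs
  haveI := Fintype.ofFinite (L ⧸ H₁)
  let s : Finset (L ⧸ H₁) := (Finset.univ.filter (· ∈ A.map f)).erase 1
  have hclass : ∀ a ∈ s, (s.filter fun b => ConjClasses.mk b = ConjClasses.mk a).card = K.index := by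
    intro a ha
    obtain ⟨ha1, ha2⟩ := Finset.mem_erase.mp ha
    have ha3 := (Finset.mem_filter.mp ha2).2
    have hfilt : (↑(s.filter fun b => ConjClasses.mk b = ConjClasses.mk a) : Set (L ⧸ H₁)) =
        MulAction.orbit (ConjAct (L ⧸ H₁)) a := by
      ext b
      rw [ConjAct.orbit_eq_carrier_conjClasses, ConjClasses.mem_carrier_iff_mk_eq, Finset.mem_coe,
        Finset.mem_filter]
      refine ⟨fun h => h.2, fun h => ⟨?_, h⟩⟩
      obtain ⟨c, hc⟩ := isConj_iff.mp (ConjClasses.mk_eq_mk_iff_isConj.mp h.symm)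
      refine Finset.mem_erase.mpr ⟨fun hb => ha1 ?_, Finset.mem_filter.mpr ⟨Finset.mem_univ _, ?_⟩⟩
      · rw [hb, mul_inv_eq_one] at hc
        exact mul_left_cancel (hc.trans (mul_one c).symm)
      · rw [← hc]
        exact ‹(A.map f).Normal›.conj_mem a ha3 c
    have hstab : (MulAction.stabilizer (ConjAct (L ⧸ H₁)) a).index = (K.map f).index := by
      rw [← Subgroup.index_comap_of_surjective (MulAction.stabilizer (ConjAct (L ⧸ H₁)) a)
        (f := (ConjAct.toConjAct : L ⧸ H₁ ≃* ConjAct (L ⧸ H₁)).toMonoidHom) (MulEquiv.surjective _)]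
      congr 1
      ext y
      obtain ⟨x, rfl⟩ := hfs y
      obtain ⟨k, hk, rfl⟩ := ha3
      have hkH : k ∉ H₁ := fun h => ha1 ((QuotientGroup.eq_one_iff k).mpr h)
      rw [Subgroup.mem_comap, MulAction.mem_stabilizer_iff]
      show ConjAct.toConjAct (f x) • f k = f k ↔ f x ∈ K.map f
      rw [ConjAct.toConjAct_smul]
      constructor
      · intro h
        refine Subgroup.mem_map_of_mem f (hfrob k (hAK hk) hkH x ?_)
        rw [← QuotientGroup.eq_one_iff]
        have : f (x * k * x⁻¹ * k⁻¹) = 1 := by rw [map_mul, map_mul, map_mul, map_inv, map_inv, h, mul_inv_cancel]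
        exact this
      · rintro ⟨z, hz, hzx⟩
        rw [← hzx]
        have hc : f ⁅z, k⁆ = 1 :=
          (QuotientGroup.eq_one_iff _).mpr (hcomm (Subgroup.commutator_mem_commutator hz (hAK hk)))
        rw [map_commutatorElement, commutatorElement_def, mul_inv_eq_one] at hc
        exact hc
    rw [← Set.ncard_coe_finset, hfilt, ← MulAction.index_stabilizer, hstab,
      Subgroup.index_map_eq K hfs (by rw [hf, QuotientGroup.ker_mk']; exact hHA.trans hAK)]
  have hcard : s.card = K.index * (s.image ConjClasses.mk).card := by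
    rw [Finset.card_eq_sum_card_image ConjClasses.mk s, Finset.sum_const_nat (m := K.index), mul_comm]
    intro b hb
    obtain ⟨a, ha, rfl⟩ := Finset.mem_image.mp hb
    exact hclass a ha
  refine ⟨(s.image ConjClasses.mk).card, ?_⟩
  rw [← hcard]
  have h1 : (1 : L ⧸ H₁) ∈ Finset.univ.filter (· ∈ A.map f) :=
    Finset.mem_filter.mpr ⟨Finset.mem_univ _, Subgroup.one_mem _⟩
  rw [Finset.card_erase_add_one h1, ← Fintype.card_subtype, ← Nat.card_eq_fintype_card]
  have h2 : H₁.relIndex A = Nat.card (A.map f) := by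
    have h := Subgroup.relIndex_map_map f H₁ A
    rw [hf, QuotientGroup.map_mk'_self, QuotientGroup.ker_mk', sup_idem, sup_eq_left.mpr hHA,
      Subgroup.relIndex_bot_left] at h
    exact h.symm
  exact h2

theorem dvd_card_abelianization {Q : Type u} [Group Q] [Finite Q] [hQ : Group.IsNilpotent Q] {r : ℕ}
    (hr : r.Prime) (hdvd : r ∣ Nat.card Q) : r ∣ (commutator Q).index := by
  classical
  haveI : Fact r.Prime := ⟨hr⟩
  obtain ⟨e⟩ : Nonempty ((∀ p : (Nat.card Q).primeFactors, ∀ P : Sylow p Q, (↑P : Subgroup Q)) ≃* Q) :=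
    (Group.isNilpotent_of_finite_tfae.out 0 4 rfl rfl).mp hQ
  have hmem : r ∈ (Nat.card Q).primeFactors := Nat.mem_primeFactors.mpr ⟨hr, hdvd, Nat.card_pos.ne'⟩
  obtain ⟨P⟩ : Nonempty (Sylow r Q) := inferInstance
  let π : Q →* (P : Subgroup Q) := ((Pi.evalMonoidHom (fun P : Sylow r Q => ↥(P : Subgroup Q)) P).comp
    (Pi.evalMonoidHom (fun p : (Nat.card Q).primeFactors => ∀ P : Sylow p Q, ↥(P : Subgroup Q)) ⟨r, hmem⟩)).comp
      e.symm.toMonoidHom
  have hπ : Function.Surjective π := by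
    refine Function.Surjective.comp (g := ⇑((Pi.evalMonoidHom (fun P : Sylow r Q => ↥(P : Subgroup Q)) P).comp
      (Pi.evalMonoidHom (fun p : (Nat.card Q).primeFactors => ∀ P : Sylow p Q, ↥(P : Subgroup Q)) ⟨r, hmem⟩))) ?_
      e.symm.surjective
    intro y
    obtain ⟨w, hw⟩ := Function.surjective_eval (β := fun P : Sylow r Q => ↥(P : Subgroup Q)) P y
    obtain ⟨z, hz⟩ := Function.surjective_eval (β := fun p : (Nat.card Q).primeFactors => ∀ P : Sylow p Q, ↥(P : Subgroup Q)) ⟨r, hmem⟩ w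
    exact ⟨z, by rw [← hw, ← hz]; rfl⟩
  haveI : Nontrivial (P : Subgroup Q) := by
    rw [← Finite.one_lt_card_iff_nontrivial]
    exact lt_of_lt_of_le hr.one_lt (Nat.le_of_dvd Nat.card_pos (P.dvd_card_of_dvd_card hdvd))
  haveI : Group.IsNilpotent (P : Subgroup Q) := P.isPGroup'.isNilpotent
  have hne : (commutator (P : Subgroup Q)).index ≠ 1 := fun h =>
    (Group.IsSolvable.commutator_lt_top_of_nontrivial (G := (P : Subgroup Q))).ne (Subgroup.index_eq_one.mp h)
  obtain ⟨k, hk⟩ := P.isPGroup'.index (commutator (P : Subgroup Q))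
  rcases k with _ | k
  · exact absurd hk hne
  · refine dvd_trans ?_ (Subgroup.index_map_dvd (commutator Q) hπ)
    have : (commutator Q).map π = commutator (P : Subgroup Q) := by
      rw [commutator_def, commutator_def, Subgroup.map_commutator, Subgroup.map_top_of_surjective π hπ]
    rw [this, hk, pow_succ]
    exact dvd_mul_left _ _

theorem exists_between [K.Normal] (H₁ : Subgroup L) [H₁.Normal] (hH₁K : H₁ ≤ K) (hcomm : ⁅K, K⁆ ≤ H₁)
    {r s : ℕ} (hr : r.Prime) (hs : s.Prime) (hrs : r ≠ s) (hrd : r ∣ H₁.relIndex K)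
    (hsd : s ∣ H₁.relIndex K) : ∃ N : Subgroup L, N.Normal ∧ H₁ < N ∧ N < K := by
  classical
  haveI : Fact r.Prime := ⟨hr⟩
  set f := QuotientGroup.mk' H₁ with hf
  have hfs : Function.Surjective f := QuotientGroup.mk'_surjective H₁
  haveI : (K.map f).Normal := Subgroup.Normal.map inferInstance f hfs
  have hcard : Nat.card (K.map f) = H₁.relIndex K := by
    have h := Subgroup.relIndex_map_map f H₁ K
    rw [hf, QuotientGroup.map_mk'_self, QuotientGroup.ker_mk', sup_idem, sup_eq_left.mpr hH₁K,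
      Subgroup.relIndex_bot_left] at h
    exact h
  obtain ⟨P⟩ : Nonempty (Sylow r (K.map f)) := inferInstance
  haveI hPn : (P : Subgroup (K.map f)).Normal := by
    constructor
    rintro n hn ⟨g, hg⟩
    obtain ⟨a, ha, ea⟩ := hg
    obtain ⟨b, hb, eb⟩ := n.2
    have hc : f ⁅a, b⁆ = 1 :=
      (QuotientGroup.eq_one_iff _).mpr (hcomm (Subgroup.commutator_mem_commutator ha hb))
    rw [map_commutatorElement, commutatorElement_def, ea, eb, mul_inv_eq_one] at hc
    convert hn
    exact Subtype.ext hc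
  haveI : (P : Subgroup (K.map f)).Characteristic := P.characteristic_of_normal hPn
  haveI : ((P : Subgroup (K.map f)).map (K.map f).subtype).Normal := inferInstance
  set Pm := (P : Subgroup (K.map f)).map (K.map f).subtype with hPm
  have hPcard : Nat.card Pm = Nat.card (P : Subgroup (K.map f)) :=
    (Nat.card_congr (Subgroup.equivMapOfInjective _ _ (K.map f).subtype_injective).toEquiv).symm
  have hrP : r ∣ Nat.card Pm := hPcard ▸ P.dvd_card_of_dvd_card (hcard ▸ hrd)
  obtain ⟨k, hk⟩ := P.isPGroup'.exists_card_eq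
  refine ⟨Pm.comap f, inferInstance, ?_, ?_⟩
  · refine lt_of_le_of_ne (fun x hx => ?_) fun he => ?_
    · rw [Subgroup.mem_comap, show f x = 1 from (QuotientGroup.eq_one_iff x).mpr hx]
      exact Pm.one_mem
    · have : Pm = ⊥ := by
        rw [← Subgroup.map_comap_eq_self_of_surjective hfs Pm, ← he, hf, QuotientGroup.map_mk'_self]
      rw [this, Subgroup.card_bot] at hrP
      exact hr.not_dvd_one hrP
  · have hle : Pm.comap f ≤ K := by
      intro x hx
      obtain ⟨k', hk', e⟩ := Subgroup.map_subtype_le (P : Subgroup (K.map f)) hx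
      have : k'⁻¹ * x ∈ H₁ := QuotientGroup.eq.mp e
      simpa using K.mul_mem hk' (hH₁K this)
    refine lt_of_le_of_ne hle fun he => ?_
    have : Pm = K.map f := by rw [← Subgroup.map_comap_eq_self_of_surjective hfs Pm, he]
    rw [this, hcard] at hPcard
    rw [hPcard, hk] at hsd
    exact hrs.symm ((Nat.prime_dvd_prime_iff_eq hs hr).mp (hs.dvd_of_dvd_pow hsd))

theorem odd_step {e x : ℕ} (hx : Odd x) (he : Odd e) (hx1 : x ≠ 1) {t : ℕ} (h : x = e * t + 1) :
    2 * e + 1 ≤ x := by
  have ht : 2 ≤ t := by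
    rcases t with _ | _ | t
    · simp at h; exact absurd h hx1
    · rw [Nat.mul_one] at h
      exact absurd hx (by rw [h, Nat.not_odd_iff_even]; exact he.add_one)
    · omega
  calc 2 * e + 1 ≤ e * t + 1 := by
        have := Nat.mul_le_mul_left e ht
        omega
    _ = x := h.symm

theorem frob_nilpotent [hK : K.Normal] (hsolv : Group.IsSolvable K)
    (hS : IsCoherenceSystem (inducedIrrAbove K ⊥) τ R) (hodd : Odd (Nat.card L)) (M : Subgroup L) [M.Normal]
    (hMK : M ≤ K) [(M.subgroupOf K).Normal] (hnil : Group.IsNilpotent (↥K ⧸ M.subgroupOf K)) (H₁ : Subgroup L)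
    (hH₁ : H₁ = ⁅K, K⁆ ⊔ M) (hH₁K : H₁ < K) (hKL : K < ⊤)
    (hfrob : ∀ k ∈ K, k ∉ H₁ → ∀ x : L, x * k * x⁻¹ * k⁻¹ ∈ H₁ → x ∈ K)
    (hgood : (∃ N : Subgroup L, N.Normal ∧ H₁ < N ∧ N < K) ∨ 4 * K.index ^ 2 + 1 < H₁.relIndex K ∨
      (¬ ∃ p m : ℕ, p.Prime ∧ M.relIndex K = p ^ m) ∨ ⁅K, K⁆ ≤ M ∨
      (∃ p m : ℕ, p.Prime ∧ M.relIndex K = p ^ m ∧ K.index ∣ p - 1)) :
    IsCoherent (inducedIrrAbove K M) {1}ᶜ τ := by
  classical
  haveI hH₁n : H₁.Normal := by rw [hH₁]; infer_instance
  have hMH₁ : M ≤ H₁ := hH₁ ▸ le_sup_right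
  have hcomm : ⁅K, K⁆ ≤ H₁ := hH₁ ▸ le_sup_left
  have hcoh := coherent_abelian_quotient K hsolv hS H₁ hH₁K hcomm
  have habel : ⁅K, K⁆ ≤ M → IsCoherent (inducedIrrAbove K M) {1}ᶜ τ := fun h => by
    have : H₁ = M := hH₁.trans (sup_eq_right.mpr h)
    exact this ▸ hcoh
  have hbig : 4 * K.index ^ 2 + 1 < H₁.relIndex K → IsCoherent (inducedIrrAbove K M) {1}ᶜ τ := fun h =>
    extend_nilpotent K hsolv hS M H₁ K hMH₁ hH₁K.le le_rfl hnil hcoh h
  have hoe : Odd K.index := hodd.of_dvd_nat K.index_dvd_card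
  have he1 : K.index ≠ 1 := fun h => hKL.ne (Subgroup.index_eq_one.mp h)
  have hor : ∀ A B : Subgroup L, Odd (A.relIndex B) := fun A B => by
    refine hodd.of_dvd_nat ?_
    exact dvd_trans (dvd_trans (A.subgroupOf B).index_dvd_card (Subgroup.card_subgroup_dvd_card B)) dvd_rfl
  obtain ⟨T, hT⟩ := frob_relIndex K H₁ K le_rfl hH₁K.le hcomm hfrob
  have hbetween : (∃ N : Subgroup L, N.Normal ∧ H₁ < N ∧ N < K) → IsCoherent (inducedIrrAbove K M) {1}ᶜ τ := by
    rintro ⟨N, hN, h1, h2⟩
    haveI := hN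
    obtain ⟨t, ht⟩ := frob_relIndex K H₁ N h2.le h1.le hcomm hfrob
    have hmul := Subgroup.relIndex_mul_relIndex H₁ N K h1.le h2.le
    have ha1 : H₁.relIndex N ≠ 1 := fun h => h1.not_ge (Subgroup.relIndex_eq_one.mp h)
    have hb1 : N.relIndex K ≠ 1 := fun h => h2.not_ge (Subgroup.relIndex_eq_one.mp h)
    have ha := odd_step (hor _ _) hoe ha1 ht
    have hbmod : ∃ u, N.relIndex K = K.index * u + 1 := by
      have hb0 : 1 ≤ N.relIndex K := (hor N K).pos
      have hd : K.index ∣ N.relIndex K - 1 := by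
        rw [← Int.natCast_dvd_natCast]
        refine ⟨(T : ℤ) - t * N.relIndex K, ?_⟩
        have hz : (H₁.relIndex N : ℤ) * N.relIndex K = H₁.relIndex K := by exact_mod_cast hmul
        rw [ht, hT] at hz
        push_cast [Nat.cast_sub hb0] at hz ⊢
        linarith
      obtain ⟨u, hu⟩ := hd
      exact ⟨u, by omega⟩
    obtain ⟨u, hu⟩ := hbmod
    have hb := odd_step (hor _ _) hoe hb1 hu
    apply hbig
    rw [← hmul]
    calc 4 * K.index ^ 2 + 1 < (2 * K.index + 1) * (2 * K.index + 1) := by nlinarith [hoe.pos]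
      _ ≤ _ := Nat.mul_le_mul ha hb
  have hprimes : ∀ r : ℕ, r.Prime → r ∣ M.relIndex K → r ∣ H₁.relIndex K := by
    intro r hr hd
    haveI := hnil
    have h := dvd_card_abelianization (Q := ↥K ⧸ M.subgroupOf K) hr
      (by rwa [← Subgroup.index_eq_card])
    refine dvd_trans h (dvd_of_eq ?_)
    have hmap : commutator (↥K ⧸ M.subgroupOf K) =
        (H₁.subgroupOf K).map (QuotientGroup.mk' (M.subgroupOf K)) := by
      have hsplit : H₁.subgroupOf K = commutator K ⊔ M.subgroupOf K := by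
        apply Subgroup.map_injective K.subtype_injective
        rw [Subgroup.map_sup, Subgroup.map_subtype_commutator, Subgroup.map_subgroupOf_eq_of_le hH₁K.le,
          Subgroup.map_subgroupOf_eq_of_le hMK, hH₁]
      rw [hsplit, Subgroup.map_sup, QuotientGroup.map_mk'_self, sup_bot_eq, commutator_def, commutator_def,
        Subgroup.map_commutator, Subgroup.map_top_of_surjective _ (QuotientGroup.mk'_surjective _)]
    rw [hmap, Subgroup.index_map_eq _ (QuotientGroup.mk'_surjective _)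
      (by rw [QuotientGroup.ker_mk']; exact fun x hx => hMH₁ hx)]
    rfl
  rcases hgood with h | h | h | h | ⟨p, m, hp, hpm, hdvd⟩
  · exact hbetween h
  · exact hbig h
  · obtain ⟨r, hr, hrd⟩ := Nat.exists_prime_and_dvd (n := M.relIndex K) fun h1 =>
      h ⟨2, 0, Nat.prime_two, by simpa using h1⟩
    by_cases hall : ∀ s : ℕ, s.Prime → s ∣ M.relIndex K → s = r
    · exact absurd ⟨r, _, hr, Nat.eq_prime_pow_of_unique_prime_dvd (Subgroup.index_ne_zero_of_finite)
        fun {d} hd hd' => hall d hd hd'⟩ h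
    · push Not at hall
      obtain ⟨s, hs, hsd, hsr⟩ := hall
      exact hbetween (exists_between K H₁ hH₁K.le hcomm hr hs (Ne.symm hsr) (hprimes r hr hrd) (hprimes s hs hsd))
  · exact habel h
  · have hmul := Subgroup.relIndex_mul_relIndex M H₁ K hMH₁ hH₁K.le
    obtain ⟨j, -, hj⟩ := (Nat.dvd_prime_pow hp).mp (hpm ▸ hmul ▸ dvd_mul_left (H₁.relIndex K) (M.relIndex H₁))
    rcases j with _ | _ | j
    · exact absurd (Subgroup.relIndex_eq_one.mp (by simpa using hj)) hH₁K.not_ge
    · apply habel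
      haveI := hnil
      have hprime : (commutator (↥K ⧸ M.subgroupOf K)).index.Prime := by
        have hmap : commutator (↥K ⧸ M.subgroupOf K) =
            (H₁.subgroupOf K).map (QuotientGroup.mk' (M.subgroupOf K)) := by
          have hsplit : H₁.subgroupOf K = commutator K ⊔ M.subgroupOf K := by
            apply Subgroup.map_injective K.subtype_injective
            rw [Subgroup.map_sup, Subgroup.map_subtype_commutator, Subgroup.map_subgroupOf_eq_of_le hH₁K.le,
              Subgroup.map_subgroupOf_eq_of_le hMK, hH₁]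
          rw [hsplit, Subgroup.map_sup, QuotientGroup.map_mk'_self, sup_bot_eq, commutator_def, commutator_def,
            Subgroup.map_commutator, Subgroup.map_top_of_surjective _ (QuotientGroup.mk'_surjective _)]
        rw [hmap, Subgroup.index_map_eq _ (QuotientGroup.mk'_surjective _)
          (by rw [QuotientGroup.ker_mk']; exact fun x hx => hMH₁ hx)]
        rw [show (H₁.subgroupOf K).index = H₁.relIndex K from rfl, hj]
        simpa using hp
      have hc := OddChar.comm_of_isCyclic_commutator_quotient hprime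
      rw [Subgroup.commutator_le]
      intro a ha b hb
      have h1 := hc ((⟨a, ha⟩ : K) : ↥K ⧸ M.subgroupOf K) ((⟨b, hb⟩ : K) : ↥K ⧸ M.subgroupOf K)
      rw [← QuotientGroup.mk_mul, ← QuotientGroup.mk_mul, QuotientGroup.eq, Subgroup.mem_subgroupOf] at h1
      have h2 := ‹M.Normal›.conj_mem _ h1 (a * b)
      rw [commutatorElement_def]
      have h3 := M.inv_mem h2
      simp only [Subgroup.coe_mul, Subgroup.coe_inv, mul_inv_rev, inv_inv] at h3
      simpa [mul_assoc] using h3
    · apply hbig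
      have hpd : p ∣ Nat.card L := by
        refine dvd_trans (dvd_trans ?_ (H₁.subgroupOf K).index_dvd_card) (Subgroup.card_subgroup_dvd_card K)
        exact (dvd_pow_self p (by omega : j + 2 ≠ 0)).trans (dvd_of_eq hj.symm)
      have hop : Odd p := hodd.of_dvd_nat hpd
      obtain ⟨t, ht⟩ := hdvd
      have h2e := odd_step hop hoe hp.ne_one (t := t) (by have := hp.pos; omega)
      rw [hj]
      calc 4 * K.index ^ 2 + 1 < (2 * K.index + 1) ^ 2 := by nlinarith [hoe.pos]
        _ ≤ p ^ 2 := Nat.pow_le_pow_left h2e 2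
        _ ≤ p ^ (j + 1 + 1) := Nat.pow_le_pow_right hp.pos (by omega)

end Cfsg.Agent.CohExt
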