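import Cfsg.Agent.Lib.CohExt.Degrees
import Cfsg.Agent.Lib.OddChar.Coherence
import Cfsg.Agent.Lib.CT.Exceptional

/-!
# Coherence of sets of irreducible characters
-/

set_option autoImplicit false
set_option linter.all false

namespace Cfsg.Agent.CohExt

universe u v

variable {L : Type u} [Group L] [Fintype L] {G : Type v} [Group G] [Fintype G]

open Classical in
/-- The coherence criterion for a set of irreducible characters. -/
theorem irr_extend (S₀ : Finset (L → ℂ)) (χ : L → ℂ) (hirr : ∀ ξ ∈ S₀, Cfsg.IsIrrCharacter L ξ)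
    (hχ : Cfsg.IsIrrCharacter L χ) (hχS : χ ∉ S₀) (d : (L → ℂ) → ℕ) (hd : ∀ ξ ∈ insert χ S₀, ξ 1 = (d ξ : ℂ))
    (τ : (L → ℂ) → (G → ℂ)) (hτ : Cfsg.IsLinearIsometryOn (Cfsg.zspanOn (↑(insert χ S₀) : Set (L → ℂ)) {1}ᶜ) τ)
    (hτ1 : ∀ α ∈ Cfsg.zspanOn (↑(insert χ S₀) : Set (L → ℂ)) {1}ᶜ, τ α 1 = 0)
    (hcoh : Cfsg.IsCoherent (↑S₀ : Set (L → ℂ)) {1}ᶜ τ) (ψ : L → ℂ) (hψ : ψ ∈ S₀) (hdvd : d ψ ∣ d χ)
    (hlt : 2 * d ψ * d χ < ∑ ξ ∈ S₀, d ξ ^ 2) :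
    Cfsg.IsCoherent (↑(insert χ S₀) : Set (L → ℂ)) {1}ᶜ τ := by
  classical
  obtain ⟨⟨α₀, hα₀, hα₀ne⟩, τ₁, hτ₁, hag⟩ := hcoh
  obtain ⟨T, hT⟩ : ∃ T, T = insert χ S₀ := ⟨_, rfl⟩
  rw [← hT] at hτ hτ1 ⊢
  have hTirr : ∀ ξ ∈ T, Cfsg.IsIrrCharacter L ξ := by
    intro ξ hξ
    rw [hT, Finset.mem_insert] at hξ
    rcases hξ with rfl | h
    exacts [hχ, hirr ξ h]
  have hdT : ∀ ξ ∈ T, ξ 1 = (d ξ : ℂ) := fun ξ hξ => hd ξ (hT ▸ hξ)
  have hsub : (↑S₀ : Set (L → ℂ)) ⊆ ↑T := by rw [hT]; exact fun x hx => Finset.mem_insert_of_mem hx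
  have hχT : χ ∈ T := by rw [hT]; exact Finset.mem_insert_self _ _
  have hψT : ψ ∈ T := hsub hψ
  have hne : ∀ ξ ∈ S₀, ξ ≠ χ := fun ξ hξ e => hχS (e ▸ hξ)
  have hdψ : 0 < d ψ := by
    refine Nat.pos_of_ne_zero fun h => CT.irr_one_ne_zero (hirr ψ hψ) ?_
    rw [hdT ψ hψT, h, Nat.cast_zero]
  have hz1 : ∀ ξ ∈ S₀, ξ ∈ Cfsg.zspan (↑S₀ : Set (L → ℂ)) := fun ξ h => OddChar.zspan_self h
  have horth : ∀ ξ ∈ T, ∀ η ∈ T, Cfsg.classInner ξ η = if ξ = η then 1 else 0 := fun ξ h η h' =>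
    CT.irr_inner (hTirr ξ h) (hTirr η h')
  obtain ⟨a, ha⟩ := hdvd
  have hm1 : χ - (a : ℤ) • ψ ∈ Cfsg.zspanOn (↑T : Set (L → ℂ)) {1}ᶜ :=
    OddChar.zspanOn_iff.mpr ⟨OddChar.zspan_sub (OddChar.zspan_self hχT)
      (OddChar.zspan_smul _ (OddChar.zspan_self hψT)), by simp [hdT χ hχT, hdT ψ hψT, ha, mul_comm]⟩
  obtain ⟨β, hβ⟩ : ∃ β, β = τ (χ - (a : ℤ) • ψ) := ⟨_, rfl⟩
  have hβg : Cfsg.IsGeneralizedCharacter G β := hβ ▸ hτ.2.2.2 _ hm1
  have hββ : Cfsg.classInner β β = 1 + (a : ℂ) ^ 2 := by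
    rw [hβ, hτ.2.2.1 _ hm1 _ hm1]
    simp only [CT.classInner_sub_left, CT.classInner_sub_right, OddChar.classInner_zsmul_left,
      OddChar.classInner_zsmul_right, horth χ hχT χ hχT, horth ψ hψT ψ hψT, horth χ hχT ψ hψT,
      horth ψ hψT χ hχT, if_pos, if_neg (hne ψ hψ), if_neg (hne ψ hψ).symm]
    push_cast
    ring
  have hint : ∀ φ : L → ℂ, ∃ k : ℤ, φ ∈ S₀ → Cfsg.classInner β (τ₁ φ) = k := by
    intro φ
    by_cases h : φ ∈ S₀
    · obtain ⟨k, hk⟩ := OddChar.gen_inner_int hβg (hτ₁.2.2.2 φ (hz1 φ h))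
      exact ⟨k, fun _ => hk⟩
    · exact ⟨0, fun h' => absurd h' h⟩
  choose k hk using hint
  obtain ⟨e, he⟩ : ∃ e : ℤ, e = k ψ + (a : ℤ) := ⟨_, rfl⟩
  have hrel : ∀ φ ∈ S₀, (d ψ : ℤ) * k φ =
      (d φ : ℤ) * e - if φ = ψ then (a : ℤ) * d ψ else 0 := by
    intro φ hφ
    by_cases h' : φ = ψ
    · subst h'
      rw [if_pos rfl, he]
      ring
    have hm := OddChar.deg_comb_mem (S₁ := (↑S₀ : Set (L → ℂ))) hφ hψ (hdT φ (hsub hφ)) (hdT ψ hψT)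
    have h : Cfsg.classInner β (τ₁ ((d ψ : ℤ) • φ - (d φ : ℤ) • ψ)) =
        Cfsg.classInner (χ - (a : ℤ) • ψ) ((d ψ : ℤ) • φ - (d φ : ℤ) • ψ) := by
      rw [hag _ hm, hβ, hτ.2.2.1 _ hm1 _ (OddChar.zspanOn_mono hsub hm)]
    rw [OddChar.iso_zspan_sub hτ₁ (OddChar.zspan_smul _ (hz1 φ hφ))
      (OddChar.zspan_smul _ (hz1 ψ hψ)), hτ₁.2.1 _ (hz1 φ hφ), hτ₁.2.1 _ (hz1 ψ hψ)] at h
    simp only [CT.classInner_sub_left, CT.classInner_sub_right, OddChar.classInner_zsmul_left,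
      OddChar.classInner_zsmul_right, hk φ hφ, hk ψ hψ, horth χ hχT φ (hsub hφ), horth χ hχT ψ hψT,
      horth ψ hψT φ (hsub hφ), horth ψ hψT ψ hψT, if_pos, if_neg (hne φ hφ).symm, if_neg (hne ψ hψ).symm,
      if_neg (Ne.symm h')] at h
    have h2 : ((((d ψ : ℤ) * k φ - (d φ : ℤ) * k ψ : ℤ)) : ℂ) = (((a : ℤ) * (d φ : ℤ) : ℤ) : ℂ) := by
      push_cast at h ⊢
      linear_combination h
    have h3 : (d ψ : ℤ) * k φ - (d φ : ℤ) * k ψ = (a : ℤ) * (d φ : ℤ) := by exact_mod_cast h2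
    rw [if_neg h', he, sub_zero]
    linarith
  have hdchi : (d χ : ℤ) = (a : ℤ) * d ψ := by rw [ha]; push_cast; ring
  obtain ⟨D, hD⟩ : ∃ D : ℤ, D = ∑ φ ∈ S₀, (d φ : ℤ) ^ 2 := ⟨_, rfl⟩
  have hlt' : 2 * (a : ℤ) * (d ψ : ℤ) ^ 2 < D := by
    rw [hD]
    have h : ((2 * d ψ * d χ : ℕ) : ℤ) < ((∑ ξ ∈ S₀, d ξ ^ 2 : ℕ) : ℤ) := by exact_mod_cast hlt
    push_cast at h
    rw [hdchi] at h
    linarith
  have hsq : (d ψ : ℤ) ^ 2 * ∑ φ ∈ S₀, k φ ^ 2 =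
      e ^ 2 * D - 2 * a * e * (d ψ : ℤ) ^ 2 + (a : ℤ) ^ 2 * (d ψ : ℤ) ^ 2 := by
    have hterm : ∀ φ ∈ S₀, (d ψ : ℤ) ^ 2 * k φ ^ 2 = e ^ 2 * (d φ : ℤ) ^ 2 +
        if φ = ψ then -(2 * a * e * (d ψ : ℤ) ^ 2) + (a : ℤ) ^ 2 * (d ψ : ℤ) ^ 2 else 0 := by
      intro φ hφ
      rw [← mul_pow, hrel φ hφ]
      by_cases h : φ = ψ
      · subst h; rw [if_pos rfl, if_pos rfl]; ring
      · rw [if_neg h, if_neg h]; ring
    rw [Finset.mul_sum, Finset.sum_congr rfl hterm, Finset.sum_add_distrib, Finset.sum_ite_eq', if_pos hψ,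
      ← Finset.mul_sum, ← hD]
    ring
  have hbes := OddChar.bessel S₀ τ₁ (fun φ => (k φ : ℂ)) β
    (fun i hi j hj hij => by
      rw [hτ₁.2.2.1 i (hz1 i hi) j (hz1 j hj), horth i (hsub hi) j (hsub hj), if_neg hij])
    (fun i hi => by
      rw [hk i hi, hτ₁.2.2.1 i (hz1 i hi) i (hz1 i hi), horth i (hsub hi) i (hsub hi), if_pos rfl, mul_one])
  obtain ⟨hbn, hbo⟩ := hbes
  obtain ⟨W, hW⟩ : ∃ W, W = β - ∑ φ ∈ S₀, (k φ : ℂ) • τ₁ φ := ⟨_, rfl⟩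
  rw [← hW] at hbn hbo
  have hWn : Cfsg.classInner W W = ((1 + (a : ℤ) ^ 2 - ∑ φ ∈ S₀, k φ ^ 2 : ℤ) : ℂ) := by
    rw [hbn, hββ]
    push_cast
    congr 1
    refine Finset.sum_congr rfl fun i hi => ?_
    rw [hτ₁.2.2.1 i (hz1 i hi) i (hz1 i hi), horth i (hsub hi) i (hsub hi), if_pos rfl]
    simp [pow_two]
  have hle : ∑ φ ∈ S₀, k φ ^ 2 ≤ 1 + (a : ℤ) ^ 2 := by
    have := OddChar.classInner_self_re_nonneg W
    rw [hWn, Complex.intCast_re, Int.cast_nonneg_iff] at this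
    linarith
  have hτ1ψ : ∀ φ ∈ S₀, (d ψ : ℂ) * τ₁ φ 1 = (d φ : ℂ) * τ₁ ψ 1 := by
    intro φ hφ
    have hm := OddChar.deg_comb_mem (S₁ := (↑S₀ : Set (L → ℂ))) hφ hψ (hdT φ (hsub hφ)) (hdT ψ hψT)
    have h := hτ1 _ (OddChar.zspanOn_mono hsub hm)
    rw [← hag _ hm, OddChar.iso_zspan_sub hτ₁ (OddChar.zspan_smul _ (hz1 φ hφ))
      (OddChar.zspan_smul _ (hz1 ψ hψ)), hτ₁.2.1 _ (hz1 φ hφ), hτ₁.2.1 _ (hz1 ψ hψ)] at h
    simpa [sub_eq_zero] using h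
  have ha1 : 1 ≤ a := by
    refine Nat.pos_of_ne_zero fun h => CT.irr_one_ne_zero hχ ?_
    rw [hdT χ hχT, ha, h, mul_zero, Nat.cast_zero]
  have he0 : e = 0 := by
    by_contra hne0
    have hdp : (1 : ℤ) ≤ (d ψ : ℤ) := by exact_mod_cast hdψ
    have hap : (1 : ℤ) ≤ (a : ℤ) := by exact_mod_cast ha1
    have h1 := mul_le_mul_of_nonneg_left hle (sq_nonneg (d ψ : ℤ))
    rw [hsq] at h1
    obtain ⟨P, hP⟩ : ∃ P, P = (d ψ : ℤ) ^ 2 := ⟨_, rfl⟩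
    rw [← hP] at h1 hlt'
    have hPp : 1 ≤ P := by rw [hP]; nlinarith
    have he2 : 0 < e ^ 2 := by positivity
    have h2 := mul_lt_mul_of_pos_left hlt' he2
    have he1 : e = 1 := by
      rcases lt_trichotomy e 1 with h | h | h
      · have he' : e ≤ -1 := by omega
        have h3 : 2 * (a : ℤ) * P * (e ^ 2 - e) < P := by nlinarith
        have h4 : 1 ≤ e ^ 2 - e := by nlinarith
        have h5 : 2 * (a : ℤ) * P * 1 ≤ 2 * (a : ℤ) * P * (e ^ 2 - e) :=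
          mul_le_mul_of_nonneg_left h4 (by positivity)
        nlinarith
      · exact h
      · have h3 : 2 * (a : ℤ) * P * (e ^ 2 - e) < P := by nlinarith
        have h4 : 1 ≤ e ^ 2 - e := by nlinarith
        have h5 : 2 * (a : ℤ) * P * 1 ≤ 2 * (a : ℤ) * P * (e ^ 2 - e) :=
          mul_le_mul_of_nonneg_left h4 (by positivity)
        nlinarith
    rw [he1] at hsq hrel h1
    have hfull : ∑ φ ∈ S₀, k φ ^ 2 = 1 + (a : ℤ) ^ 2 := by
      refine le_antisymm hle ?_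
      have h6 : (a : ℤ) ^ 2 * P < P * ∑ φ ∈ S₀, k φ ^ 2 := by
        rw [hP] at hlt' ⊢
        nlinarith
      have h7 : (a : ℤ) ^ 2 < ∑ φ ∈ S₀, k φ ^ 2 := by
        rw [mul_comm] at h6
        exact lt_of_mul_lt_mul_left h6 (by positivity)
      omega
    have hW0 : W = 0 := by
      apply OddChar.eq_zero_of_norm_re
      rw [hWn, hfull]
      simp
    rw [hW, sub_eq_zero] at hW0
    have hβ1 : β 1 = 0 := hβ ▸ hτ1 _ hm1
    have hcalc : (d ψ : ℂ) ^ 2 * β 1 = ((D - (a : ℤ) * (d ψ : ℤ) ^ 2 : ℤ) : ℂ) * τ₁ ψ 1 := by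
      rw [hW0, Finset.sum_apply, Finset.mul_sum, hD]
      have hterm : ∀ φ ∈ S₀, (d ψ : ℂ) ^ 2 * ((k φ : ℂ) • τ₁ φ) 1 =
          ((d φ : ℂ) ^ 2 - if φ = ψ then (a : ℂ) * (d ψ : ℂ) ^ 2 else 0) * τ₁ ψ 1 := by
        intro φ hφ
        have h := congrArg (fun z : ℤ => (z : ℂ)) (hrel φ hφ)
        have h' := hτ1ψ φ hφ
        simp only [Pi.smul_apply, smul_eq_mul]
        by_cases hc : φ = ψ
        · subst hc
          rw [if_pos rfl] at h ⊢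
          push_cast at h
          linear_combination ((d φ : ℂ) * τ₁ φ 1) * h
        · rw [if_neg hc] at h ⊢
          push_cast at h
          linear_combination ((d ψ : ℂ) * τ₁ φ 1) * h + (d φ : ℂ) * h'
      rw [Finset.sum_congr rfl hterm, ← Finset.sum_mul, Finset.sum_sub_distrib, Finset.sum_ite_eq',
        if_pos hψ]
      push_cast
      ring
    rw [hβ1, mul_zero, eq_comm, mul_eq_zero] at hcalc
    rcases hcalc with h | h
    · rw [hP] at hlt'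
      have : D - (a : ℤ) * (d ψ : ℤ) ^ 2 = 0 := by exact_mod_cast h
      nlinarith
    · exact OddChar.isSigned_one_ne_zero (OddChar.isometry_signed hτ₁ hψ (hirr ψ hψ)) h
  have hkφ : ∀ φ ∈ S₀, k φ = if φ = ψ then -(a : ℤ) else 0 := by
    intro φ hφ
    by_cases h' : φ = ψ
    · subst h'; rw [if_pos rfl]; omega
    · have h := hrel φ hφ
      rw [he0, if_neg h', mul_zero, sub_zero] at h
      rw [if_neg h']
      exact (mul_eq_zero.mp h).resolve_left (by exact_mod_cast hdψ.ne')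
  have hsum : ∑ φ ∈ S₀, (k φ : ℂ) • τ₁ φ = -((a : ℤ) • τ₁ ψ) := by
    rw [Finset.sum_eq_single ψ, hkφ ψ hψ, if_pos rfl, Int.cast_smul_eq_zsmul, neg_smul]
    · intro φ hφ h
      rw [hkφ φ hφ, if_neg h]
      simp
    · exact fun h => absurd hψ h
  have hW1 : Cfsg.classInner W W = 1 := by
    rw [hWn, Finset.sum_eq_single ψ, hkφ ψ hψ, if_pos rfl]
    · simp
    · intro φ hφ h
      rw [hkφ φ hφ, if_neg h]
      simp
    · exact fun h => absurd hψ h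
  have hWg : Cfsg.IsGeneralizedCharacter G W := by
    rw [hW]
    exact CT.isGen_sub hβg (CT.isGen_sum _ fun φ hφ => CT.isGen_zsmul _ (hτ₁.2.2.2 φ (hz1 φ hφ)))
  let F : (L → ℂ) → (G → ℂ) := fun φ => if φ = χ then W else τ₁ φ
  have hTo : ∀ φ ∈ T, ∀ η ∈ T, φ ≠ η → Cfsg.classInner φ η = 0 := fun φ h η h' hn => by
    rw [horth φ h η h', if_neg hn]
  have hcases : ∀ φ ∈ T, φ = χ ∨ φ ∈ S₀ := fun φ h => by rwa [hT, Finset.mem_insert] at h
  refine ⟨⟨α₀, OddChar.zspanOn_mono hsub hα₀, hα₀ne⟩, OddChar.extendMap T F,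
    OddChar.extendMap_iso T rfl F hTo (fun φ h h0 => CT.irr_one_ne_zero (hTirr φ h) (congrFun h0 1))
      ?_ ?_, ?_⟩
  · intro φ hφ
    rcases hcases φ hφ with rfl | h
    · rw [show F φ = W from if_pos rfl]; exact hWg
    · rw [show F φ = τ₁ φ from if_neg (hne φ h)]; exact hτ₁.2.2.2 φ (hz1 φ h)
  · intro φ hφ η hη
    rcases hcases φ hφ with rfl | h <;> rcases hcases η hη with rfl | h'
    · rw [show F η = W from if_pos rfl, hW1, horth η hη η hη, if_pos rfl]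
    · rw [show F φ = W from if_pos rfl, show F η = τ₁ η from if_neg (hne η h'), hbo η h',
        horth φ hφ η hη, if_neg (hne η h').symm]
    · rw [show F η = W from if_pos rfl, show F φ = τ₁ φ from if_neg (hne φ h),
        OddChar.isSigned_inner_symm_eq_zero (hbo φ h), horth φ hφ η hη, if_neg (hne φ h)]
    · rw [show F φ = τ₁ φ from if_neg (hne φ h), show F η = τ₁ η from if_neg (hne η h'),
        hτ₁.2.2.1 φ (hz1 φ h) η (hz1 η h')]
  · intro α hα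
    have h0 : τ₁ 0 = 0 := OddChar.iso_zero hτ₁ (OddChar.zspan_zero _)
    have hself : ∀ φ ∈ T, OddChar.extendMap T F φ = F φ := fun φ h =>
      OddChar.extendMap_self F hTo h (fun h0 => CT.irr_one_ne_zero (hTirr φ h) (congrFun h0 1))
    have key : ∀ α ∈ Cfsg.zspan (↑T : Set (L → ℂ)), ∃ (b : L → ℂ) (i : ℤ),
        b ∈ Cfsg.zspan (↑S₀ : Set (L → ℂ)) ∧ α = b + i • χ ∧
          OddChar.extendMap T F α = τ₁ b + i • W := by
      refine OddChar.zspan_induction (fun φ hφ => ?_) ?_ ?_ ?_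
      · rcases hcases φ hφ with rfl | h
        · refine ⟨0, 1, OddChar.zspan_zero _, by simp, ?_⟩
          rw [hself φ hφ, show F φ = W from if_pos rfl, h0]
          simp
        · refine ⟨φ, 0, hz1 φ h, by simp, ?_⟩
          rw [hself φ hφ, show F φ = τ₁ φ from if_neg (hne φ h)]
          simp
      · exact ⟨0, 0, OddChar.zspan_zero _, by simp, by simp [OddChar.extendMap_zero, h0]⟩
      · rintro x - y - ⟨b, i, hb, hx, hxe⟩ ⟨b', i', hb', hy, hye⟩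
        refine ⟨b + b', i + i', OddChar.zspan_add hb hb', ?_, ?_⟩
        · rw [hx, hy, add_smul]; abel
        · rw [OddChar.extendMap_add, hxe, hye, hτ₁.1 b hb b' hb', add_smul]; abel
      · rintro m x - ⟨b, i, hb, hx, hxe⟩
        refine ⟨m • b, m * i, OddChar.zspan_smul m hb, ?_, ?_⟩
        · rw [hx, smul_add, smul_smul]
        · rw [OddChar.extendMap_zsmul, hxe, hτ₁.2.1 b hb m, smul_add, smul_smul]
    obtain ⟨b, i, hb, hαe, hext⟩ := key α hα.1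
    have hαe2 : α = (b + (i * (a : ℤ)) • ψ) + i • (χ - (a : ℤ) • ψ) := by
      rw [hαe, smul_sub, smul_smul]; abel
    have hb' : b + (i * (a : ℤ)) • ψ ∈ Cfsg.zspanOn (↑S₀ : Set (L → ℂ)) {1}ᶜ := by
      refine OddChar.zspanOn_iff.mpr ⟨OddChar.zspan_add hb (OddChar.zspan_smul _ (hz1 ψ hψ)), ?_⟩
      have e1 := congrFun hαe2 1
      rw [Pi.add_apply, Pi.smul_apply i, (OddChar.zspanOn_iff.mp hm1).2, smul_zero, add_zero,
        (OddChar.zspanOn_iff.mp hα).2] at e1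
      exact e1.symm
    rw [hext, hαe2, hτ.1 _ (OddChar.zspanOn_mono hsub hb') _ (OddChar.zspanOn_smul i hm1),
      hτ.2.1 _ hm1, ← hag _ hb', hτ₁.1 b hb _ (OddChar.zspan_smul _ (hz1 ψ hψ)),
      hτ₁.2.1 _ (hz1 ψ hψ), ← hβ, hW, hsum, sub_neg_eq_add, smul_add, smul_smul]
    abel

/-- At least two irreducible characters of one degree are coherent. -/
theorem irr_equal_degree (T : Finset (L → ℂ)) (hirr : ∀ φ ∈ T, Cfsg.IsIrrCharacter L φ) (htwo : 2 ≤ T.card)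
    (hdeg : ∀ φ ∈ T, ∀ ψ ∈ T, φ 1 = ψ 1) (τ : (L → ℂ) → (G → ℂ))
    (hτ : Cfsg.IsLinearIsometryOn (Cfsg.zspanOn (↑T : Set (L → ℂ)) {1}ᶜ) τ)
    (hτ1 : ∀ α ∈ Cfsg.zspanOn (↑T : Set (L → ℂ)) {1}ᶜ, τ α 1 = 0) :
    Cfsg.IsCoherent (↑T : Set (L → ℂ)) {1}ᶜ τ := by
  classical
  set e := T.equivFin with he
  let f : Fin T.card → (L → ℂ) := fun i => (e.symm i : L → ℂ)
  have hfT : ∀ i, f i ∈ T := fun i => (e.symm i).2
  have hfinj : Function.Injective f := fun i j h => e.symm.injective (Subtype.ext h)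
  let i₀ : Fin T.card := ⟨0, by omega⟩
  have hd : ∀ i, f i - f i₀ ∈ Cfsg.zspanOn (↑T : Set (L → ℂ)) {1}ᶜ := fun i =>
    OddChar.zspanOn_iff.mpr ⟨OddChar.zspan_sub (OddChar.zspan_self (hfT i)) (OddChar.zspan_self (hfT i₀)),
      by simp [hdeg _ (hfT i) _ (hfT i₀)]⟩
  have ho : ∀ φ ∈ T, ∀ ψ ∈ T, φ ≠ ψ → Cfsg.classInner φ ψ = 0 := fun φ h ψ h' hne =>
    CT.irr_inner_of_ne (hirr φ h) (hirr ψ h') hne
  obtain ⟨ε, hε, μ, hμ, hμinj, hμeq⟩ := CT.Exceptional.isometry i₀ (fun i => τ (f i - f i₀))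
    (by rw [sub_self]; exact OddChar.iso_zero hτ (OddChar.zspanOn_zero _ _))
    (fun i => hτ.2.2.2 _ (hd i)) (fun i => hτ1 _ (hd i)) (fun i j hi hj => by
      rw [hτ.2.2.1 _ (hd i) _ (hd j)]
      simp only [CT.classInner_sub_left, CT.classInner_sub_right, CT.irr_inner (hirr _ (hfT _)) (hirr _ (hfT _)),
        hfinj.eq_iff, if_neg hi, if_neg hj, if_neg (Ne.symm hj), if_true]
      split_ifs <;> norm_num)
  let X : (L → ℂ) → (G → ℂ) := fun φ => if h : φ ∈ T then ε • μ (e ⟨φ, h⟩) else 0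
  have hX : ∀ i, X (f i) = ε • μ i := fun i => by
    simp only [X, dif_pos (hfT i)]
    congr 2
    exact e.apply_symm_apply i
  have hsurj : ∀ φ ∈ T, ∃ i, f i = φ := fun φ h => ⟨e ⟨φ, h⟩, by simp [f]⟩
  refine OddChar.isCoherent_of_images X rfl ho (fun φ h h0 => CT.irr_one_ne_zero (hirr φ h) (congrFun h0 1))
    (fun φ h => ?_) (fun φ h ψ h' => ?_) ?_ ?_
  · obtain ⟨i, rfl⟩ := hsurj φ h
    rw [hX]
    rcases hε with rfl | rfl
    · rw [one_smul]; exact OddChar.isSigned_isGen (Or.inl (hμ i))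
    · rw [neg_one_smul]; exact OddChar.isSigned_isGen (Or.inr (by rw [neg_neg]; exact hμ i))
  · obtain ⟨i, rfl⟩ := hsurj φ h
    obtain ⟨j, rfl⟩ := hsurj ψ h'
    rw [hX, hX, CT.irr_inner (hirr _ h) (hirr _ h'), CT.classInner_smul_left, CT.classInner_smul_right,
      CT.irr_inner (hμ i) (hμ j)]
    simp only [hμinj.eq_iff, hfinj.eq_iff]
    rcases hε with rfl | rfl <;> simp
  · let i₁ : Fin T.card := ⟨1, by omega⟩
    refine ⟨f i₁ - f i₀, hd i₁, sub_ne_zero.mpr fun h => ?_⟩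
    have := congrArg Fin.val (hfinj h)
    simp [i₁, i₀] at this
  · intro α hα
    have key : ∀ α ∈ Cfsg.zspan (↑T : Set (L → ℂ)), ∃ k : ℤ, α 1 = (k : ℂ) * f i₀ 1 ∧
        (α - k • f i₀ ∈ Cfsg.zspanOn (↑T : Set (L → ℂ)) {1}ᶜ) ∧
        OddChar.extendMap T X α = τ (α - k • f i₀) + k • X (f i₀) := by
      refine OddChar.zspan_induction (fun φ hφ => ?_) ?_ ?_ ?_
      · obtain ⟨i, rfl⟩ := hsurj φ hφ
        refine ⟨1, by simp [hdeg _ (hfT i) _ (hfT i₀)], by simpa using hd i, ?_⟩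
        rw [OddChar.extendMap_self _ ho (hfT i) (fun h0 => CT.irr_one_ne_zero (hirr _ (hfT i)) (congrFun h0 1)),
          one_smul, one_smul, hX, hX, hμeq i, smul_sub]
        abel
      · exact ⟨0, by simp, by simpa using OddChar.zspanOn_zero _ _, by
          simp [OddChar.extendMap_zero, OddChar.iso_zero hτ (OddChar.zspanOn_zero _ _)]⟩
      · rintro a - b - ⟨k, hk, hkm, hka⟩ ⟨l, hl, hlm, hlb⟩
        have e : a + b - (k + l) • f i₀ = (a - k • f i₀) + (b - l • f i₀) := by rw [add_smul]; abel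
        refine ⟨k + l, by simp [hk, hl]; ring, e ▸ OddChar.zspanOn_add hkm hlm, ?_⟩
        rw [OddChar.extendMap_add, hka, hlb, e, hτ.1 _ hkm _ hlm, add_smul]
        abel
      · rintro m a - ⟨k, hk, hkm, hka⟩
        have e : m • a - (m * k) • f i₀ = m • (a - k • f i₀) := by rw [smul_sub, smul_smul]
        refine ⟨m * k, by simp [hk]; ring, e ▸ OddChar.zspanOn_smul m hkm, ?_⟩
        rw [OddChar.extendMap_zsmul, hka, e, hτ.2.1 _ hkm, smul_add, smul_smul]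
    obtain ⟨k, hk, hkm, hkα⟩ := key α hα.1
    have hk0 : k = 0 := by
      rw [(OddChar.zspanOn_iff.mp hα).2] at hk
      rcases mul_eq_zero.mp hk.symm with h | h
      · exact_mod_cast h
      · exact absurd h (CT.irr_one_ne_zero (hirr _ (hfT i₀)))
    subst hk0
    rw [hkα]
    simp

open Classical in
/-- Adding the members of `T` outside `U` by increasing degree. -/
theorem irr_grow (T U : Finset (L → ℂ)) (hirr : ∀ φ ∈ T, Cfsg.IsIrrCharacter L φ) (hUT : U ⊆ T)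
    (τ : (L → ℂ) → (G → ℂ)) (hτ : Cfsg.IsLinearIsometryOn (Cfsg.zspanOn (↑T : Set (L → ℂ)) {1}ᶜ) τ)
    (hτ1 : ∀ α ∈ Cfsg.zspanOn (↑T : Set (L → ℂ)) {1}ᶜ, τ α 1 = 0)
    (hU : Cfsg.IsCoherent (↑U : Set (L → ℂ)) {1}ᶜ τ)
    (hstep : ∀ χ ∈ T, χ ∉ U → ∃ ψ ∈ U, CT.deg ψ ∣ CT.deg χ ∧
      2 * CT.deg ψ * CT.deg χ < ∑ φ ∈ T.filter (fun φ => φ ∈ U ∨ CT.deg φ < CT.deg χ), CT.deg φ ^ 2) :
    Cfsg.IsCoherent (↑T : Set (L → ℂ)) {1}ᶜ τ := by
  let good : Finset (L → ℂ) → Prop := fun V =>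
    U ⊆ V ∧ Cfsg.IsCoherent (↑V : Set (L → ℂ)) {1}ᶜ τ ∧
      ∀ φ ∈ V, φ ∉ U → ∀ ξ ∈ T, CT.deg ξ < CT.deg φ → ξ ∈ V
  obtain ⟨V, hV, hmax⟩ := Finset.exists_max_image (T.powerset.filter good) Finset.card
    ⟨U, Finset.mem_filter.mpr ⟨Finset.mem_powerset.mpr hUT, subset_rfl, hU, fun φ h h' => absurd h h'⟩⟩
  obtain ⟨hVT', hUV, hVcoh, hdown⟩ := Finset.mem_filter.mp hV
  have hVT := Finset.mem_powerset.mp hVT'
  by_cases hall : T ⊆ V
  · rwa [Finset.Subset.antisymm hVT hall] at hVcoh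
  exfalso
  obtain ⟨x, hxT, hxV⟩ := Finset.not_subset.mp hall
  obtain ⟨χ, hχ, hmin⟩ := Finset.exists_min_image (T \ V) CT.deg ⟨x, Finset.mem_sdiff.mpr ⟨hxT, hxV⟩⟩
  obtain ⟨hχT, hχV⟩ := Finset.mem_sdiff.mp hχ
  have hlow : ∀ ξ ∈ T, CT.deg ξ < CT.deg χ → ξ ∈ V := fun ξ h hlt => by
    by_contra hno
    have := hmin ξ (Finset.mem_sdiff.mpr ⟨h, hno⟩)
    omega
  obtain ⟨ψ, hψ, hdvd, hlt⟩ := hstep χ hχT (fun h => hχV (hUV h))
  have hins : (↑(insert χ V) : Set (L → ℂ)) ⊆ ↑T := by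
    simp only [Finset.coe_insert]
    exact Set.insert_subset hχT hVT
  have hnew := irr_extend V χ (fun ξ h => hirr ξ (hVT h)) (hirr χ hχT) hχV CT.deg
    (fun ξ h => CT.deg_eq (CT.isCharacter_of_isIrr (hirr ξ (hins h)))) τ
    ⟨fun a ha b hb => hτ.1 a (OddChar.zspanOn_mono hins ha) b (OddChar.zspanOn_mono hins hb),
      fun a ha => hτ.2.1 a (OddChar.zspanOn_mono hins ha),
      fun a ha b hb => hτ.2.2.1 a (OddChar.zspanOn_mono hins ha) b (OddChar.zspanOn_mono hins hb),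
      fun a ha => hτ.2.2.2 a (OddChar.zspanOn_mono hins ha)⟩
    (fun a ha => hτ1 a (OddChar.zspanOn_mono hins ha)) hVcoh ψ (hUV hψ) hdvd
    (lt_of_lt_of_le hlt (Finset.sum_le_sum_of_subset fun φ hφ => by
      obtain ⟨hφT, h | h⟩ := Finset.mem_filter.mp hφ
      · exact hUV h
      · exact hlow φ hφT h))
  have hmem : insert χ V ∈ T.powerset.filter good := by
    refine Finset.mem_filter.mpr ⟨Finset.mem_powerset.mpr (Finset.insert_subset hχT hVT),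
      hUV.trans (Finset.subset_insert _ _), hnew, fun φ hφ hφU ξ hξ hξd => Finset.mem_insert_of_mem ?_⟩
    rcases Finset.mem_insert.mp hφ with rfl | h
    · exact hlow ξ hξ hξd
    · exact hdown φ h hφU ξ hξ hξd
  have := hmax _ hmem
  rw [Finset.card_insert_of_notMem hχV] at this
  omega

end Cfsg.Agent.CohExt
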