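import Cfsg.Agent.Lib.CohExt.Frob
import Cfsg.Agent.Lib.CohExt.Central
import Cfsg.Agent.Lib.CohExt.Irr
import Cfsg.Agent.Lib.CT.FrobKernelChars

/-!
# The characters of a Frobenius group nontrivial on the kernel, by their kernels
-/

set_option autoImplicit false
set_option linter.all false

namespace Cfsg.Agent.CohExt.FrobSet

open scoped ComplexConjugate commutatorElement
open Cfsg.Agent.CT.FrobKernel

universe u

variable {M : Type u} [Group M] [Fintype M] (N : Subgroup M) [hN : N.Normal]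

open Classical in
/-- The functions induced from nonprincipal characters of `N` trivial on `A`. -/
noncomputable def ntAbove (A : Subgroup M) : Finset (M → ℂ) :=
  letI := Fintype.ofFinite N
  Finset.image (fun θ : IrrCharacter N => indFun N (θ : N → ℂ)) (Finset.univ.filter fun θ : IrrCharacter N =>
    (θ : N → ℂ) ≠ (fun _ => 1) ∧ ∀ a : N, (a : M) ∈ A → (θ : N → ℂ) a = (θ : N → ℂ) 1)

theorem mem_ntAbove {A : Subgroup M} {φ : M → ℂ} : φ ∈ ntAbove N A ↔ φ ∈ inducedIrrAbove N A := by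
  classical
  simp only [ntAbove, Finset.mem_image, Finset.mem_filter, Finset.mem_univ, true_and]
  constructor
  · rintro ⟨θ, ⟨h1, h2⟩, rfl⟩
    exact ⟨θ, θ.2, h1, h2, rfl⟩
  · rintro ⟨θ, hθ, h1, h2, rfl⟩
    exact ⟨⟨θ, hθ⟩, ⟨h1, h2⟩, rfl⟩

theorem coe_ntAbove (A : Subgroup M) : (↑(ntAbove N A) : Set (M → ℂ)) = inducedIrrAbove N A :=
  Set.ext fun _ => mem_ntAbove N

theorem ntAbove_mono {A A' : Subgroup M} (h : A ≤ A') : ntAbove N A' ⊆ ntAbove N A := fun φ hφ =>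
  (mem_ntAbove N).mpr (above_mono N h ((mem_ntAbove N).mp hφ))

theorem trivial_bot (θ : N → ℂ) (a : N) (ha : (a : M) ∈ (⊥ : Subgroup M)) : θ a = θ 1 := by
  rw [show a = 1 from Subtype.ext (Subgroup.mem_bot.mp ha)]

theorem ntAbove_subset (A : Subgroup M) : ntAbove N A ⊆ ntAbove N ⊥ := ntAbove_mono N bot_le

theorem ind_trivial (A : Subgroup M) [A.Normal] {θ : N → ℂ} (hθ : IsIrrCharacter N θ)
    (h : ∀ a ∈ A, a ∈ N → indFun N θ a = indFun N θ 1) : ∀ a : N, (a : M) ∈ A → θ a = θ 1 := by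
  classical
  haveI := Fintype.ofFinite N
  set Z' := A.subgroupOf N with hZ'
  haveI := Fintype.ofFinite Z'
  intro a ha
  by_contra hne
  have hθ0 : ∑ z : Z', θ z = 0 := by
    by_contra h0
    have h' : classInner (fun z : Z' => θ z) (fun _ : Z' => (1 : ℂ)) ≠ 0 := by
      simp only [classInner, map_one, mul_one]
      exact mul_ne_zero (inv_ne_zero (Nat.cast_ne_zero.mpr Nat.card_pos.ne')) h0
    have h := CT.restrict_eq_smul_of_invariant Z' hθ CT.isIrrCharacter_one h' (fun g => rfl)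
    have h1 := congrFun h ⟨a, ha⟩
    have h2 := congrFun h 1
    simp only [Pi.smul_apply, smul_eq_mul, mul_one] at h1 h2
    exact hne (by rw [h1, show θ 1 = θ ((1 : Z') : N) from rfl, h2])
  have hsum : ∑ z : Z', indFun N θ (((z : N)) : M) = 0 := by
    simp only [CT.indFun_apply_normal N θ]
    rw [← Finset.mul_sum, Finset.sum_comm, Finset.sum_eq_zero fun g _ => ?_, mul_zero]
    rw [← hθ0]
    refine Fintype.sum_equiv (Equiv.ofBijective (fun z : Z' => (⟨⟨g * ((z : N) : M) * g⁻¹,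
      hN.conj_mem _ (z : N).2 g⟩, ‹A.Normal›.conj_mem _ z.2 g⟩ : Z'))
      (Finite.injective_iff_bijective.mp fun x y e => by
        have := congrArg (fun w : Z' => ((w : N) : M)) e
        simpa [mul_left_inj, mul_right_inj] using this)) _ _ fun z => rfl
  have hall' : ∀ z : Z', indFun N θ (((z : N)) : M) = indFun N θ 1 := fun z => h _ z.2 (z : N).2
  rw [Finset.sum_congr rfl fun z _ => hall' z, Finset.sum_const, nsmul_eq_mul, CT.indFun_one_eval] at hsum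
  simp [Fintype.card_ne_zero, N.index_ne_zero_of_finite, CT.irr_one_ne_zero hθ] at hsum

theorem trivial_of_mem (A : Subgroup M) [A.Normal] {φ : M → ℂ} (hφ : φ ∈ ntAbove N A) :
    ∀ a ∈ A, a ∈ N → φ a = φ 1 := by
  classical
  obtain ⟨θ, hθ, -, hker, rfl⟩ := (mem_ntAbove N).mp hφ
  intro a ha haN
  rw [show (a : M) = ((⟨a, haN⟩ : N) : M) from rfl, show (1 : M) = ((1 : N) : M) from rfl,
    CT.indFun_apply_normal, CT.indFun_apply_normal]
  congr 1
  refine Finset.sum_congr rfl fun g _ => ?_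
  show θ ⟨g * a * g⁻¹, _⟩ = θ ⟨g * (1 : N) * g⁻¹, _⟩
  rw [hker ⟨g * a * g⁻¹, _⟩ (‹A.Normal›.conj_mem _ ha g)]
  exact congrArg θ (Subtype.ext (by simp))

section frob

variable (hC : ∀ n ∈ N, n ≠ 1 → Subgroup.centralizer ({n} : Set M) ≤ N)
include hC

theorem irr_of_mem {A : Subgroup M} {φ : M → ℂ} (hφ : φ ∈ ntAbove N A) : IsIrrCharacter M φ := by
  obtain ⟨θ, hθ, hne, -, rfl⟩ := (mem_ntAbove N).mp hφ
  exact CT.isIrr_indFun_of_inertia N hθ (OddChar.frob_inertia N hC hθ hne)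

theorem mem_bot_iff {φ : M → ℂ} : φ ∈ ntAbove N ⊥ ↔ IsIrrCharacter M φ ∧ NT N φ := by
  constructor
  · intro hφ
    refine ⟨irr_of_mem N hC hφ, ?_⟩
    obtain ⟨θ, hθ, hne, -, rfl⟩ := (mem_ntAbove N).mp hφ
    obtain ⟨χ, hχ, e⟩ := exists_nt_of_irr N hC ⟨θ, hθ⟩ hne
    exact e ▸ hχ
  · rintro ⟨h1, h2⟩
    obtain ⟨θ, hne, rfl⟩ := exists_eq_indFun N hC h1 h2
    exact (mem_ntAbove N).mpr ⟨θ, θ.2, hne, trivial_bot N _, rfl⟩

theorem coe_eq {S : Set (M → ℂ)} (hS : S = {χ : M → ℂ | IsIrrCharacter M χ ∧ ∃ k ∈ N, χ k ≠ χ 1}) :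
    (↑(ntAbove N ⊥) : Set (M → ℂ)) = S := by
  subst hS
  exact Set.ext fun φ => mem_bot_iff N hC

theorem sum_deg (A : Subgroup M) [A.Normal] :
    ∑ φ ∈ ntAbove N A, CT.deg φ ^ 2 + N.index = N.index * A.relIndex N := by
  have h := sum_above N A (ntAbove N A) (coe_ntAbove N A)
  rw [Finset.sum_congr rfl (g := fun φ => ((CT.deg φ ^ 2 : ℕ) : ℂ)) fun φ hφ => by
    have hi := irr_of_mem N hC hφ
    rw [CT.irr_inner_self hi, div_one, CT.deg_eq (CT.isCharacter_of_isIrr hi), Nat.cast_pow],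
    ← Nat.cast_sum] at h
  have h' : ((∑ φ ∈ ntAbove N A, CT.deg φ ^ 2 + N.index : ℕ) : ℂ) = ((N.index * A.relIndex N : ℕ) : ℂ) := by
    push_cast at h ⊢
    linear_combination h
  exact_mod_cast h'

theorem exists_theta {A : Subgroup M} {φ : M → ℂ} (hφ : φ ∈ ntAbove N A) :
    ∃ θ : N → ℂ, IsIrrCharacter N θ ∧ θ ≠ (fun _ => 1) ∧ (∀ a : N, (a : M) ∈ A → θ a = θ 1) ∧
      φ = indFun N θ ∧ CT.deg φ = N.index * CT.deg θ := by
  obtain ⟨θ, hθ, hne, hker, rfl⟩ := (mem_ntAbove N).mp hφ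
  exact ⟨θ, hθ, hne, hker, rfl, deg_indFun N (CT.isCharacter_of_isIrr hθ)⟩

theorem deg_of_comm {A : Subgroup M} [A.Normal] (hA : ⁅N, N⁆ ≤ A) {φ : M → ℂ} (hφ : φ ∈ ntAbove N A) :
    CT.deg φ = N.index := by
  haveI := Fintype.ofFinite N
  obtain ⟨θ, hθ, -, hker, -, hdeg⟩ := exists_theta N hC hφ
  have h1 := deg_one_of_comm_le N A hA hθ hker
  rw [CT.deg_eq (CT.isCharacter_of_isIrr hθ)] at h1
  rw [hdeg, show CT.deg θ = 1 from by exact_mod_cast h1, mul_one]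

theorem card_mul (A : Subgroup M) [A.Normal] (hA : ⁅N, N⁆ ≤ A) :
    (ntAbove N A).card * N.index + 1 = A.relIndex N := by
  have h := sum_deg N hC A
  rw [Finset.sum_congr rfl (g := fun _ => N.index ^ 2) fun φ hφ => by rw [deg_of_comm N hC hA hφ],
    Finset.sum_const, smul_eq_mul] at h
  refine Nat.eq_of_mul_eq_mul_left (Nat.pos_of_ne_zero N.index_ne_zero_of_finite) ?_
  rw [← h]
  ring

theorem coprime_index (hN1 : N ≠ ⊥) (hNt : N ≠ ⊤) {p : ℕ} (hp : p.Prime) (hd : p ∣ Nat.card N) :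
    ¬ p ∣ N.index := by
  haveI : Fact p.Prime := ⟨hp⟩
  haveI := OddChar.frob_nilpotent N hC hN1 hNt
  haveI hsN : Group.IsSolvable N := inferInstance
  have h1 := dvd_card_abelianization (Q := N) hp hd
  have h2 := card_mul N hC ⁅N, N⁆ le_rfl
  have h3 : ⁅N, N⁆.relIndex N = (commutator N).index := by
    show (⁅N, N⁆.subgroupOf N).index = _
    congr 1
    apply Subgroup.map_injective N.subtype_injective
    rw [Subgroup.map_subgroupOf_eq_of_le (Subgroup.commutator_le_left N N), Subgroup.map_subtype_commutator]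
  rw [h3] at h2
  intro hpe
  rw [← h2] at h1
  exact hp.not_dvd_one ((Nat.dvd_add_right (dvd_mul_of_dvd_right hpe _)).mp h1)

/-- Degree data in the prime power case. -/
theorem pgroup_deg {p m : ℕ} (hp : p.Prime) (hpm : Nat.card N = p ^ m) {A : Subgroup M} (hAN : A ≤ N)
    (hAc : ∀ a ∈ A, ∀ k ∈ N, a * k = k * a) {φ : M → ℂ} (hφ : φ ∈ ntAbove N ⊥) :
    ∃ c, CT.deg φ = N.index * p ^ c ∧ p ^ (2 * c) ∣ A.relIndex N := by
  haveI := Fintype.ofFinite N
  obtain ⟨θ, hθ, -, -, -, hdeg⟩ := exists_theta N hC hφ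
  obtain ⟨c, -, hc⟩ := (Nat.dvd_prime_pow hp).mp (hpm ▸ deg_dvd_card hθ)
  refine ⟨c, by rw [hdeg, hc], ?_⟩
  obtain ⟨j, -, hj⟩ := (Nat.dvd_prime_pow hp).mp (hpm ▸ Subgroup.relIndex_dvd_card A N)
  have hle := deg_sq_le_index hθ (A.subgroupOf N) fun z hz =>
    Subgroup.mem_center_iff.mpr fun y => Subtype.ext (hAc z hz y y.2).symm
  change CT.deg θ ^ 2 ≤ A.relIndex N at hle
  rw [hj, hc, ← pow_mul] at hle
  rw [hj]
  exact Nat.pow_dvd_pow p (by
    have := (Nat.pow_le_pow_iff_right hp.one_lt).mp hle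
    omega)

end frob

end Cfsg.Agent.CohExt.FrobSet
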