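import Cfsg.Agent.Lib.CohExt.Extend
import Mathlib.GroupTheory.Nilpotent

/-!
# Extending coherence down a nilpotent factor
-/

set_option autoImplicit false
set_option linter.all false

namespace Cfsg.Agent.CohExt

open scoped commutatorElement

universe u v

theorem not_le_commutator_sup {Q : Type u} [Group Q] [Group.IsNilpotent Q] {a c : Subgroup Q} [c.Normal]
    (hac : ¬ a ≤ c) : ¬ a ≤ ⁅a, (⊤ : Subgroup Q)⁆ ⊔ c := by
  intro hle
  have hT : ∀ i, a ≤ Subgroup.lowerCentralSeries (⊤ : Subgroup Q) i ⊔ c := by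
    intro i
    induction i with
    | zero => simp
    | succ i ih =>
      refine hle.trans (sup_le ?_ le_sup_right)
      rw [Subgroup.commutator_le]
      intro g hg z hz
      obtain ⟨x, hx, y, hy, rfl⟩ := Subgroup.mem_sup_of_normal_right.mp (ih hg)
      rw [show ⁅x * y, z⁆ = (x * (y * (z * y⁻¹ * z⁻¹)) * x⁻¹) * ⁅x, z⁆ by rw [commutatorElement_def, commutatorElement_def]; group]
      refine Subgroup.mul_mem _ (Subgroup.mem_sup_right ?_) (Subgroup.mem_sup_left ?_)
      · exact ‹c.Normal›.conj_mem _ (c.mul_mem hy (‹c.Normal›.conj_mem _ (c.inv_mem hy) z)) x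
      · exact Subgroup.commutator_mem_commutator hx (Subgroup.mem_top z)
  obtain ⟨n, hn⟩ := Subgroup.nilpotent_iff_lowerCentralSeries.mp (inferInstance : Group.IsNilpotent Q)
  exact hac (le_trans (hT n) (by rw [hn, bot_sup_eq]))

variable {L : Type u} [Group L] [Fintype L] {G : Type v} [Group G] [Fintype G]
  {τ : (L → ℂ) → (G → ℂ)} {R : (L → ℂ) → Finset (G → ℂ)} (K : Subgroup L)

theorem extend_nilpotent [hK : K.Normal] (hsolv : Group.IsSolvable K)
    (hS : IsCoherenceSystem (inducedIrrAbove K ⊥) τ R) (M H₁ H : Subgroup L) [M.Normal] [H₁.Normal] [hHn : H.Normal]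
    (hMH₁ : M ≤ H₁) (hH₁H : H₁ ≤ H) (hHK : H ≤ K) [(M.subgroupOf H).Normal]
    (hnil : Group.IsNilpotent (↥H ⧸ M.subgroupOf H)) (hcoh : IsCoherent (inducedIrrAbove K H₁) {1}ᶜ τ)
    (hbig : 4 * K.index ^ 2 + 1 < H₁.relIndex H) : IsCoherent (inducedIrrAbove K M) {1}ᶜ τ := by
  classical
  haveI : Fintype (Subgroup L) := Fintype.ofFinite _
  let cand : Finset (Subgroup L) := Finset.univ.filter fun A =>
    A.Normal ∧ M ≤ A ∧ A ≤ H₁ ∧ IsCoherent (inducedIrrAbove K A) {1}ᶜ τ
  obtain ⟨A, hAmem, hmin⟩ := Finset.exists_min_image cand (fun A => Nat.card A)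
    ⟨H₁, Finset.mem_filter.mpr ⟨Finset.mem_univ _, inferInstance, hMH₁, le_rfl, hcoh⟩⟩
  obtain ⟨hAn, hMA, hAH₁, hAcoh⟩ := (Finset.mem_filter.mp hAmem).2
  haveI := hAn
  by_cases hAM : A = M
  · rwa [hAM] at hAcoh
  exfalso
  let below : Finset (Subgroup L) := Finset.univ.filter fun B => B.Normal ∧ M ≤ B ∧ B < A
  obtain ⟨B, hBmem, hmax⟩ := Finset.exists_max_image below (fun B => Nat.card B)
    ⟨M, Finset.mem_filter.mpr ⟨Finset.mem_univ _, inferInstance, le_rfl, lt_of_le_of_ne hMA (Ne.symm hAM)⟩⟩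
  obtain ⟨hBn, hMB, hBA⟩ := (Finset.mem_filter.mp hBmem).2
  haveI := hBn
  have hAH : A ≤ H := hAH₁.trans hH₁H
  have hAHle : ⁅A, H⁆ ≤ A := Subgroup.commutator_le_left A H
  have hcase : ⁅A, H⁆ ≤ B := by
    by_contra hno
    have heq : ⁅A, H⁆ ⊔ B = A := by
      by_contra hne
      have h1 : ⁅A, H⁆ ⊔ B ∈ below := Finset.mem_filter.mpr ⟨Finset.mem_univ _, inferInstance,
        hMB.trans le_sup_right, lt_of_le_of_ne (sup_le hAHle hBA.le) hne⟩
      have h2 := hmax _ h1
      have h3 := Subgroup.eq_of_le_of_card_ge (le_sup_right : B ≤ ⁅A, H⁆ ⊔ B) h2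
      exact hno (h3 ▸ le_sup_left)
    set f := (QuotientGroup.mk' (M.subgroupOf H)) with hf
    haveI := hnil
    haveI : (B.subgroupOf H).Normal := inferInstance
    haveI : ((B.subgroupOf H).map f).Normal := Subgroup.Normal.map inferInstance f (QuotientGroup.mk'_surjective _)
    refine not_le_commutator_sup (a := (A.subgroupOf H).map f) (c := (B.subgroupOf H).map f) ?_ ?_
    · intro h
      rw [Subgroup.map_le_map_iff, QuotientGroup.ker_mk', sup_eq_left.mpr (fun x hx => hMB hx)] at h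
      exact hBA.not_ge (fun x hx => h (show (⟨x, hAH hx⟩ : H) ∈ A.subgroupOf H from hx))
    · have hle : A.subgroupOf H ≤ ⁅A.subgroupOf H, ⊤⁆ ⊔ B.subgroupOf H := by
        intro x hx
        have hx' : (x : L) ∈ (⁅A.subgroupOf H, ⊤⁆ ⊔ B.subgroupOf H).map H.subtype := by
          rw [Subgroup.map_sup, Subgroup.map_commutator, Subgroup.map_subgroupOf_eq_of_le hAH,
            Subgroup.map_subgroupOf_eq_of_le (hBA.le.trans hAH), ← MonoidHom.range_eq_map, Subgroup.range_subtype, heq]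
          exact hx
        obtain ⟨y, hy, e⟩ := hx'
        rwa [← Subtype.ext e]
      have := Subgroup.map_mono (f := f) hle
      rwa [Subgroup.map_sup, Subgroup.map_commutator, Subgroup.map_top_of_surjective f (QuotientGroup.mk'_surjective _)] at this
  have hH₁ne : H₁ ≠ H := fun h => by rw [h, Subgroup.relIndex_self] at hbig; omega
  have hAK : A < K := lt_of_lt_of_le (lt_of_le_of_lt hAH₁ (lt_of_le_of_ne hH₁H hH₁ne)) hHK
  have hk : A.relIndex K = A.relIndex H * H.relIndex K := (Subgroup.relIndex_mul_relIndex A H K hAH hHK).symm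
  have hm : H₁.relIndex H ≤ A.relIndex H := by
    refine Nat.le_of_dvd (Nat.pos_of_ne_zero ?_) (Subgroup.relIndex_dvd_of_le_left H hAH₁)
    exact Subgroup.index_ne_zero_of_finite
  have hidx : H.index = H.relIndex K * K.index := (Subgroup.relIndex_mul_index hHK).symm
  have hk0 : 1 ≤ H.relIndex K := Nat.one_le_iff_ne_zero.mpr Subgroup.index_ne_zero_of_finite
  have hlt : 4 * H.index ^ 2 * A.relIndex H < (A.relIndex K - 1) ^ 2 := by
    rw [hk, hidx]
    have hm' : 4 * K.index ^ 2 + 2 ≤ A.relIndex H := by omega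
    revert hm' hk0
    generalize A.relIndex H = m
    generalize H.relIndex K = k
    generalize K.index = e
    intro hk0 hm'
    obtain ⟨j, hj⟩ : ∃ j, m * k = j + 1 := ⟨m * k - 1, by
      have : 0 < m * k := Nat.mul_pos (by omega) (by omega)
      omega⟩
    rw [hj, Nat.add_sub_cancel]
    have h1 : ((m : ℤ) * k) = j + 1 := by exact_mod_cast hj
    have h2 : (4 : ℤ) * e ^ 2 + 2 ≤ m := by exact_mod_cast hm'
    have h3 : (1 : ℤ) ≤ k := by exact_mod_cast hk0
    have hgoal : (4 : ℤ) * ((k : ℤ) * e) ^ 2 * m < (j : ℤ) ^ 2 := by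
      have hj' : (j : ℤ) = m * k - 1 := by linarith
      rw [hj']
      have h4 : 0 ≤ (m : ℤ) * k * (k * (m - 2 - 4 * e ^ 2)) := by
        have : (0 : ℤ) ≤ m - 2 - 4 * e ^ 2 := by linarith
        positivity
      have h5 : (0 : ℤ) ≤ (m : ℤ) * k * (2 * k - 2) := by
        have : (0 : ℤ) ≤ 2 * k - 2 := by linarith
        positivity
      nlinarith
    exact_mod_cast hgoal
  have hcB := extend_central K hsolv hS A B H A hAK (lt_of_lt_of_le hBA hAK.le) hBA.le hAH hHK
    (fun x hx y hy => hcase (Subgroup.commutator_mem_commutator hx hy)) hAcoh hlt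
  have h := hmin B (Finset.mem_filter.mpr ⟨Finset.mem_univ _, hBn, hMB, hBA.le.trans hAH₁, hcB⟩)
  exact absurd (Subgroup.eq_of_le_of_card_ge hBA.le h) hBA.ne

end Cfsg.Agent.CohExt
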