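import Cfsg.Agent.Lib.CohExt.SibleyCentral
import Cfsg.Agent.Lib.CT.FrobKernelChars
import Cfsg.Agent.S1531

/-!
# Sibley's theorem for odd order Frobenius groups with a TI kernel
-/

set_option autoImplicit false
set_option linter.all false

namespace Cfsg.Agent.CohExt.Sibley

open scoped ComplexConjugate commutatorElement
open Cfsg.Agent.CohExt.FrobSet

universe u

theorem arith {f k a T C : ℤ} (ha : 1 ≤ a) (hT : 2 ≤ T) (hC : 2 ≤ C)
    (h : f ^ 2 * T + 2 * f + a ^ 2 * (C * k ^ 2 - 2 * k) ≤ 0) :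
    (f = 0 ∨ f = -1 ∧ T = 2) ∧ (k = 0 ∨ k = 1 ∧ C = 2) := by
  have h1 : 0 ≤ f ^ 2 * T + 2 * f := by
    rcases lt_trichotomy f 0 with hf | rfl | hf
    · nlinarith [mul_nonneg (mul_self_nonneg f) (sub_nonneg.mpr hT), mul_self_nonneg (f + 1)]
    · simp
    · nlinarith
  have h2 : 0 ≤ C * k ^ 2 - 2 * k := by
    rcases lt_trichotomy k 0 with hk | rfl | hk
    · nlinarith
    · simp
    · nlinarith
  have h3 : f ^ 2 * T + 2 * f = 0 := by nlinarith [mul_nonneg (sq_nonneg a) h2]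
  have h4 : C * k ^ 2 - 2 * k = 0 := by
    have : a ^ 2 * (C * k ^ 2 - 2 * k) = 0 := le_antisymm (by linarith) (mul_nonneg (sq_nonneg a) h2)
    exact (mul_eq_zero.mp this).resolve_left (pow_ne_zero _ (by omega))
  constructor
  · rcases mul_eq_zero.mp (show f * (f * T + 2) = 0 by linarith) with hf | hf
    · exact Or.inl hf
    · have h5 : f ≤ -1 := by nlinarith
      have h6 : -1 ≤ f := by nlinarith
      obtain rfl : f = -1 := by omega
      exact Or.inr ⟨rfl, by linarith⟩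
  · rcases mul_eq_zero.mp (show k * (C * k - 2) = 0 by linarith) with hk | hk
    · exact Or.inl hk
    · have h5 : 1 ≤ k := by nlinarith
      have h6 : k ≤ 1 := by nlinarith
      obtain rfl : k = 1 := by omega
      exact Or.inr ⟨rfl, by linarith⟩

variable {M : Type u} [Group M] [Fintype M]

open Classical in
/-- The sign change of a coherent map on a pair of conjugate characters. -/
theorem flip {G : Type u} [Group G] [Fintype G] (T : Finset (M → ℂ)) {φ : M → ℂ} (hφ : φ ∈ T)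
    (hirr : ∀ ξ ∈ T, IsIrrCharacter M ξ) (hc : Cfsg.conjFun φ ∈ T) (hne : Cfsg.conjFun φ ≠ φ) (h2 : T.card = 2)
    (σ : (M → ℂ) → (G → ℂ)) (hσ : IsLinearIsometryOn (zspan (↑T : Set (M → ℂ))) σ) :
    ∃ σ' : (M → ℂ) → (G → ℂ), IsLinearIsometryOn (zspan (↑T : Set (M → ℂ))) σ' ∧
      (∀ α ∈ zspanOn (↑T : Set (M → ℂ)) {1}ᶜ, σ' α = σ α) ∧ σ' φ = -σ (Cfsg.conjFun φ) := by
  have hT : T = {φ, Cfsg.conjFun φ} := by
    refine (Finset.eq_of_subset_of_card_le ?_ ?_).symm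
    · intro x hx
      simp only [Finset.mem_insert, Finset.mem_singleton] at hx
      rcases hx with rfl | rfl <;> assumption
    · rw [h2, Finset.card_pair hne.symm]
  set ψ := Cfsg.conjFun φ with hψ
  have hψψ : Cfsg.conjFun ψ = φ := by rw [hψ, OddChar.conjFun_conjFun]
  have key : ∀ α ∈ zspan (↑T : Set (M → ℂ)), ∃ i j : ℤ, α = i • φ + j • ψ := by
    refine OddChar.zspan_induction (fun x hx => ?_) ⟨0, 0, by simp⟩ ?_ ?_
    · rw [hT, Finset.mem_coe, Finset.mem_insert, Finset.mem_singleton] at hx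
      rcases hx with rfl | rfl
      · exact ⟨1, 0, by simp⟩
      · exact ⟨0, 1, by simp⟩
    · rintro a - b - ⟨i, j, rfl⟩ ⟨i', j', rfl⟩
      exact ⟨i + i', j + j', by rw [add_smul, add_smul]; abel⟩
    · rintro n a - ⟨i, j, rfl⟩
      exact ⟨n * i, n * j, by rw [smul_add, smul_smul, smul_smul]⟩
  have hconj : ∀ i j : ℤ, Cfsg.conjFun (i • φ + j • ψ) = j • φ + i • ψ := by
    intro i j
    funext x
    simp [Cfsg.conjFun, hψ]
    ring
  have hmem : ∀ α ∈ zspan (↑T : Set (M → ℂ)), Cfsg.conjFun α ∈ zspan (↑T : Set (M → ℂ)) := by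
    intro α hα
    obtain ⟨i, j, rfl⟩ := key α hα
    rw [hconj]
    exact OddChar.zspan_add (OddChar.zspan_smul _ (OddChar.zspan_self hφ)) (OddChar.zspan_smul _ (OddChar.zspan_self hc))
  refine ⟨fun α => -σ (Cfsg.conjFun α), ⟨fun a ha b hb => ?_, fun a ha n => ?_, fun a ha b hb => ?_,
    fun a ha => CT.isGen_neg (hσ.2.2.2 _ (hmem a ha))⟩, fun α hα => ?_, rfl⟩
  · show -σ (Cfsg.conjFun (a + b)) = -σ (Cfsg.conjFun a) + -σ (Cfsg.conjFun b)
    rw [show Cfsg.conjFun (a + b) = Cfsg.conjFun a + Cfsg.conjFun b from funext fun x => map_add _ _ _,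
      hσ.1 _ (hmem a ha) _ (hmem b hb), neg_add]
  · show -σ (Cfsg.conjFun (n • a)) = n • -σ (Cfsg.conjFun a)
    rw [show Cfsg.conjFun (n • a) = n • Cfsg.conjFun a from funext fun x => by simp [Cfsg.conjFun],
      hσ.2.1 _ (hmem a ha) n, smul_neg]
  · show Cfsg.classInner (-σ (Cfsg.conjFun a)) (-σ (Cfsg.conjFun b)) = Cfsg.classInner a b
    rw [CT.classInner_neg_left, CT.classInner_neg_right, neg_neg, hσ.2.2.1 _ (hmem a ha) _ (hmem b hb)]
    obtain ⟨i, j, rfl⟩ := key a ha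
    obtain ⟨i', j', rfl⟩ := key b hb
    rw [hconj, hconj]
    simp only [CT.classInner_add_left, CT.classInner_add_right, OddChar.classInner_zsmul_left,
      OddChar.classInner_zsmul_right, CT.irr_inner_self (hirr φ hφ), CT.irr_inner_self (hirr ψ hc),
      CT.irr_inner_of_ne (hirr φ hφ) (hirr ψ hc) hne.symm, CT.irr_inner_of_ne (hirr ψ hc) (hirr φ hφ) hne]
    ring
  · show -σ (Cfsg.conjFun α) = σ α
    obtain ⟨hz, h1⟩ := OddChar.zspanOn_iff.mp hα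
    obtain ⟨i, j, rfl⟩ := key α hz
    have hd : φ 1 ≠ 0 := CT.irr_one_ne_zero (hirr φ hφ)
    have hij : j = -i := by
      rw [hψ] at h1
      rw [Pi.add_apply, Pi.smul_apply, Pi.smul_apply, zsmul_eq_mul, zsmul_eq_mul,
        OddChar.conjFun_one_of_char (CT.isCharacter_of_isIrr (hirr φ hφ)), ← add_mul, mul_eq_zero] at h1
      have : i + j = 0 := by exact_mod_cast h1.resolve_right hd
      omega
    rw [hconj, hij, hσ.1 _ (OddChar.zspan_smul _ (OddChar.zspan_self hφ)) _ (OddChar.zspan_smul _ (OddChar.zspan_self hc)),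
      hσ.1 _ (OddChar.zspan_smul _ (OddChar.zspan_self hφ)) _ (OddChar.zspan_smul _ (OddChar.zspan_self hc)),
      hσ.2.1 _ (OddChar.zspan_self hφ), hσ.2.1 _ (OddChar.zspan_self hc),
      hσ.2.1 _ (OddChar.zspan_self hφ), hσ.2.1 _ (OddChar.zspan_self hc), neg_smul, neg_smul, neg_add, neg_neg]

section values

variable (N : Subgroup M) [hN : N.Normal]
  (hC : ∀ n ∈ N, n ≠ 1 → Subgroup.centralizer ({n} : Set M) ≤ N) (Z : Subgroup M) [Z.Normal]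

include hC

open Classical in
theorem mem_sdiff_iff (hZN : Z ≤ N) {φ : M → ℂ} :
    φ ∈ ntAbove N ⊥ \ ntAbove N Z ↔ IsIrrCharacter M φ ∧ ∃ z ∈ Z, φ z ≠ φ 1 := by
  rw [Finset.mem_sdiff]
  constructor
  · rintro ⟨h, hZ⟩
    refine ⟨irr_of_mem N hC h, ?_⟩
    by_contra hno
    push Not at hno
    obtain ⟨θ, hθ, hne, -, rfl⟩ := (mem_ntAbove N).mp h
    exact hZ ((mem_ntAbove N).mpr ⟨θ, hθ, hne, ind_trivial N Z hθ (fun a ha _ => hno a ha), rfl⟩)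
  · rintro ⟨hi, z, hz, hne⟩
    exact ⟨(mem_bot_iff N hC).mpr ⟨hi, z, hZN hz, hne⟩, fun h => hne (trivial_of_mem N Z h z hz (hZN hz))⟩

open Classical in
/-- A class function proportional to the degrees on the characters nontrivial on `Z`. -/
theorem diff_value (hZN : Z ≤ N) {f : M → ℂ} (hf : IsClassFunction M f) (t : ℂ)
    (ht : ∀ φ ∈ ntAbove N ⊥ \ ntAbove N Z, classInner f φ = t * φ 1) {z : M} (hz : z ∈ Z) (hz1 : z ≠ 1) :
    f 1 - f z = t * (Nat.card M : ℂ) := by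
  have h := CT.column_orthogonality z 1
  rw [if_neg (fun hc => hz1 (isConj_one_left.mp hc))] at h
  have e : ∀ χ : IrrCharacter M, (χ : M → ℂ) z * conj ((χ : M → ℂ) 1) = (χ : M → ℂ) 1 * (χ : M → ℂ) z := by
    intro χ; rw [CT.deg_eq (CT.isCharacter_of_isIrr χ.2), map_natCast, mul_comm]
  simp only [e] at h
  rw [congrFun (CT.classFunction_eq_sum hf) 1, congrFun (CT.classFunction_eq_sum hf) z, Finset.sum_apply,
    Finset.sum_apply, ← Finset.sum_sub_distrib, ← CT.sum_degree_sq (G := M),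
    ← sub_zero (∑ χ : IrrCharacter M, (χ : M → ℂ) 1 ^ 2), ← h, ← Finset.sum_sub_distrib, Finset.mul_sum]
  refine Finset.sum_congr rfl fun χ _ => ?_
  simp only [Pi.smul_apply, smul_eq_mul]
  by_cases hχ : ∀ a ∈ Z, (χ : M → ℂ) a = (χ : M → ℂ) 1
  · rw [hχ z hz]; ring
  · push Not at hχ
    rw [ht _ ((mem_sdiff_iff N hC Z hZN).mpr ⟨χ.2, hχ⟩)]
    ring

end values

variable {G : Type u} [Group G] [Fintype G] (L : Subgroup G) [Fintype L] (N : Subgroup L) [hN : N.Normal]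
  (hC : ∀ n ∈ N, n ≠ 1 → Subgroup.centralizer ({n} : Set L) ≤ N)
  (hτ : IsLinearIsometryOn (zspanOn (↑(ntAbove N ⊥) : Set (L → ℂ)) {1}ᶜ) (fun α : L → ℂ => indFun L α))
include hC hτ

open Classical in
theorem union_coherent (hN1 : N ≠ ⊥) (hNt : N ≠ ⊤) {p m : ℕ} (hp : p.Prime) (hp2 : p ≠ 2)
    (hpm : Nat.card N = p ^ m) (he : Odd N.index) (Z : Subgroup L) [Z.Normal] (hZ1 : Z ≠ ⊥) (hZN' : Z ≤ ⁅N, N⁆)
    (hZc : ∀ z ∈ Z, ∀ k ∈ N, z * k = k * z)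
    (hcongr : ∀ ψ : G → ℂ, IsIrrCharacter G ψ →
      (∀ z ∈ Z, ∀ z' ∈ Z, z ≠ 1 → z' ≠ 1 → ψ ((z : L) : G) = ψ ((z' : L) : G)) →
      ∀ z ∈ Z, z ≠ 1 → ∃ n d : ℤ, ψ ((z : L) : G) = n ∧ ψ 1 = d ∧ (Nat.card N : ℤ) ∣ d - n) :
    IsCoherent (↑((ntAbove N ⊥ \ ntAbove N Z) ∪ ntAbove N ⁅N, N⁆) : Set (L → ℂ)) {1}ᶜ
      (fun α : L → ℂ => indFun L α) := by
  have hZN : Z ≤ N := hZN'.trans (Subgroup.commutator_le_left N N)
  have hodd := odd_card_of N hp hp2 hpm he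
  have he0 : 0 < N.index := Nat.pos_of_ne_zero N.index_ne_zero_of_finite
  have hτ1 : ∀ α ∈ zspanOn (↑(ntAbove N ⊥) : Set (L → ℂ)) {1}ᶜ, indFun L α 1 = 0 := fun α hα => by
    rw [CT.indFun_one_eval, (OddChar.zspanOn_iff.mp hα).2, mul_zero]
  haveI := OddChar.frob_nilpotent N hC hN1 hNt
  haveI : Group.IsSolvable N := inferInstance
  set X := ntAbove N ⊥ \ ntAbove N Z with hX
  set Y := ntAbove N ⁅N, N⁆ with hY
  have hXs : X ⊆ ntAbove N ⊥ := Finset.sdiff_subset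
  have hYs : Y ⊆ ntAbove N ⊥ := ntAbove_subset N _
  have hdisj : Disjoint X Y :=
    Finset.disjoint_left.mpr fun φ h h' => (Finset.mem_sdiff.mp h).2 (ntAbove_mono N hZN' h')
  have hirr : ∀ φ ∈ ntAbove N (⊥ : Subgroup L), IsIrrCharacter L φ := fun φ h => irr_of_mem N hC h
  -- the two coherent sets
  have hXcoh := central_coherent N hC (fun α : L → ℂ => indFun L α) hτ hτ1 hN1 hNt hp hp2 hpm he Z hZ1 hZN hZc
  rw [← hX] at hXcoh
  obtain ⟨⟨α₀, hα₀, hα₀ne⟩, σ, hσ, hσag⟩ := hXcoh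
  have hXne : X.Nonempty := by
    by_contra h
    rw [Finset.not_nonempty_iff_eq_empty] at h
    rw [h] at hα₀
    refine hα₀ne ?_
    have h1 := hα₀.1
    simpa [zspan, Submodule.span_empty] using h1
  obtain ⟨χ₀, hχ₀, hmin⟩ := Finset.exists_min_image X CT.deg hXne
  have hχ₀c : Cfsg.conjFun χ₀ ∈ X := conj_mem_sdiff N hχ₀
  have hχ₀ne : Cfsg.conjFun χ₀ ≠ χ₀ := conj_ne N hC hodd (hXs hχ₀)
  have hYne : Y.Nonempty := by
    rw [← Finset.card_pos]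
    refine Nat.pos_of_ne_zero fun h0 => ?_
    have h := card_mul N hC ⁅N, N⁆ le_rfl
    rw [← hY, h0, zero_mul, zero_add, Feit.relIndex_commutator N hC] at h
    haveI : Nontrivial N := (Subgroup.nontrivial_iff_ne_bot _).mpr hN1
    exact (Group.IsSolvable.commutator_lt_top_of_nontrivial (G := N)).ne (Subgroup.index_eq_one.mp h.symm)
  obtain ⟨η₀, hη₀⟩ := hYne
  have hη₀c : Cfsg.conjFun η₀ ∈ Y := conj_mem N hη₀
  have hη₀ne : Cfsg.conjFun η₀ ≠ η₀ := conj_ne N hC hodd (hYs hη₀)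
  have hYdeg : ∀ η ∈ Y, η 1 = (N.index : ℂ) := fun η h => by
    rw [CT.deg_eq (CT.isCharacter_of_isIrr (hirr η (hYs h))), deg_of_comm N hC le_rfl h]
  obtain ⟨-, τY, hτY, hτYag⟩ := Feit.base_coherent N hC (fun α : L → ℂ => indFun L α) hτ hτ1 ⁅N, N⁆ le_rfl
    (two_le_of_conj hη₀ hη₀c hη₀ne)
  rw [← hY] at hτY hτYag
  obtain ⟨b, hb, -⟩ := pgroup_deg N hC hp hpm hZN hZc (hXs hχ₀)
  obtain ⟨a, ha⟩ : ∃ a, a = p ^ b := ⟨_, rfl⟩
  rw [← ha] at hb
  have ha0 : 0 < a := ha ▸ pow_pos hp.pos b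
  have hχ₀1 : χ₀ 1 = (N.index : ℂ) * a := by
    rw [CT.deg_eq (CT.isCharacter_of_isIrr (hirr _ (hXs hχ₀))), hb]; push_cast; ring
  have ht : ∀ φ ∈ X, ∃ t : ℕ, 0 < t ∧ CT.deg φ = t * (N.index * a) := by
    intro φ hφ
    obtain ⟨c, hc, -⟩ := pgroup_deg N hC hp hpm hZN hZc (hXs hφ)
    have h := hmin φ hφ
    rw [hc, hb, ha] at h
    have hbc := (Nat.pow_le_pow_iff_right hp.one_lt).mp (Nat.le_of_mul_le_mul_left h he0)
    refine ⟨p ^ (c - b), pow_pos hp.pos _, ?_⟩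
    rw [hc, ha, mul_left_comm, ← pow_add, Nat.sub_add_cancel hbc]
  choose! t ht0 htdeg using ht
  have hφ1 : ∀ φ ∈ X, φ 1 = (t φ : ℂ) * ((N.index : ℂ) * a) := fun φ h => by
    rw [CT.deg_eq (CT.isCharacter_of_isIrr (hirr φ (hXs h))), htdeg φ h]; push_cast; ring
  have htχ : t χ₀ = 1 := by
    have h := htdeg χ₀ hχ₀
    rw [hb] at h
    exact (Nat.mul_eq_right (Nat.mul_pos he0 ha0).ne').mp h.symm
  have htc : t (Cfsg.conjFun χ₀) = 1 := by
    have h := htdeg _ hχ₀c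
    rw [deg_conj N hC (hXs hχ₀), hb] at h
    exact (Nat.mul_eq_right (Nat.mul_pos he0 ha0).ne').mp h.symm
  -- orthogonality
  have hS1531 := fun σ' (h1 : IsLinearIsometryOn (zspan (↑X : Set (L → ℂ))) σ')
      (h2 : ∀ θ ∈ zspanOn (↑X : Set (L → ℂ)) {1}ᶜ, σ' θ = indFun L θ) τ'
      (h3 : IsLinearIsometryOn (zspan (↑Y : Set (L → ℂ))) τ')
      (h4 : ∀ θ ∈ zspanOn (↑Y : Set (L → ℂ)) {1}ᶜ, τ' θ = indFun L θ) =>
    S1531.result L (↑(ntAbove N ⊥) : Set (L → ℂ)) ↑X ↑Y hirr (Finset.coe_subset.mpr hXs)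
      (Finset.coe_subset.mpr hYs) (Finset.disjoint_coe.mpr hdisj) ⟨_, hχ₀c, _, hχ₀, hχ₀ne⟩
      ⟨_, hη₀c, _, hη₀, hη₀ne⟩ (fun α : L → ℂ => indFun L α) hτ hτ1 σ' τ' h1 h2 h3 h4
  have hσirr : ∀ φ ∈ X, φ ∈ zspan (↑X : Set (L → ℂ)) := fun φ h => OddChar.zspan_self h
  have hτirr : ∀ η ∈ Y, η ∈ zspan (↑Y : Set (L → ℂ)) := fun η h => OddChar.zspan_self h
  obtain ⟨horth, -⟩ := hS1531 σ hσ hσag τY hτY hτYag
  have hin : ∀ φ ∈ ntAbove N (⊥ : Subgroup L), ∀ ψ ∈ ntAbove N (⊥ : Subgroup L),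
      classInner φ ψ = if φ = ψ then 1 else 0 := fun φ h ψ h' => CT.irr_inner (hirr φ h) (hirr ψ h')
  have hmX : ∀ φ ∈ X, φ - (t φ : ℤ) • χ₀ ∈ zspanOn (↑X : Set (L → ℂ)) {1}ᶜ := fun φ h =>
    OddChar.zspanOn_iff.mpr ⟨OddChar.zspan_sub (hσirr φ h) (OddChar.zspan_smul _ (hσirr χ₀ hχ₀)),
      by simp [hφ1 φ h, hχ₀1]⟩
  have hmY : ∀ η ∈ Y, η - η₀ ∈ zspanOn (↑Y : Set (L → ℂ)) {1}ᶜ := fun η h =>
    OddChar.zspanOn_iff.mpr ⟨OddChar.zspan_sub (hτirr η h) (hτirr η₀ hη₀), by simp [hYdeg η h, hYdeg η₀ hη₀]⟩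
  have hXs' : (↑X : Set (L → ℂ)) ⊆ ↑(ntAbove N (⊥ : Subgroup L)) := Finset.coe_subset.mpr hXs
  have hYs' : (↑Y : Set (L → ℂ)) ⊆ ↑(ntAbove N (⊥ : Subgroup L)) := Finset.coe_subset.mpr hYs
  obtain ⟨v, hvdef⟩ : ∃ v, v = χ₀ - (a : ℤ) • η₀ := ⟨_, rfl⟩
  have hv : v ∈ zspanOn (↑(ntAbove N ⊥) : Set (L → ℂ)) {1}ᶜ :=
    hvdef ▸ OddChar.zspanOn_iff.mpr ⟨OddChar.zspan_sub (OddChar.zspan_self (hXs hχ₀))
      (OddChar.zspan_smul _ (OddChar.zspan_self (hYs hη₀))), by simp [hχ₀1, hYdeg η₀ hη₀, mul_comm]⟩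
  obtain ⟨β, hβ⟩ : ∃ β, β = indFun L v := ⟨_, rfl⟩
  have hβg : IsGeneralizedCharacter G β := hβ ▸ hτ.2.2.2 v hv
  have hne0 : χ₀ ≠ η₀ := fun e => Finset.disjoint_left.mp hdisj hχ₀ (e ▸ hη₀)
  have hXY : ∀ φ ∈ X, ∀ η ∈ Y, φ ≠ η := fun φ h η h' e => Finset.disjoint_left.mp hdisj h (e ▸ h')
  have hββ : classInner β β = 1 + (a : ℂ) ^ 2 := by
    rw [hβ, hτ.2.2.1 v hv v hv, hvdef]
    simp only [CT.classInner_sub_left, CT.classInner_sub_right, OddChar.classInner_zsmul_left,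
      OddChar.classInner_zsmul_right, hin _ (hXs hχ₀) _ (hXs hχ₀), hin _ (hXs hχ₀) _ (hYs hη₀),
      hin _ (hYs hη₀) _ (hXs hχ₀), hin _ (hYs hη₀) _ (hYs hη₀), if_pos, if_neg hne0, if_neg (Ne.symm hne0)]
    push_cast
    ring
  obtain ⟨x, hx⟩ := OddChar.gen_inner_int hβg (hσ.2.2.2 χ₀ (hσirr χ₀ hχ₀))
  obtain ⟨y, hy⟩ := OddChar.gen_inner_int hβg (hτY.2.2.2 η₀ (hτirr η₀ hη₀))
  have hcX : ∀ φ ∈ X, classInner β (σ φ) = (t φ : ℂ) * ((x : ℂ) - 1) + if φ = χ₀ then 1 else 0 := by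
    intro φ hφ
    have h : classInner β (σ (φ - (t φ : ℤ) • χ₀)) = classInner v (φ - (t φ : ℤ) • χ₀) := by
      rw [hσag _ (hmX φ hφ), hβ]
      exact hτ.2.2.1 v hv _ (OddChar.zspanOn_mono hXs' (hmX φ hφ))
    rw [OddChar.iso_zspan_sub hσ (hσirr φ hφ) (OddChar.zspan_smul _ (hσirr χ₀ hχ₀)),
      hσ.2.1 _ (hσirr χ₀ hχ₀), hvdef] at h
    simp only [CT.classInner_sub_left, CT.classInner_sub_right, OddChar.classInner_zsmul_left,
      OddChar.classInner_zsmul_right, hx, hin _ (hXs hχ₀) _ (hXs hχ₀), hin _ (hXs hχ₀) _ (hXs hφ),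
      hin _ (hYs hη₀) _ (hXs hχ₀), hin _ (hYs hη₀) _ (hXs hφ), if_pos, if_neg (Ne.symm hne0),
      if_neg (hXY φ hφ η₀ hη₀).symm] at h
    by_cases h' : φ = χ₀
    · subst h'; rw [if_pos rfl] at h ⊢; push_cast at h; linear_combination h
    · rw [if_neg (Ne.symm h')] at h; rw [if_neg h']; push_cast at h; linear_combination h
  have hcY : ∀ η ∈ Y, classInner β (τY η) = ((y : ℂ) + a) - if η = η₀ then (a : ℂ) else 0 := by
    intro η hη
    have h : classInner β (τY (η - η₀)) = classInner v (η - η₀) := by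
      rw [hτYag _ (hmY η hη), hβ]
      exact hτ.2.2.1 v hv _ (OddChar.zspanOn_mono hYs' (hmY η hη))
    rw [OddChar.iso_zspan_sub hτY (hτirr η hη) (hτirr η₀ hη₀), hvdef] at h
    simp only [CT.classInner_sub_left, CT.classInner_sub_right, OddChar.classInner_zsmul_left, hy,
      hin _ (hXs hχ₀) _ (hYs hη), hin _ (hXs hχ₀) _ (hYs hη₀), hin _ (hYs hη₀) _ (hYs hη),
      hin _ (hYs hη₀) _ (hYs hη₀), if_pos, if_neg hne0, if_neg (hXY χ₀ hχ₀ η hη)] at h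
    by_cases h' : η = η₀
    · subst h'; rw [if_pos rfl] at h ⊢; push_cast at h; linear_combination h
    · rw [if_neg (Ne.symm h')] at h; rw [if_neg h']; push_cast at h; linear_combination h
  -- the congruence
  obtain ⟨k, hk⟩ : ∃ k : ℤ, y + (a : ℤ) = a * k := by
    obtain ⟨μ, hμ⟩ : ∃ μ, μ = τY η₀ := ⟨_, rfl⟩
    have hμs : OddChar.IsSigned μ := hμ ▸ OddChar.isometry_signed hτY hη₀ (hirr η₀ (hYs hη₀))
    have hμc : IsClassFunction G μ := CT.isClassFunction_of_isGen (OddChar.isSigned_isGen hμs)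
    have hrg := CT.isGen_restrict L (OddChar.isSigned_isGen hμs)
    obtain ⟨r, hr⟩ := OddChar.gen_inner_int hrg (CT.isGen_of_isIrr (hirr χ₀ (hXs hχ₀)))
    obtain ⟨m₀, hm₀⟩ := OddChar.gen_inner_int hrg (CT.isGen_of_isIrr (hirr η₀ (hYs hη₀)))
    have hrX : ∀ φ ∈ X, classInner (fun h : L => μ h) φ = ((r : ℂ) / ((N.index : ℂ) * a)) * φ 1 := by
      intro φ hφ
      have h : classInner μ (indFun L (φ - (t φ : ℤ) • χ₀)) = 0 := by
        rw [← show σ (φ - (t φ : ℤ) • χ₀) = indFun L (φ - (t φ : ℤ) • χ₀) from hσag _ (hmX φ hφ),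
          OddChar.iso_zspan_sub hσ (hσirr φ hφ) (OddChar.zspan_smul _ (hσirr χ₀ hχ₀)),
          hσ.2.1 _ (hσirr χ₀ hχ₀), CT.classInner_sub_right, OddChar.classInner_zsmul_right, hμ,
          OddChar.isSigned_inner_symm_eq_zero (horth φ hφ η₀ hη₀),
          OddChar.isSigned_inner_symm_eq_zero (horth χ₀ hχ₀ η₀ hη₀), mul_zero, sub_zero]
      rw [CT.frobenius_reciprocity' L hμc, CT.classInner_sub_right, OddChar.classInner_zsmul_right, hr,
        sub_eq_zero] at h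
      have hne : (N.index : ℂ) * a ≠ 0 :=
        mul_ne_zero (Nat.cast_ne_zero.mpr he0.ne') (Nat.cast_ne_zero.mpr ha0.ne')
      rw [h, hφ1 φ hφ, mul_left_comm, div_mul_cancel₀ _ hne, Int.cast_natCast]
    have hdv : ∀ z ∈ Z, z ≠ 1 → (a : ℂ) * (μ 1 - μ ((z : L) : G)) = (r : ℂ) * (Nat.card N : ℂ) := by
      intro z hz hz1
      have h := diff_value N hC Z hZN (CT.isClassFunction_of_isGen hrg) _ hrX hz hz1
      rw [OneMemClass.coe_one, ← N.card_mul_index] at h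
      rw [h]
      have h1 : (N.index : ℂ) ≠ 0 := Nat.cast_ne_zero.mpr he0.ne'
      have h2 : (a : ℂ) ≠ 0 := Nat.cast_ne_zero.mpr ha0.ne'
      push_cast
      field_simp
    have haC : (a : ℂ) ≠ 0 := Nat.cast_ne_zero.mpr ha0.ne'
    obtain ⟨z, hz, hz1⟩ : ∃ z ∈ Z, z ≠ 1 := by
      by_contra h
      push Not at h
      exact hZ1 (Subgroup.eq_bot_iff_forall _ |>.mpr h)
    have hconst : ∀ w ∈ Z, ∀ w' ∈ Z, w ≠ 1 → w' ≠ 1 → μ ((w : L) : G) = μ ((w' : L) : G) := by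
      intro w hw w' hw' h1 h1'
      exact sub_right_injective (mul_left_cancel₀ haC ((hdv w hw h1).trans (hdv w' hw' h1').symm))
    obtain ⟨w, hw⟩ : ∃ w : ℤ, μ 1 - μ ((z : L) : G) = ((Nat.card N : ℤ) * w : ℤ) := by
      rcases hμs with hi | hi
      · obtain ⟨n, d, h1, h2, w, hw⟩ := hcongr μ hi hconst z hz hz1
        exact ⟨w, by rw [h1, h2, ← hw]; push_cast; ring⟩
      · obtain ⟨n, d, h1, h2, w, hw⟩ := hcongr (-μ) hi
          (fun u hu u' hu' h1 h1' => congrArg Neg.neg (hconst u hu u' hu' h1 h1')) z hz hz1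
        simp only [Pi.neg_apply] at h1 h2
        exact ⟨-w, by rw [mul_neg, ← hw]; push_cast; linear_combination h1 - h2⟩
    have hrw : r = a * w := by
      have h := hdv z hz hz1
      rw [hw] at h
      have h' : ((Nat.card N : ℤ) : ℂ) * ((a * w : ℤ) : ℂ) = ((Nat.card N : ℤ) : ℂ) * (r : ℂ) := by
        push_cast at h ⊢
        linear_combination h
      exact (Int.cast_injective (mul_left_cancel₀ (by simp) h')).symm
    have hyv : (y : ℂ) = (r : ℂ) - (a : ℂ) * m₀ := by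
      rw [← hy, ← hμ, hβ, CT.frobenius_reciprocity L v hμc, hvdef, CT.classInner_sub_left,
        OddChar.classInner_zsmul_left, ← CT.classInner_conj_symm (fun h : L => μ h) χ₀,
        ← CT.classInner_conj_symm (fun h : L => μ h) η₀, hr, hm₀]
      simp
    have hyz : y = r - (a : ℤ) * m₀ := by exact_mod_cast hyv
    exact ⟨w - m₀ + 1, by rw [hyz, hrw]; ring⟩
  -- the norm
  obtain ⟨f, hf⟩ : ∃ f : ℤ, f = x - 1 := ⟨_, rfl⟩
  let F : (L → ℂ) → (G → ℂ) := fun φ => if φ ∈ X then σ φ else τY φ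
  let c : (L → ℂ) → ℤ := fun φ => if φ ∈ X then (t φ : ℤ) * f + (if φ = χ₀ then 1 else 0)
    else (a : ℤ) * k - (if φ = η₀ then (a : ℤ) else 0)
  have hFX : ∀ φ ∈ X, F φ = σ φ := fun φ h => if_pos h
  have hFY : ∀ η ∈ Y, F η = τY η := fun η h => if_neg (Finset.disjoint_right.mp hdisj h)
  have hnorm : ∀ φ ∈ X ∪ Y, classInner (F φ) (F φ) = 1 := by
    intro φ hφ
    rcases Finset.mem_union.mp hφ with h | h
    · rw [hFX φ h, hσ.2.2.1 φ (hσirr φ h) φ (hσirr φ h), hin _ (hXs h) _ (hXs h), if_pos rfl]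
    · rw [hFY φ h, hτY.2.2.1 φ (hτirr φ h) φ (hτirr φ h), hin _ (hYs h) _ (hYs h), if_pos rfl]
  have hck : ((y : ℂ) + a) = (a : ℂ) * (k : ℂ) := by exact_mod_cast hk
  have hcoef : ∀ φ ∈ X ∪ Y, classInner β (F φ) = (c φ : ℂ) := by
    intro φ hφ
    rcases Finset.mem_union.mp hφ with h | h
    · rw [hFX φ h, hcX φ h]
      simp only [c, if_pos h, hf]
      split_ifs <;> push_cast <;> ring
    · rw [hFY φ h, hcY φ h, hck]
      simp only [c, if_neg (Finset.disjoint_right.mp hdisj h)]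
      split_ifs <;> push_cast <;> ring
  obtain ⟨hbn, -⟩ := OddChar.bessel (X ∪ Y) F (fun φ => (c φ : ℂ)) β
    (fun i hi j hj hij => by
      rcases Finset.mem_union.mp hi with h | h <;> rcases Finset.mem_union.mp hj with h' | h'
      · rw [hFX i h, hFX j h', hσ.2.2.1 i (hσirr i h) j (hσirr j h'), hin _ (hXs h) _ (hXs h'), if_neg hij]
      · rw [hFX i h, hFY j h']; exact horth i h j h'
      · rw [hFY i h, hFX j h']; exact OddChar.isSigned_inner_symm_eq_zero (horth j h' i h)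
      · rw [hFY i h, hFY j h', hτY.2.2.1 i (hτirr i h) j (hτirr j h'), hin _ (hYs h) _ (hYs h'), if_neg hij])
    (fun i hi => by rw [hnorm i hi, mul_one, hcoef i hi])
  obtain ⟨W, hW⟩ : ∃ W, W = β - ∑ φ ∈ X ∪ Y, (c φ : ℂ) • F φ := ⟨_, rfl⟩
  rw [← hW] at hbn
  obtain ⟨T, hT⟩ : ∃ T : ℤ, T = ∑ φ ∈ X, (t φ : ℤ) ^ 2 := ⟨_, rfl⟩
  have hsumc : ∑ φ ∈ X ∪ Y, c φ ^ 2 =
      1 + (a : ℤ) ^ 2 + (f ^ 2 * T + 2 * f + (a : ℤ) ^ 2 * ((Y.card : ℤ) * k ^ 2 - 2 * k)) := by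
    rw [Finset.sum_union hdisj,
      Finset.sum_congr rfl (s₁ := X) (g := fun φ => (t φ : ℤ) ^ 2 * f ^ 2 + if φ = χ₀ then 2 * f + 1 else 0)
        fun φ h => ?_,
      Finset.sum_congr rfl (s₁ := Y)
        (g := fun η => (a : ℤ) ^ 2 * k ^ 2 + if η = η₀ then (a : ℤ) ^ 2 - 2 * (a : ℤ) ^ 2 * k else 0) fun η h => ?_,
      Finset.sum_add_distrib, Finset.sum_add_distrib, Finset.sum_ite_eq', Finset.sum_ite_eq', if_pos hχ₀,
      if_pos hη₀, ← Finset.sum_mul, ← hT, Finset.sum_const, nsmul_eq_mul]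
    · ring
    · simp only [c, if_neg (Finset.disjoint_right.mp hdisj h)]
      split_ifs <;> ring
    · simp only [c, if_pos h]
      split_ifs with h'
      · rw [h', htχ]; push_cast; ring
      · ring
  have hWn : classInner W W = ((1 + (a : ℤ) ^ 2 - ∑ φ ∈ X ∪ Y, c φ ^ 2 : ℤ) : ℂ) := by
    rw [hbn, hββ, Finset.sum_congr rfl (g := fun φ => ((c φ ^ 2 : ℤ) : ℂ)) fun φ hφ => by
      rw [hnorm φ hφ, mul_one, map_intCast]; push_cast; ring]
    push_cast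
    ring
  have hle : f ^ 2 * T + 2 * f + (a : ℤ) ^ 2 * ((Y.card : ℤ) * k ^ 2 - 2 * k) ≤ 0 := by
    have h := OddChar.classInner_self_re_nonneg W
    rw [hWn, hsumc, Complex.intCast_re, Int.cast_nonneg_iff] at h
    linarith
  have hpair : ({χ₀, Cfsg.conjFun χ₀} : Finset (L → ℂ)) ⊆ X := by
    intro φ hφ
    simp only [Finset.mem_insert, Finset.mem_singleton] at hφ
    rcases hφ with rfl | rfl <;> assumption
  have hTpair : T = 2 + ∑ φ ∈ X \ {χ₀, Cfsg.conjFun χ₀}, (t φ : ℤ) ^ 2 := by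
    rw [hT, ← Finset.sum_sdiff hpair, Finset.sum_pair hχ₀ne.symm, htχ, htc]
    ring
  have hT2 : 2 ≤ T := by
    rw [hTpair]
    have : 0 ≤ ∑ φ ∈ X \ {χ₀, Cfsg.conjFun χ₀}, (t φ : ℤ) ^ 2 := Finset.sum_nonneg fun φ _ => sq_nonneg _
    linarith
  have hY2 : (2 : ℤ) ≤ (Y.card : ℤ) := by exact_mod_cast two_le_of_conj hη₀ hη₀c hη₀ne
  obtain ⟨hfcase, hkcase⟩ := arith (by exact_mod_cast ha0) hT2 hY2 hle
  have hW0 : W = 0 := by
    apply OddChar.eq_zero_of_norm_re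
    have h0 : f ^ 2 * T + 2 * f + (a : ℤ) ^ 2 * ((Y.card : ℤ) * k ^ 2 - 2 * k) = 0 := by
      rcases hfcase with h1 | ⟨h1, h2⟩ <;> rcases hkcase with h3 | ⟨h3, h4⟩ <;> subst h1 <;> subst h3 <;>
        (try rw [h2]) <;> (try rw [h4]) <;> ring
    rw [hWn, hsumc, h0, Complex.intCast_re]
    simp
  obtain ⟨σ', hσ', hσ'ag, hσ's⟩ : ∃ σ' : (L → ℂ) → (G → ℂ), IsLinearIsometryOn (zspan (↑X : Set (L → ℂ))) σ' ∧
      (∀ θ ∈ zspanOn (↑X : Set (L → ℂ)) {1}ᶜ, σ' θ = indFun L θ) ∧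
      ∑ φ ∈ X, (c φ : ℂ) • F φ = σ' χ₀ := by
    rcases hfcase with h0 | ⟨h0, h2⟩
    · refine ⟨σ, hσ, hσag, ?_⟩
      rw [Finset.sum_eq_single χ₀ (fun φ h hne => by simp [c, if_pos h, hne, h0])
        (fun h => absurd hχ₀ h), hFX χ₀ hχ₀]
      simp [c, if_pos hχ₀, h0]
    · have hXeq : X = {χ₀, Cfsg.conjFun χ₀} := by
        refine Finset.Subset.antisymm (fun φ hφ => ?_) hpair
        by_contra hno
        have h1 : (t φ : ℤ) ^ 2 ≤ ∑ φ ∈ X \ {χ₀, Cfsg.conjFun χ₀}, (t φ : ℤ) ^ 2 :=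
          Finset.single_le_sum (f := fun φ => (t φ : ℤ) ^ 2) (fun _ _ => sq_nonneg _)
            (Finset.mem_sdiff.mpr ⟨hφ, hno⟩)
        have h3 : (1 : ℤ) ≤ (t φ : ℤ) := by exact_mod_cast ht0 φ hφ
        nlinarith
      obtain ⟨σ', h1, h2', h3⟩ := flip X hχ₀ (fun ξ h => hirr ξ (hXs h)) hχ₀c hχ₀ne
        (by rw [hXeq, Finset.card_pair hχ₀ne.symm]) σ hσ
      refine ⟨σ', h1, fun θ hθ => (h2' θ hθ).trans (hσag θ hθ), ?_⟩
      rw [h3, Finset.sum_eq_single (Cfsg.conjFun χ₀) (fun φ h hne => ?_) (fun h => absurd hχ₀c h), hFX _ hχ₀c]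
      · simp [c, if_pos hχ₀c, hχ₀ne, htc, h0]
      · rw [hXeq, Finset.mem_insert, Finset.mem_singleton] at h
        obtain rfl := h.resolve_right hne
        simp [c, if_pos hχ₀, htχ, h0]
  obtain ⟨τ', hτ', hτ'ag, hτ's⟩ : ∃ τ' : (L → ℂ) → (G → ℂ), IsLinearIsometryOn (zspan (↑Y : Set (L → ℂ))) τ' ∧
      (∀ θ ∈ zspanOn (↑Y : Set (L → ℂ)) {1}ᶜ, τ' θ = indFun L θ) ∧
      ∑ φ ∈ Y, (c φ : ℂ) • F φ = -((a : ℂ) • τ' η₀) := by
    rcases hkcase with h0 | ⟨h0, h2⟩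
    · refine ⟨τY, hτY, hτYag, ?_⟩
      rw [Finset.sum_eq_single η₀ (fun φ h hne => by simp [c, if_neg (Finset.disjoint_right.mp hdisj h), hne, h0])
        (fun h => absurd hη₀ h), hFY η₀ hη₀]
      simp [c, if_neg (Finset.disjoint_right.mp hdisj hη₀), h0]
    · have hcard : Y.card = 2 := by exact_mod_cast h2
      obtain ⟨τ', h1, h2', h3⟩ := flip Y hη₀ (fun ξ h => hirr ξ (hYs h)) hη₀c hη₀ne hcard τY hτY
      refine ⟨τ', h1, fun θ hθ => (h2' θ hθ).trans (hτYag θ hθ), ?_⟩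
      have hYeq : Y = {η₀, Cfsg.conjFun η₀} := by
        refine (Finset.eq_of_subset_of_card_le ?_ ?_).symm
        · intro φ hφ
          simp only [Finset.mem_insert, Finset.mem_singleton] at hφ
          rcases hφ with rfl | rfl <;> assumption
        · rw [hcard, Finset.card_pair hη₀ne.symm]
      rw [h3, Finset.sum_eq_single (Cfsg.conjFun η₀) (fun φ h hne => ?_) (fun h => absurd hη₀c h), hFY _ hη₀c]
      · simp [c, if_neg (Finset.disjoint_right.mp hdisj hη₀c), hη₀ne, h0]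
      · rw [hYeq, Finset.mem_insert, Finset.mem_singleton] at h
        obtain rfl := h.resolve_right hne
        simp [c, if_neg (Finset.disjoint_right.mp hdisj hη₀), h0]
  have hβeq : β = σ' χ₀ - (a : ℂ) • τ' η₀ := by
    rw [hW, sub_eq_zero] at hW0
    rw [hW0, Finset.sum_union hdisj, hσ's, hτ's, sub_eq_add_neg]
  rw [Finset.coe_union]
  refine (hS1531 σ' hσ' hσ'ag τ' hτ' hτ'ag).2 ⟨χ₀, hχ₀, η₀, hη₀, ?_⟩
  have h1 : χ₀ 1 • η₀ - η₀ 1 • χ₀ = (-(N.index : ℂ)) • v := by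
    funext g
    simp [hvdef, hχ₀1, hYdeg η₀ hη₀]
    ring
  show indFun L _ = _
  rw [h1, CT.indFun_smul, ← hβ, hβeq, hχ₀1, hYdeg η₀ hη₀]
  funext g
  simp
  ring

open Classical in
theorem sibley (hN1 : N ≠ ⊥) (hNt : N ≠ ⊤) {p m : ℕ} (hp : p.Prime) (hp2 : p ≠ 2)
    (hpm : Nat.card N = p ^ m) (he : Odd N.index) (Z : Subgroup L) [Z.Normal] (hZ1 : Z ≠ ⊥) (hZN' : Z ≤ ⁅N, N⁆)
    (hZc : ∀ z ∈ Z, ∀ k ∈ N, z * k = k * z)
    (hcongr : ∀ ψ : G → ℂ, IsIrrCharacter G ψ →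
      (∀ z ∈ Z, ∀ z' ∈ Z, z ≠ 1 → z' ≠ 1 → ψ ((z : L) : G) = ψ ((z' : L) : G)) →
      ∀ z ∈ Z, z ≠ 1 → ∃ n d : ℤ, ψ ((z : L) : G) = n ∧ ψ 1 = d ∧ (Nat.card N : ℤ) ∣ d - n) :
    IsCoherent (↑(ntAbove N ⊥) : Set (L → ℂ)) {1}ᶜ (fun α : L → ℂ => indFun L α) := by
  have hU := union_coherent L N hC hτ hN1 hNt hp hp2 hpm he Z hZ1 hZN' hZc hcongr
  have hZN : Z ≤ N := hZN'.trans (Subgroup.commutator_le_left N N)
  have hodd := odd_card_of N hp hp2 hpm he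
  have he0 : 0 < N.index := Nat.pos_of_ne_zero N.index_ne_zero_of_finite
  have hτ1 : ∀ α ∈ zspanOn (↑(ntAbove N ⊥) : Set (L → ℂ)) {1}ᶜ, indFun L α 1 = 0 := fun α hα => by
    rw [CT.indFun_one_eval, (OddChar.zspanOn_iff.mp hα).2, mul_zero]
  refine irr_grow _ _ (fun φ h => irr_of_mem N hC h)
    (Finset.union_subset Finset.sdiff_subset (ntAbove_subset N _)) _ hτ hτ1 hU fun χ hχ hχU => ?_
  obtain ⟨c, hc, hcd⟩ := pgroup_deg N hC hp hpm hZN hZc hχ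
  have hc0 : c ≠ 0 := fun h => hχU (Finset.mem_union_right _ (Feit.linear_mem N hC hχ (by rw [hc, h, pow_zero, mul_one])))
  haveI := OddChar.frob_nilpotent N hC hN1 hNt
  haveI : Group.IsSolvable N := inferInstance
  obtain ⟨η₀, hη₀⟩ : (ntAbove N ⁅N, N⁆).Nonempty := by
    rw [← Finset.card_pos]
    refine Nat.pos_of_ne_zero fun h0 => ?_
    have h := card_mul N hC ⁅N, N⁆ le_rfl
    rw [h0, zero_mul, zero_add, Feit.relIndex_commutator N hC] at h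
    haveI : Nontrivial N := (Subgroup.nontrivial_iff_ne_bot _).mpr hN1
    exact (Group.IsSolvable.commutator_lt_top_of_nontrivial (G := N)).ne (Subgroup.index_eq_one.mp h.symm)
  refine ⟨η₀, Finset.mem_union_right _ hη₀, by rw [deg_of_comm N hC le_rfl hη₀, hc]; exact dvd_mul_right _ _, ?_⟩
  refine lt_of_lt_of_le ?_ (Finset.sum_le_sum_of_subset (s := ntAbove N ⊥ \ ntAbove N Z) fun φ hφ =>
    Finset.mem_filter.mpr ⟨Finset.sdiff_subset hφ, Or.inl (Finset.mem_union_left _ hφ)⟩)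
  have hsum := sum_sdiff N hC Z
  have hZ2 := two_index_lt N hC hodd Z hZ1 hZN
  have hmul := Subgroup.relIndex_mul_relIndex ⊥ Z N bot_le hZN
  rw [Subgroup.relIndex_bot_left, Subgroup.relIndex_bot_left] at hmul
  rw [← hmul] at hsum
  rw [deg_of_comm N hC le_rfl hη₀, hc]
  have hpc : 2 ≤ p ^ c := Nat.one_lt_pow hc0 hp.one_lt
  have hle : p ^ (2 * c) ≤ Z.relIndex N :=
    Nat.le_of_dvd (Nat.pos_of_ne_zero Subgroup.index_ne_zero_of_finite) hcd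
  have h1 : 2 * N.index * p ^ c < 2 * N.index * Z.relIndex N := by
    refine Nat.mul_lt_mul_of_pos_left (lt_of_lt_of_le ?_ hle) (by omega)
    exact Nat.pow_lt_pow_right hp.one_lt (by omega)
  have h2 : (2 * N.index + 1) * Z.relIndex N ≤ Nat.card Z * Z.relIndex N := Nat.mul_le_mul_right _ hZ2
  nlinarith

end Cfsg.Agent.CohExt.Sibley
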