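import Cfsg.Agent.Lib.CohExt.Feit
import Cfsg.Agent.Lib.CT.Tables

/-!
# The characters nontrivial on a central subgroup of an odd order Frobenius kernel
-/

set_option autoImplicit false
set_option linter.all false

namespace Cfsg.Agent.CohExt.Sibley

open scoped ComplexConjugate commutatorElement
open Cfsg.Agent.CohExt.FrobSet

universe u v

variable {M : Type u} [Group M] [Fintype M] (N : Subgroup M) [hN : N.Normal]
  (hC : ∀ n ∈ N, n ≠ 1 → Subgroup.centralizer ({n} : Set M) ≤ N)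
include hC

theorem comm_of_even_index (hN1 : N ≠ ⊥) (hNt : N ≠ ⊤) (he : 2 ∣ N.index) : IsMulCommutative N := by
  haveI : Fact (Nat.Prime 2) := ⟨Nat.prime_two⟩
  have h2N : ¬ 2 ∣ Nat.card N := fun h => FrobSet.coprime_index N hC hN1 hNt Nat.prime_two h he
  obtain ⟨x, hx⟩ := exists_prime_orderOf_dvd_card' (G := M) 2 (he.trans N.index_dvd_card)
  have hxN : x ∉ N := fun h => h2N (hx ▸ Subgroup.orderOf_dvd_natCard N h)
  have hxx : x * x = 1 := by rw [← sq, ← hx]; exact pow_orderOf_eq_one x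
  have hxinv : x⁻¹ = x := inv_eq_of_mul_eq_one_right hxx
  let f : N → N := fun k => ⟨(k : M)⁻¹ * (x * (k : M) * x⁻¹), N.mul_mem (N.inv_mem k.2) (hN.conj_mem _ k.2 x)⟩
  have hf : Function.Surjective f := by
    refine Finite.injective_iff_surjective.mp fun a b e => ?_
    have e' : (a : M)⁻¹ * (x * (a : M) * x⁻¹) = (b : M)⁻¹ * (x * (b : M) * x⁻¹) := congrArg Subtype.val e
    by_contra hne
    have h1 : (b : M) * (a : M)⁻¹ ≠ 1 := fun h => hne (Subtype.ext (mul_inv_eq_one.mp h).symm)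
    apply hxN
    refine hC _ (N.mul_mem b.2 (N.inv_mem a.2)) h1 (Subgroup.mem_centralizer_singleton_iff.mpr ?_)
    calc x * ((b : M) * (a : M)⁻¹) = (x * (b : M) * x⁻¹) * ((x * (a : M) * x⁻¹))⁻¹ * x := by group
      _ = ((b : M) * ((b : M)⁻¹ * (x * (b : M) * x⁻¹))) * ((a : M) * ((a : M)⁻¹ * (x * (a : M) * x⁻¹)))⁻¹ * x := by group
      _ = (b : M) * (a : M)⁻¹ * x := by rw [e']; group
  have hinv : ∀ y : N, x * (y : M) * x⁻¹ = (y : M)⁻¹ := by
    intro y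
    obtain ⟨k, rfl⟩ := hf y
    show x * ((k : M)⁻¹ * (x * (k : M) * x⁻¹)) * x⁻¹ = ((k : M)⁻¹ * (x * (k : M) * x⁻¹))⁻¹
    rw [show x * ((k : M)⁻¹ * (x * (k : M) * x⁻¹)) * x⁻¹ = (x * (k : M)⁻¹ * x) * (k : M) * (x⁻¹ * x⁻¹) by group,
      hxinv, hxx, mul_one, mul_inv_rev, inv_inv]
    congr 1
    simp [mul_inv_rev, hxinv, mul_assoc]
  refine ⟨⟨fun a b => Subtype.ext (inv_injective ?_)⟩⟩
  show ((a : M) * b)⁻¹ = ((b : M) * a)⁻¹
  rw [← Subgroup.coe_mul, ← hinv (a * b), Subgroup.coe_mul,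
    show x * ((a : M) * b) * x⁻¹ = (x * (a : M) * x⁻¹) * (x * (b : M) * x⁻¹) by group, hinv a, hinv b, mul_inv_rev]

omit hC in
theorem odd_card_of {p m : ℕ} (hp : p.Prime) (hp2 : p ≠ 2) (hpm : Nat.card N = p ^ m) (he : Odd N.index) :
    Odd (Nat.card M) := by
  rw [← N.card_mul_index, hpm]
  exact ((hp.odd_of_ne_two hp2).pow).mul he

theorem conj_ne (hodd : Odd (Nat.card M)) {φ : M → ℂ} (hφ : φ ∈ ntAbove N ⊥) : Cfsg.conjFun φ ≠ φ := by
  intro e
  obtain ⟨hirr, k, hk, hne⟩ := (mem_bot_iff N hC).mp hφ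
  have h := CT.real_irr_eq_one_of_odd hodd (χ := ⟨φ, hirr⟩) fun g => Complex.conj_eq_iff_im.mp (congrFun e g)
  have h' : φ = fun _ => 1 := congrArg Subtype.val h
  exact hne (by rw [h'])

omit hC in
theorem conj_mem {A : Subgroup M} {φ : M → ℂ} (hφ : φ ∈ ntAbove N A) : Cfsg.conjFun φ ∈ ntAbove N A :=
  (mem_ntAbove N).mpr (above_conj N ((mem_ntAbove N).mp hφ))

omit hC in
open Classical in
theorem conj_mem_sdiff {Z : Subgroup M} {φ : M → ℂ} (hφ : φ ∈ ntAbove N ⊥ \ ntAbove N Z) :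
    Cfsg.conjFun φ ∈ ntAbove N ⊥ \ ntAbove N Z := by
  obtain ⟨h1, h2⟩ := Finset.mem_sdiff.mp hφ
  exact Finset.mem_sdiff.mpr ⟨conj_mem N h1, fun h => h2 (by simpa [OddChar.conjFun_conjFun] using conj_mem N h)⟩

omit hC in
theorem two_le_of_conj {T : Finset (M → ℂ)} {φ : M → ℂ} (h : φ ∈ T) (hc : Cfsg.conjFun φ ∈ T)
    (hne : Cfsg.conjFun φ ≠ φ) : 2 ≤ T.card :=
  Finset.one_lt_card.mpr ⟨_, hc, _, h, hne⟩

theorem deg_conj {φ : M → ℂ} (hφ : φ ∈ ntAbove N ⊥) : CT.deg (Cfsg.conjFun φ) = CT.deg φ := by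
  have h1 := CT.deg_eq (CT.isCharacter_of_isIrr (irr_of_mem N hC hφ))
  have h2 := CT.deg_eq (CT.isCharacter_of_isIrr (irr_of_mem N hC (conj_mem N hφ)))
  rw [OddChar.conjFun_one_of_char (CT.isCharacter_of_isIrr (irr_of_mem N hC hφ)), h1] at h2
  exact_mod_cast h2.symm

open Classical in
theorem sum_sdiff (Z : Subgroup M) [Z.Normal] :
    ∑ φ ∈ ntAbove N ⊥ \ ntAbove N Z, CT.deg φ ^ 2 + N.index * Z.relIndex N = N.index * Nat.card N := by
  have h0 := sum_deg N hC (⊥ : Subgroup M)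
  have hZ := sum_deg N hC Z
  rw [Subgroup.relIndex_bot_left, ← Finset.sum_sdiff (ntAbove_subset N Z)] at h0
  rw [← hZ, ← h0]
  ring

open Classical in
/-- `z` in `Z#` has at least `e` conjugates, none inverse to another. -/
theorem two_index_lt (hodd : Odd (Nat.card M)) (Z : Subgroup M) [Z.Normal] (hZ1 : Z ≠ ⊥) (hZN : Z ≤ N) :
    2 * N.index + 1 ≤ Nat.card Z := by
  haveI := Fintype.ofFinite Z
  haveI := Fintype.ofFinite (M ⧸ N)
  obtain ⟨z, hz, hz1⟩ : ∃ z ∈ Z, z ≠ 1 := by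
    by_contra h
    push Not at h
    exact hZ1 (Subgroup.eq_bot_iff_forall _ |>.mpr h)
  let O : Finset M := Finset.univ.image fun g : M => g * z * g⁻¹
  have hO : N.index ≤ O.card := by
    rw [Subgroup.index_eq_card, Nat.card_eq_fintype_card, ← Finset.card_univ]
    refine Finset.card_le_card_of_injOn (fun q : M ⧸ N => q.out * z * q.out⁻¹)
      (fun q _ => Finset.mem_image.mpr ⟨_, Finset.mem_univ _, rfl⟩) fun a _ b _ e => ?_
    have e' : a.out * z * a.out⁻¹ = b.out * z * b.out⁻¹ := e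
    have hmem : a.out⁻¹ * b.out ∈ N := by
      refine hC z (hZN hz) hz1 (Subgroup.mem_centralizer_singleton_iff.mpr ?_)
      calc a.out⁻¹ * b.out * z = a.out⁻¹ * (b.out * z * b.out⁻¹) * b.out := by group
        _ = z * (a.out⁻¹ * b.out) := by rw [← e']; group
    rw [← a.out_eq', ← b.out_eq']
    exact QuotientGroup.eq.mpr hmem
  have hdisj : Disjoint O (O.image (·⁻¹)) := by
    rw [Finset.disjoint_left]
    intro y hy hy'
    obtain ⟨g, -, rfl⟩ := Finset.mem_image.mp hy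
    obtain ⟨y', hy'', e⟩ := Finset.mem_image.mp hy'
    obtain ⟨h, -, rfl⟩ := Finset.mem_image.mp hy''
    refine hz1 (CT.eq_one_of_conj_inv_of_odd hodd (g := z) ?_)
    refine isConj_iff.mpr ⟨h⁻¹ * g, ?_⟩
    calc h⁻¹ * g * z * (h⁻¹ * g)⁻¹ = h⁻¹ * (g * z * g⁻¹) * h := by group
      _ = h⁻¹ * (h * z * h⁻¹)⁻¹ * h := by rw [← e]
      _ = z⁻¹ := by group
  have h1 : (1 : M) ∉ O ∪ O.image (·⁻¹) := by
    simp only [Finset.mem_union, Finset.mem_image, Finset.mem_univ, true_and, O]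
    rintro (⟨g, e⟩ | ⟨y, ⟨g, rfl⟩, e⟩)
    · exact hz1 (conj_eq_one_iff.mp e)
    · exact hz1 (conj_eq_one_iff.mp (inv_eq_one.mp e))
  have hsub : insert 1 (O ∪ O.image (·⁻¹)) ⊆ Finset.univ.filter (· ∈ Z) := by
    intro y hy
    simp only [Finset.mem_insert, Finset.mem_union, Finset.mem_image, Finset.mem_univ, true_and, O] at hy
    refine Finset.mem_filter.mpr ⟨Finset.mem_univ _, ?_⟩
    rcases hy with rfl | ⟨g, rfl⟩ | ⟨y', ⟨g, rfl⟩, rfl⟩
    · exact Z.one_mem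
    · exact ‹Z.Normal›.conj_mem z hz g
    · exact Z.inv_mem (‹Z.Normal›.conj_mem z hz g)
  have := Finset.card_le_card hsub
  rw [Finset.card_insert_of_notMem h1, Finset.card_union_of_disjoint hdisj,
    Finset.card_image_of_injective _ inv_injective, ← Fintype.card_subtype, ← Nat.card_eq_fintype_card] at this
  omega

variable {G : Type v} [Group G] [Fintype G] (τ : (M → ℂ) → (G → ℂ))
  (hτ : IsLinearIsometryOn (zspanOn (↑(ntAbove N ⊥) : Set (M → ℂ)) {1}ᶜ) τ)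
  (hτ1 : ∀ α ∈ zspanOn (↑(ntAbove N ⊥) : Set (M → ℂ)) {1}ᶜ, τ α 1 = 0)
include hτ hτ1

open Classical in
theorem central_coherent (hN1 : N ≠ ⊥) (hNt : N ≠ ⊤) {p m : ℕ} (hp : p.Prime) (hp2 : p ≠ 2)
    (hpm : Nat.card N = p ^ m) (he : Odd N.index) (Z : Subgroup M) [Z.Normal] (hZ1 : Z ≠ ⊥) (hZN : Z ≤ N)
    (hZc : ∀ z ∈ Z, ∀ k ∈ N, z * k = k * z) :
    IsCoherent (↑(ntAbove N ⊥ \ ntAbove N Z) : Set (M → ℂ)) {1}ᶜ τ := by
  have hodd := odd_card_of N hp hp2 hpm he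
  have he0 : 0 < N.index := Nat.pos_of_ne_zero N.index_ne_zero_of_finite
  have hcop : Nat.Coprime (N.index ^ 2) p :=
    Nat.Coprime.pow_left 2 (hp.coprime_iff_not_dvd.mpr
      (FrobSet.coprime_index N hC hN1 hNt hp (hpm ▸ dvd_pow_self p (fun h0 => hN1
        (Subgroup.card_eq_one.mp (by rw [hpm, h0, pow_zero])))))).symm
  set T := ntAbove N ⊥ \ ntAbove N Z with hT
  have hTsub : T ⊆ ntAbove N ⊥ := Finset.sdiff_subset
  have hsub' : (↑T : Set (M → ℂ)) ⊆ ↑(ntAbove N ⊥) := Finset.coe_subset.mpr hTsub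
  have hsum := sum_sdiff N hC Z
  rw [← hT] at hsum
  have hne : T.Nonempty := by
    by_contra h
    rw [Finset.not_nonempty_iff_eq_empty] at h
    rw [h, Finset.sum_empty, zero_add] at hsum
    have h1 := Nat.eq_of_mul_eq_mul_left he0 hsum
    have h2 := Subgroup.relIndex_mul_relIndex ⊥ Z N bot_le hZN
    rw [← Subgroup.relIndex_bot_left N] at h1
    rw [← h1, Subgroup.relIndex_bot_left] at h2
    exact hZ1 (Subgroup.card_eq_one.mp (Nat.eq_of_mul_eq_mul_right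
      (Nat.pos_of_ne_zero Subgroup.index_ne_zero_of_finite) (h2.trans (one_mul _).symm)))
  obtain ⟨φ₀, hφ₀, hmin⟩ := Finset.exists_min_image T CT.deg hne
  set U := T.filter fun φ => CT.deg φ = CT.deg φ₀ with hU
  have hUT : U ⊆ T := Finset.filter_subset _ _
  have hUsub' : (↑U : Set (M → ℂ)) ⊆ ↑(ntAbove N ⊥) := Finset.coe_subset.mpr (hUT.trans hTsub)
  have hUcoh : IsCoherent (↑U : Set (M → ℂ)) {1}ᶜ τ := by
    refine irr_equal_degree U (fun φ h => irr_of_mem N hC (hTsub (hUT h))) ?_ (fun φ h ψ h' => ?_) τ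
      (Feit.iso_mono τ hUsub' hτ) fun α hα => hτ1 α (OddChar.zspanOn_mono hUsub' hα)
    · exact two_le_of_conj (Finset.mem_filter.mpr ⟨hφ₀, rfl⟩)
        (Finset.mem_filter.mpr ⟨conj_mem_sdiff N hφ₀, deg_conj N hC (hTsub hφ₀)⟩)
        (conj_ne N hC hodd (hTsub hφ₀))
    · rw [CT.deg_eq (CT.isCharacter_of_isIrr (irr_of_mem N hC (hTsub (hUT h)))),
        CT.deg_eq (CT.isCharacter_of_isIrr (irr_of_mem N hC (hTsub (hUT h')))),
        (Finset.mem_filter.mp h).2, (Finset.mem_filter.mp h').2]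
  refine irr_grow T U (fun φ h => irr_of_mem N hC (hTsub h)) hUT τ (Feit.iso_mono τ hsub' hτ)
    (fun α hα => hτ1 α (OddChar.zspanOn_mono hsub' hα)) hUcoh fun χ hχ hχU => ?_
  obtain ⟨a, ha, hadvd⟩ := pgroup_deg N hC hp hpm hZN hZc (hTsub hχ)
  obtain ⟨b, hb, -⟩ := pgroup_deg N hC hp hpm hZN hZc (hTsub hφ₀)
  have hba : b < a := by
    by_contra hno
    refine hχU (Finset.mem_filter.mpr ⟨hχ, le_antisymm ?_ (hmin χ hχ)⟩)
    rw [ha, hb]
    exact Nat.mul_le_mul_left _ (Nat.pow_le_pow_right hp.pos (by omega))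
  refine ⟨φ₀, Finset.mem_filter.mpr ⟨hφ₀, rfl⟩, by rw [ha, hb]; exact Nat.mul_dvd_mul_left _ (Nat.pow_dvd_pow p hba.le), ?_⟩
  set low := T.filter fun φ => CT.deg φ < CT.deg χ with hlowdef
  have hdvdlow : p ^ (2 * a) ∣ ∑ φ ∈ low, CT.deg φ ^ 2 := by
    have hhigh : p ^ (2 * a) ∣ ∑ φ ∈ T.filter (fun φ => ¬ CT.deg φ < CT.deg χ), CT.deg φ ^ 2 := by
      refine Finset.dvd_sum fun φ hφ => ?_
      obtain ⟨hφT, hge⟩ := Finset.mem_filter.mp hφ
      obtain ⟨c, hc, -⟩ := pgroup_deg N hC hp hpm hZN hZc (hTsub hφT)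
      rw [hc, ha, not_lt] at hge
      have hac := (Nat.pow_le_pow_iff_right hp.one_lt).mp (Nat.le_of_mul_le_mul_left hge he0)
      rw [hc, mul_pow, ← pow_mul]
      exact dvd_mul_of_dvd_right (Nat.pow_dvd_pow p (by omega)) _
    have h1 : p ^ (2 * a) ∣ ∑ φ ∈ T, CT.deg φ ^ 2 := by
      have h2 : p ^ (2 * a) ∣ N.index * Nat.card N :=
        dvd_mul_of_dvd_right (hadvd.trans (Subgroup.relIndex_dvd_card Z N)) _
      rw [← hsum] at h2
      exact (Nat.dvd_add_left (dvd_mul_of_dvd_right hadvd _)).mp h2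
    rw [← Finset.sum_filter_add_sum_filter_not T (fun φ => CT.deg φ < CT.deg χ)] at h1
    exact (Nat.dvd_add_left hhigh).mp h1
  have hdvd2 : N.index ^ 2 * p ^ (2 * a) ∣ ∑ φ ∈ low, CT.deg φ ^ 2 := by
    refine Nat.Coprime.mul_dvd_of_dvd_of_dvd (hcop.pow_right _) (Finset.dvd_sum fun φ hφ => ?_) hdvdlow
    obtain ⟨c, hc, -⟩ := pgroup_deg N hC hp hpm hZN hZc (hTsub (Finset.mem_of_mem_filter φ hφ))
    rw [hc, mul_pow]
    exact dvd_mul_right _ _
  have hpos : 0 < ∑ φ ∈ low, CT.deg φ ^ 2 := by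
    have h0 : φ₀ ∈ low := Finset.mem_filter.mpr ⟨hφ₀, by
      rw [ha, hb]; exact Nat.mul_lt_mul_of_pos_left (Nat.pow_lt_pow_right hp.one_lt hba) he0⟩
    refine lt_of_lt_of_le ?_ (Finset.single_le_sum (fun φ _ => Nat.zero_le _) h0)
    rw [hb]; exact pow_pos (Nat.mul_pos he0 (pow_pos hp.pos b)) 2
  refine lt_of_lt_of_le ?_ ((Nat.le_of_dvd hpos hdvd2).trans (Finset.sum_le_sum_of_subset fun φ hφ => ?_))
  · rw [ha, hb, show 2 * (N.index * p ^ b) * (N.index * p ^ a) = N.index ^ 2 * (2 * (p ^ a * p ^ b)) by ring]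
    refine Nat.mul_lt_mul_of_pos_left ?_ (pow_pos he0 2)
    calc 2 * (p ^ a * p ^ b) < p * (p ^ a * p ^ b) := Nat.mul_lt_mul_of_pos_right
          (by have := hp.two_le; omega) (Nat.mul_pos (pow_pos hp.pos a) (pow_pos hp.pos b))
      _ = p ^ (a + (b + 1)) := by ring
      _ ≤ _ := Nat.pow_le_pow_right hp.pos (by omega)
  · exact Finset.mem_filter.mpr ⟨Finset.mem_of_mem_filter φ hφ, Or.inr (Finset.mem_filter.mp hφ).2⟩

end Cfsg.Agent.CohExt.Sibley
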