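import Cfsg.Agent.Lib.CohExt.FrobSet
import Cfsg.Agent.Lib.CT.TI

/-!
# Induction from a Frobenius group with trivial intersection kernel
-/

set_option autoImplicit false
set_option linter.all false

namespace Cfsg.Agent.CohExt.TIInd

open scoped ComplexConjugate
open Cfsg.Agent.CohExt.FrobSet

universe u

variable {G : Type u} [Group G] [Fintype G] (L : Subgroup G) [Fintype L] (N : Subgroup L) [hN : N.Normal]
  (hC : ∀ n ∈ N, n ≠ 1 → Subgroup.centralizer ({n} : Set L) ≤ N)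
include hC

theorem zspan_props {α : L → ℂ} (hα : α ∈ zspan (↑(ntAbove N ⊥) : Set (L → ℂ))) :
    IsClassFunction L α ∧ IsGeneralizedCharacter L α ∧ ∀ x : L, x ∉ N → α x = 0 := by
  suffices key : ∀ β ∈ zspan (↑(ntAbove N ⊥) : Set (L → ℂ)),
      IsClassFunction L β ∧ IsGeneralizedCharacter L β ∧ ∀ x : L, x ∉ N → β x = 0 from key α hα
  refine OddChar.zspan_induction (fun φ hφ => ?_) ?_ ?_ ?_
  · obtain ⟨θ, hθ, -, -, rfl, -⟩ := exists_theta N hC hφ
    exact ⟨CT.isClassFunction_indFun N θ, CT.isGen_of_isCharacter (CT.isCharacter_indFun N (CT.isCharacter_of_isIrr hθ)),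
      fun x hx => CT.indFun_eq_zero_of_not_mem N _ hx⟩
  · refine ⟨fun g h => rfl, ?_, fun x _ => rfl⟩
    exact ⟨fun _ => 1, fun _ => 1, CT.isCharacter_one, CT.isCharacter_one, (sub_self _).symm⟩
  · rintro a - b - ⟨a1, a2, a3⟩ ⟨b1, b2, b3⟩
    refine ⟨fun g h => by simp [a1 g h, b1 g h], ?_, fun x hx => by simp [a3 x hx, b3 x hx]⟩
    obtain ⟨p, q, hp, hq, rfl⟩ := a2
    obtain ⟨p', q', hp', hq', rfl⟩ := b2
    exact ⟨p + p', q + q', CT.isCharacter_add hp hp', CT.isCharacter_add hq hq', by abel⟩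
  · rintro n a - ⟨a1, a2, a3⟩
    exact ⟨fun g h => by simp [a1 g h], OddChar.isGen_int_smul n a2, fun x hx => by simp [a3 x hx]⟩

omit hC in
theorem ti_set (hTI : ∀ g : G, g ∉ L → ∀ n : L, n ∈ N → ∀ h : g * (n : G) * g⁻¹ ∈ L, (⟨_, h⟩ : L) ∈ N → n = 1) :
    CT.IsTI L (↑(N.map L.subtype) : Set G) := by
  rintro g hg _ ⟨n, hn, rfl⟩ ⟨m, hm, e⟩
  have hmem : g * (n : G) * g⁻¹ ∈ L := by
    rw [show g * (n : G) * g⁻¹ = (m : G) from e.symm]; exact m.2
  have key : (⟨g * (n : G) * g⁻¹, hmem⟩ : L) = m := Subtype.ext (by exact e.symm)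
  have := hTI g hg n hn hmem (key ▸ hm)
  rw [this]; rfl

variable (hTI : ∀ g : G, g ∉ L → ∀ n : L, n ∈ N → ∀ h : g * (n : G) * g⁻¹ ∈ L, (⟨_, h⟩ : L) ∈ N → n = 1)
include hTI

theorem iso : IsLinearIsometryOn (zspanOn (↑(ntAbove N ⊥) : Set (L → ℂ)) {1}ᶜ) (fun α : L → ℂ => indFun L α) := by
  refine ⟨fun a _ b _ => CT.indFun_add L a b, fun a _ n => ?_, fun a ha b hb => ?_, fun a ha => ?_⟩
  · show indFun L (n • a) = n • indFun L a
    rw [← Int.cast_smul_eq_zsmul ℂ, CT.indFun_smul, Int.cast_smul_eq_zsmul]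
  · obtain ⟨-, -, ha3⟩ := zspan_props L N hC ha.1
    obtain ⟨hb1, -, hb3⟩ := zspan_props L N hC hb.1
    refine CT.classInner_indFun_TI (ti_set L N hTI) hb1 (fun x hx => ha3 x fun h => hx ?_)
      (fun x hx => hb3 x fun h => hx ?_) (OddChar.zspanOn_iff.mp ha).2
    · exact Subgroup.mem_map_of_mem _ h
    · exact Subgroup.mem_map_of_mem _ h
  · exact CT.isGen_indFun L (zspan_props L N hC ha.1).2.1

omit hTI in
theorem map_one : ∀ α ∈ zspanOn (↑(ntAbove N ⊥) : Set (L → ℂ)) {1}ᶜ, indFun L α 1 = 0 := by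
  intro α hα
  rw [CT.indFun_one_eval, (OddChar.zspanOn_iff.mp hα).2, mul_zero]

end Cfsg.Agent.CohExt.TIInd
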