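import Cfsg.Agent.Lib.CohExt.Sibley
import Cfsg.Agent.Lib.CohExt.TIInd
import Cfsg.Agent.Lib.CohExt.CentralValue
import Cfsg.Agent.Lib.LocalEvenB.Basic

/-!
# Coherence for a TI subgroup with Frobenius normalizer
-/

set_option autoImplicit false
set_option linter.all false

namespace Cfsg.Agent.CohExt.SibleyMain

open scoped ComplexConjugate commutatorElement
open Cfsg.Agent.CohExt.FrobSet

universe u

variable {G : Type u} [Group G] [Fintype G]

theorem set_eq (K L : Subgroup G) [Fintype L] [(K.subgroupOf L).Normal]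
    (hC : ∀ n ∈ K.subgroupOf L, n ≠ 1 → Subgroup.centralizer ({n} : Set L) ≤ K.subgroupOf L) :
    {χ : L → ℂ | IsIrrCharacter L χ ∧ ∃ x : L, (x : G) ∈ K ∧ χ x ≠ χ 1} =
      ↑(ntAbove (K.subgroupOf L) ⊥) :=
  (coe_eq (K.subgroupOf L) hC rfl).symm

theorem hC_sub (K : Subgroup G) (hC : ∀ k ∈ K, k ≠ 1 → Subgroup.centralizer ({k} : Set G) ≤ K) (L : Subgroup G) :
    ∀ n ∈ K.subgroupOf L, n ≠ 1 → Subgroup.centralizer ({n} : Set L) ≤ K.subgroupOf L := by
  intro n hn hn1 c hc
  refine hC n hn (fun e => hn1 (Subtype.ext e)) (Subgroup.mem_centralizer_singleton_iff.mpr ?_)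
  exact congrArg Subtype.val (Subgroup.mem_centralizer_singleton_iff.mp hc)

theorem comm_iff (K L : Subgroup G) (h : K ≤ L) : IsMulCommutative (K.subgroupOf L) ↔ IsMulCommutative K := by
  let e := Subgroup.subgroupOfEquivOfLe h
  constructor
  · intro hc
    exact ⟨⟨fun a b => by
      apply e.symm.injective
      rw [map_mul, map_mul]
      exact hc.is_comm.comm _ _⟩⟩
  · intro hc
    exact ⟨⟨fun a b => by
      apply e.injective
      rw [map_mul, map_mul]
      exact hc.is_comm.comm _ _⟩⟩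

theorem comm_index (K L : Subgroup G) (h : K ≤ L) :
    (⁅K.subgroupOf L, K.subgroupOf L⁆.subgroupOf (K.subgroupOf L)).index = (⁅K, K⁆.subgroupOf K).index := by
  show ⁅K.subgroupOf L, K.subgroupOf L⁆.relIndex (K.subgroupOf L) = ⁅K, K⁆.relIndex K
  rw [← Subgroup.relIndex_map_map_of_injective _ _ L.subtype_injective, Subgroup.map_commutator,
    Subgroup.map_subgroupOf_eq_of_le h]

variable (K : Subgroup G) [Fintype ↥(Subgroup.normalizer (K : Set G))]


theorem tau_iso (hC : ∀ n ∈ (K.subgroupOf (Subgroup.normalizer (K : Set G))), n ≠ 1 → Subgroup.centralizer ({n} : Set (Subgroup.normalizer (K : Set G))) ≤ (K.subgroupOf (Subgroup.normalizer (K : Set G)))) (hTI : IsTISubset (K : Set G)) :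
    IsLinearIsometryOn (zspanOn (↑(ntAbove (K.subgroupOf (Subgroup.normalizer (K : Set G))) ⊥) : Set ((Subgroup.normalizer (K : Set G)) → ℂ)) {1}ᶜ) (fun α : (Subgroup.normalizer (K : Set G)) → ℂ => indFun (Subgroup.normalizer (K : Set G)) α) :=
  TIInd.iso (Subgroup.normalizer (K : Set G)) (K.subgroupOf (Subgroup.normalizer (K : Set G))) hC fun g hg n hn _ h' => Subtype.ext (hTI g hg (n : G) hn h')

theorem tau_one : ∀ α ∈ zspanOn (↑(ntAbove (K.subgroupOf (Subgroup.normalizer (K : Set G))) ⊥) : Set ((Subgroup.normalizer (K : Set G)) → ℂ)) {1}ᶜ, indFun (Subgroup.normalizer (K : Set G)) α 1 = 0 := fun α hα => by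
  rw [CT.indFun_one_eval, (OddChar.zspanOn_iff.mp hα).2, mul_zero]

theorem ne_bot (hK : K ≠ ⊥) : (K.subgroupOf (Subgroup.normalizer (K : Set G))) ≠ ⊥ := by
  intro h
  refine hK ?_
  rw [← Subgroup.map_subgroupOf_eq_of_le (Subgroup.le_normalizer (H := K)), h, Subgroup.map_bot]

theorem ne_top (hlt : K < (Subgroup.normalizer (K : Set G))) : (K.subgroupOf (Subgroup.normalizer (K : Set G))) ≠ ⊤ := fun h => hlt.not_ge (Subgroup.subgroupOf_eq_top.mp h)

theorem card_eq : Nat.card (K.subgroupOf (Subgroup.normalizer (K : Set G))) = Nat.card K :=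
  Nat.card_congr (Subgroup.subgroupOfEquivOfLe Subgroup.le_normalizer).toEquiv

section frob

variable (hC : ∀ n ∈ (K.subgroupOf (Subgroup.normalizer (K : Set G))), n ≠ 1 → Subgroup.centralizer ({n} : Set (Subgroup.normalizer (K : Set G))) ≤ (K.subgroupOf (Subgroup.normalizer (K : Set G)))) (hK : K ≠ ⊥) (hlt : K < (Subgroup.normalizer (K : Set G)))
include hC hK hlt

theorem card_ne (hnil : Group.IsNilpotent K) (hna : ¬ IsMulCommutative K) : Nat.card (K.subgroupOf (Subgroup.normalizer (K : Set G))) ≠ ((K.subgroupOf (Subgroup.normalizer (K : Set G)))).index + 1 := by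
  intro he
  haveI := Group.nilpotent_of_mulEquiv (Subgroup.subgroupOfEquivOfLe (Subgroup.le_normalizer (H := K))).symm
  haveI : Group.IsSolvable (K.subgroupOf (Subgroup.normalizer (K : Set G))) := inferInstance
  haveI : Nontrivial (K.subgroupOf (Subgroup.normalizer (K : Set G))) := (Subgroup.nontrivial_iff_ne_bot _).mpr (ne_bot K hK)
  have h := card_mul (K.subgroupOf (Subgroup.normalizer (K : Set G))) hC ⁅(K.subgroupOf (Subgroup.normalizer (K : Set G))), (K.subgroupOf (Subgroup.normalizer (K : Set G)))⁆ le_rfl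
  have h2 := Subgroup.relIndex_mul_relIndex ⊥ ⁅(K.subgroupOf (Subgroup.normalizer (K : Set G))), (K.subgroupOf (Subgroup.normalizer (K : Set G)))⁆ (K.subgroupOf (Subgroup.normalizer (K : Set G))) bot_le (Subgroup.commutator_le_left _ _)
  rw [Subgroup.relIndex_bot_left, Subgroup.relIndex_bot_left, ← h, he] at h2
  have h3 : 2 ≤ Nat.card ↥⁅(K.subgroupOf (Subgroup.normalizer (K : Set G))), (K.subgroupOf (Subgroup.normalizer (K : Set G)))⁆ := by
    refine (Subgroup.one_lt_card_iff_ne_bot _).mpr fun h0 => hna ((comm_iff K (Subgroup.normalizer (K : Set G)) Subgroup.le_normalizer).mp ?_)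
    refine ⟨⟨fun a b => Subtype.ext ?_⟩⟩
    have h4 := Subgroup.commutator_mem_commutator a.2 b.2
    rw [h0, Subgroup.mem_bot, commutatorElement_eq_one_iff_mul_comm] at h4
    exact h4
  have h5 : (ntAbove (K.subgroupOf (Subgroup.normalizer (K : Set G))) ⁅(K.subgroupOf (Subgroup.normalizer (K : Set G))), (K.subgroupOf (Subgroup.normalizer (K : Set G)))⁆).card = 0 := by
    by_contra h0
    have h6 := Nat.mul_le_mul h3 (show ((K.subgroupOf (Subgroup.normalizer (K : Set G)))).index + 1 ≤ (ntAbove (K.subgroupOf (Subgroup.normalizer (K : Set G))) ⁅(K.subgroupOf (Subgroup.normalizer (K : Set G))), (K.subgroupOf (Subgroup.normalizer (K : Set G)))⁆).card * ((K.subgroupOf (Subgroup.normalizer (K : Set G)))).index + 1 from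
      Nat.add_le_add_right (Nat.le_mul_of_pos_left _ (Nat.pos_of_ne_zero h0)) 1)
    rw [h2] at h6
    omega
  rw [h5, zero_mul, zero_add, Feit.relIndex_commutator (K.subgroupOf (Subgroup.normalizer (K : Set G))) hC] at h
  exact (Group.IsSolvable.commutator_lt_top_of_nontrivial (G := (K.subgroupOf (Subgroup.normalizer (K : Set G))))).ne (Subgroup.index_eq_one.mp h.symm)

theorem abelian_cases (hTI : IsTISubset (K : Set G)) (hab : IsMulCommutative K) :
    (Nat.card {χ : (Subgroup.normalizer (K : Set G)) → ℂ // IsIrrCharacter (Subgroup.normalizer (K : Set G)) χ ∧ ∃ x : (Subgroup.normalizer (K : Set G)), (x : G) ∈ K ∧ χ x ≠ χ 1} = 1 ∧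
      Nat.card K = ((K.subgroupOf (Subgroup.normalizer (K : Set G)))).index + 1 ∧ ∀ q : ℕ, q.Prime → q ∣ Nat.card K → IsElementaryAbelian q K) ∨
    IsCoherent (↑(ntAbove (K.subgroupOf (Subgroup.normalizer (K : Set G))) ⊥) : Set ((Subgroup.normalizer (K : Set G)) → ℂ)) {1}ᶜ (fun α : (Subgroup.normalizer (K : Set G)) → ℂ => indFun (Subgroup.normalizer (K : Set G)) α) := by
  classical
  have hab' := (comm_iff K (Subgroup.normalizer (K : Set G)) Subgroup.le_normalizer).mpr hab
  by_cases he : Nat.card (K.subgroupOf (Subgroup.normalizer (K : Set G))) = ((K.subgroupOf (Subgroup.normalizer (K : Set G)))).index + 1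
  · left
    have hbot : ⁅(K.subgroupOf (Subgroup.normalizer (K : Set G))), (K.subgroupOf (Subgroup.normalizer (K : Set G)))⁆ ≤ (⊥ : Subgroup (Subgroup.normalizer (K : Set G))) := by
      rw [Subgroup.commutator_le]
      intro a ha b hb
      rw [Subgroup.mem_bot, commutatorElement_eq_one_iff_mul_comm]
      exact congrArg Subtype.val (hab'.is_comm.comm (⟨a, ha⟩ : (K.subgroupOf (Subgroup.normalizer (K : Set G)))) ⟨b, hb⟩)
    have hc := card_mul (K.subgroupOf (Subgroup.normalizer (K : Set G))) hC ⊥ hbot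
    rw [Subgroup.relIndex_bot_left, he, add_left_inj, Nat.mul_eq_right Subgroup.index_ne_zero_of_finite] at hc
    refine ⟨?_, by rw [← card_eq K]; exact he, fun q hq hqK => ⟨hab, fun k hk => ?_⟩⟩
    · show Nat.card ↥({χ : (Subgroup.normalizer (K : Set G)) → ℂ | IsIrrCharacter (Subgroup.normalizer (K : Set G)) χ ∧ ∃ x : (Subgroup.normalizer (K : Set G)), (x : G) ∈ K ∧ χ x ≠ χ 1}) = 1
      rw [Nat.card_coe_set_eq, set_eq K (Subgroup.normalizer (K : Set G)) hC, Set.ncard_coe_finset, hc]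
    · obtain ⟨φ, hφ⟩ := Finset.card_eq_one.mp hc
      have hφi := (mem_bot_iff (K.subgroupOf (Subgroup.normalizer (K : Set G))) hC).mp (show φ ∈ ntAbove (K.subgroupOf (Subgroup.normalizer (K : Set G))) ⊥ by rw [hφ]; exact Finset.mem_singleton_self _)
      obtain ⟨-, hconj⟩ := CT.FrobKernel.single_class (K.subgroupOf (Subgroup.normalizer (K : Set G))) hC (fun a b => hab'.is_comm.comm a b) ⟨φ, hφi.1⟩ hφi.2
        fun χ hχ => Subtype.ext (Finset.mem_singleton.mp (hφ ▸ (mem_bot_iff (K.subgroupOf (Subgroup.normalizer (K : Set G))) hC).mpr ⟨χ.2, hχ⟩))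
      haveI : Fact q.Prime := ⟨hq⟩
      obtain ⟨a, ha⟩ := exists_prime_orderOf_dvd_card' (G := K) q hqK
      by_cases hk1 : k = 1
      · rw [hk1, one_pow]
      have ha1 : (a : G) ≠ 1 := fun e => hq.one_lt.ne' (ha ▸ orderOf_eq_one_iff.mpr (Subtype.ext e))
      obtain ⟨c, hc'⟩ := isConj_iff.mp (hconj ⟨a, Subgroup.le_normalizer a.2⟩ a.2 ⟨k, Subgroup.le_normalizer hk⟩ hk
        (fun e => ha1 (congrArg Subtype.val e)) (fun e => hk1 (congrArg Subtype.val e)))
      have hck : (c : G) * (a : G) * (c : G)⁻¹ = k := congrArg Subtype.val hc'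
      have haq : (a : G) ^ q = 1 := by
        rw [← SubmonoidClass.coe_pow, ← ha, pow_orderOf_eq_one, OneMemClass.coe_one]
      rw [← hck, conj_pow, haq, mul_one, mul_inv_cancel]
  · right
    refine (Feit.coherent_or (K.subgroupOf (Subgroup.normalizer (K : Set G))) hC _ (tau_iso K hC hTI) (tau_one K) (ne_bot K hK) (ne_top K hlt) he).resolve_right ?_
    rintro ⟨-, -, -, hna, -⟩
    exact hna hab'

theorem is_sylow {p m : ℕ} [hp : Fact p.Prime] (hpm : Nat.card K = p ^ m) :
    ∃ P : Sylow p G, (P : Subgroup G) = K := by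
  have hpK : IsPGroup p K := IsPGroup.of_card hpm
  obtain ⟨P, hP⟩ := hpK.exists_le_sylow
  refine ⟨P, ?_⟩
  by_contra hne
  haveI : Group.IsNilpotent (P : Subgroup G) := P.isPGroup'.isNilpotent
  have hlt' : K.subgroupOf P < ⊤ := by
    refine lt_top_iff_ne_top.mpr fun h => hne (le_antisymm (Subgroup.subgroupOf_eq_top.mp h) hP)
  obtain ⟨g, hg, hgK⟩ := SetLike.exists_of_lt (Group.normalizerCondition_of_isNilpotent _ hlt')
  have hgL : (g : G) ∈ (Subgroup.normalizer (K : Set G)) := by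
    rw [Subgroup.mem_normalizer_iff]
    intro k
    have hg' := Subgroup.mem_normalizer_iff.mp hg
    constructor
    · intro hk
      exact (hg' ⟨k, hP hk⟩).mp hk
    · intro hk
      have h1 : k ∈ (P : Subgroup G) := by
        rw [show k = (g : G)⁻¹ * ((g : G) * k * (g : G)⁻¹) * g by group]
        exact mul_mem (mul_mem (inv_mem g.2) (hP hk)) g.2
      exact (hg' ⟨k, h1⟩).mpr hk
  obtain ⟨j, hj⟩ := P.isPGroup' g
  have hdvd : orderOf (QuotientGroup.mk' (K.subgroupOf (Subgroup.normalizer (K : Set G))) ⟨(g : G), hgL⟩) ∣ p ^ j :=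
    orderOf_dvd_of_pow_eq_one (by
      rw [← map_pow, show (⟨(g : G), hgL⟩ : (Subgroup.normalizer (K : Set G))) ^ p ^ j = 1 from Subtype.ext (congrArg Subtype.val hj : _), map_one])
  have hd2 : orderOf (QuotientGroup.mk' (K.subgroupOf (Subgroup.normalizer (K : Set G))) ⟨(g : G), hgL⟩) ∣ ((K.subgroupOf (Subgroup.normalizer (K : Set G)))).index := by
    rw [Subgroup.index_eq_card]; exact orderOf_dvd_natCard _
  have hpd : p ∣ Nat.card (K.subgroupOf (Subgroup.normalizer (K : Set G))) := by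
    rw [card_eq K, hpm]
    refine dvd_pow_self p fun h0 => hK ?_
    rw [h0, pow_zero] at hpm
    exact Subgroup.card_eq_one.mp hpm
  have hcop : Nat.Coprime (p ^ j) ((K.subgroupOf (Subgroup.normalizer (K : Set G)))).index :=
    Nat.Coprime.pow_left j (hp.out.coprime_iff_not_dvd.mpr
      (coprime_index (K.subgroupOf (Subgroup.normalizer (K : Set G))) hC (ne_bot K hK) (ne_top K hlt) hp.out hpd))
  have h1 := Nat.eq_one_of_dvd_one (hcop ▸ Nat.dvd_gcd hdvd hd2)
  rw [orderOf_eq_one_iff, QuotientGroup.mk'_apply, QuotientGroup.eq_one_iff] at h1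
  exact hgK h1

end frob

section sylow

variable {p : ℕ} [hp : Fact p.Prime] (P : Sylow p G) [Fintype ↥(Subgroup.normalizer ((P : Subgroup G) : Set G))]

theorem congr_hyp (hTI : IsTISubset ((P : Subgroup G) : Set G))
    (hodd : Odd (Nat.card (Subgroup.normalizer ((P : Subgroup G) : Set G))))
    (Z : Subgroup ↥(Subgroup.normalizer ((P : Subgroup G) : Set G))) [Z.Normal]
    (hZ : Z ≤ (P : Subgroup G).subgroupOf _)
    (hZc : ∀ z ∈ Z, ∀ k ∈ (P : Subgroup G).subgroupOf (Subgroup.normalizer ((P : Subgroup G) : Set G)), z * k = k * z) :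
    ∀ ψ : G → ℂ, IsIrrCharacter G ψ →
      (∀ z ∈ Z, ∀ z' ∈ Z, z ≠ 1 → z' ≠ 1 → ψ (z : G) = ψ (z' : G)) →
      ∀ z ∈ Z, z ≠ 1 → ∃ n d : ℤ, ψ (z : G) = n ∧ ψ 1 = d ∧
        (Nat.card ((P : Subgroup G).subgroupOf (Subgroup.normalizer ((P : Subgroup G) : Set G))) : ℤ) ∣ d - n := by
  intro ψ hψ hconst z hz hz1
  rw [Nat.card_congr (Subgroup.subgroupOfEquivOfLe Subgroup.le_normalizer).toEquiv]
  refine central_value_congr P hTI hodd (Z.map (Subgroup.subtype _)) ?_ ?_ ?_ hψ ?_
    (Subgroup.mem_map_of_mem _ hz) (fun e => hz1 (Subtype.ext e))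
  · rintro _ ⟨w, hw, rfl⟩
    exact hZ hw
  · rintro x hx _ ⟨w, hw, rfl⟩
    exact ⟨⟨x, hx⟩ * w * ⟨x, hx⟩⁻¹, ‹Z.Normal›.conj_mem w hw _, rfl⟩
  · rintro _ ⟨w, hw, rfl⟩ y hy
    exact congrArg Subtype.val (hZc w hw ⟨y, Subgroup.le_normalizer hy⟩ hy)
  · rintro _ ⟨w, hw, rfl⟩ _ ⟨w', hw', rfl⟩ h1 h1'
    exact hconst w hw w' hw' (fun e => h1 (congrArg Subtype.val e)) (fun e => h1' (congrArg Subtype.val e))

theorem sylow_coherent (hp2 : p ≠ 2) (hna : ¬ IsMulCommutative (P : Subgroup G))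
    (hTI : IsTISubset ((P : Subgroup G) : Set G))
    (hlt : (P : Subgroup G) < Subgroup.normalizer ((P : Subgroup G) : Set G))
    (hC : ∀ n ∈ (P : Subgroup G).subgroupOf (Subgroup.normalizer ((P : Subgroup G) : Set G)), n ≠ 1 →
      Subgroup.centralizer ({n} : Set ↥(Subgroup.normalizer ((P : Subgroup G) : Set G))) ≤
        (P : Subgroup G).subgroupOf (Subgroup.normalizer ((P : Subgroup G) : Set G))) :
    IsCoherent (↑(ntAbove ((P : Subgroup G).subgroupOf (Subgroup.normalizer ((P : Subgroup G) : Set G))) ⊥) :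
      Set (↥(Subgroup.normalizer ((P : Subgroup G) : Set G)) → ℂ)) {1}ᶜ
      (fun α => indFun (Subgroup.normalizer ((P : Subgroup G) : Set G)) α) := by
  set Q := (P : Subgroup G).subgroupOf (Subgroup.normalizer ((P : Subgroup G) : Set G)) with hQ
  have hP1 : (P : Subgroup G) ≠ ⊥ := fun h => hna ⟨⟨fun a b => by
    haveI : Subsingleton (P : Subgroup G) := by rw [h]; infer_instance
    exact Subsingleton.elim _ _⟩⟩
  have hna' : ¬ IsMulCommutative Q := fun h => hna ((comm_iff _ _ Subgroup.le_normalizer).mp h)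
  have hQ1 : Q ≠ ⊥ := ne_bot (P : Subgroup G) hP1
  have hQt : Q ≠ ⊤ := ne_top (P : Subgroup G) hlt
  obtain ⟨m, hm⟩ := P.isPGroup'.exists_card_eq
  rw [← card_eq (P : Subgroup G)] at hm
  have he : Odd Q.index := by
    rw [← Nat.not_even_iff_odd, even_iff_two_dvd]
    exact fun h => hna' (Sibley.comm_of_even_index Q hC hQ1 hQt h)
  haveI : Group.IsNilpotent (P : Subgroup G) := P.isPGroup'.isNilpotent
  haveI := Group.nilpotent_of_mulEquiv
    (Subgroup.subgroupOfEquivOfLe (Subgroup.le_normalizer (H := (P : Subgroup G)))).symm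
  have hcb : commutator Q ≠ ⊥ := by
    intro h
    refine hna' ⟨⟨fun a b => ?_⟩⟩
    have h4 := Subgroup.commutator_mem_commutator (Subgroup.mem_top a) (Subgroup.mem_top b)
    rw [← commutator_def, h, Subgroup.mem_bot, commutatorElement_eq_one_iff_mul_comm] at h4
    exact h4
  obtain ⟨x, hx, hxc, hx1⟩ := LocalEvenB.exists_mem_center_ne_one (commutator Q) hcb
  let Z := (Subgroup.center Q).map Q.subtype ⊓ ⁅Q, Q⁆
  haveI : ((Subgroup.center Q).map Q.subtype).Normal := inferInstance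
  haveI : Z.Normal := inferInstanceAs ((Subgroup.center Q).map Q.subtype ⊓ ⁅Q, Q⁆).Normal
  have hZ1 : Z ≠ ⊥ := by
    intro h
    refine hx1 (Subtype.ext ?_)
    refine Subgroup.mem_bot.mp (h ▸ Subgroup.mem_inf.mpr ⟨Subgroup.mem_map_of_mem _ hxc, ?_⟩)
    rw [← Subgroup.map_subtype_commutator]
    exact Subgroup.mem_map_of_mem _ hx
  have hZc : ∀ z ∈ Z, ∀ k ∈ Q, z * k = k * z := by
    rintro z ⟨⟨w, hw, rfl⟩, -⟩ k hk
    exact (congrArg Subtype.val (Subgroup.mem_center_iff.mp hw ⟨k, hk⟩)).symm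
  have hodd := Sibley.odd_card_of Q hp.out hp2 hm he
  exact Sibley.sibley _ Q hC (tau_iso (P : Subgroup G) hC hTI) hQ1 hQt hp.out hp2 hm he Z hZ1 inf_le_right hZc
    (congr_hyp P hTI hodd Z (inf_le_right.trans (Subgroup.commutator_le_left Q Q)) hZc)

end sylow

end Cfsg.Agent.CohExt.SibleyMain
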